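import Cfsg.Agent.Lib.Involution.IcosaClosure
import Cfsg.Agent.Lib.Involution.IndexTwo
import Cfsg.Agent.Lib.Involution.Basic
import Cfsg.Agent.Lib.SmallSimple.Basic
import Cfsg.Agent.Lib.PSLTwo.RecogTwo
import Cfsg.Agent.Lib.CharAux
import Mathlib.GroupTheory.SpecificGroups.Dihedral

/-!
Simple groups of order `360` with dihedral involution centralizer.
-/

set_option autoImplicit false
set_option linter.style.haveILetI false

open Subgroup DihedralGroup Cfsg.Agent.Lib

namespace Cfsg.Agent.Lib.Involution

universe u

variable {G : Type u} [Group G] [Finite G]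

/-- A subgroup of index six gives the alternating group. -/
theorem iso_alt_six_of_index [IsSimpleGroup G] (hna : ¬ IsMulCommutative G) (hcard : Nat.card G = 360)
    (H : Subgroup G) (hH : H.index = 6) : Nonempty (G ≃* alternatingGroup (Fin 6)) := by
  obtain ⟨φ, hφ⟩ := SmallSimple.exists_injective_alternating hna H (fun h => by
    rw [h, Subgroup.index_top] at hH; omega)
  haveI : Nontrivial (Fin H.index) := Fin.nontrivial_iff_two_le.mpr (by rw [hH]; norm_num)
  have hφ' : Function.Bijective φ := by
    refine (Nat.bijective_iff_injective_and_card φ).mpr ⟨hφ, ?_⟩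
    rw [hcard, nat_card_alternatingGroup, Nat.card_fin, hH]
    rfl
  exact hH ▸ (⟨MulEquiv.ofBijective φ hφ'⟩ : Nonempty (G ≃* alternatingGroup (Fin H.index)))

section Eight

variable [IsSimpleGroup G] (f : DihedralGroup 4 →* G) (hf : Function.Injective f)
  (hC : centralizer ({f (r 2)} : Set G) = f.range)
  (hone : ∀ u v : G, orderOf u = 2 → orderOf v = 2 → IsConj u v)
  (hcard : Nat.card G = 360) (hna : ¬ IsMulCommutative G)

include hf hC hone in
omit [IsSimpleGroup G] in
/-- An involution is moved to the central one. -/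
lemma eight_transport {u : G} (hu : orderOf u = 2) :
    ∃ c : G, c * u * c⁻¹ = f (r 2) ∧ ∀ g : G, Commute g u → ∃ d, f d = c * g * c⁻¹ := by
  have hz2 : orderOf (f (r 2)) = 2 := by
    rw [orderOf_injective f hf]; exact orderOf_eq_prime (by decide) (by decide)
  obtain ⟨c, hc⟩ := isConj_iff.mp (hone u _ hu hz2)
  refine ⟨c, hc, fun g hg => MonoidHom.mem_range.mp ?_⟩
  rw [← hC, mem_centralizer_singleton_iff, ← hc, conj_mul, conj_mul, hg.eq]

include hf hC hone in
omit [IsSimpleGroup G] in
/-- Commuting with an involution bounds the order. -/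
lemma eight_pow_four {g u : G} (hu : orderOf u = 2) (hg : Commute g u) : g ^ 4 = 1 := by
  obtain ⟨c, -, hd⟩ := eight_transport f hf hC hone hu
  obtain ⟨d, hd⟩ := hd g hg
  have key : ∀ d : DihedralGroup 4, d ^ 4 = 1 := by decide
  have := congrArg f (key d)
  rw [map_pow, map_one, hd, conj_pow, conj_eq_one_iff] at this
  exact this

include hf hC hone hcard hna in
theorem alt_six_of_dihedral_eight : Nonempty (G ≃* alternatingGroup (Fin 6)) := by
  classical
  haveI := Fintype.ofFinite G
  haveI h2f : Fact (Nat.Prime 2) := ⟨Nat.prime_two⟩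
  haveI h3f : Fact (Nat.Prime 3) := ⟨Nat.prime_three⟩
  haveI h5f : Fact (Nat.Prime 5) := ⟨by norm_num⟩
  set z := f (r 2) with hz
  have hz2 : orderOf z = 2 := by
    rw [hz, orderOf_injective f hf]; exact orderOf_eq_prime (by decide) (by decide)
  have heven : ∀ g : G, 2 ∣ orderOf g → g ^ 4 = 1 := fun g hg =>
    eight_pow_four f hf hC hone (orderOf_pow_orderOf_div (orderOf_pos g).ne' hg)
      ((Commute.refl g).pow_right _)
  -- Sylow five
  obtain ⟨hn1, hn5, hn5'⟩ := SmallSimple.card_sylow_facts (p := 5) hna (by rw [hcard]; norm_num)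
  obtain ⟨P5⟩ : Nonempty (Sylow 5 G) := inferInstance
  have hP5 : ∀ P : Sylow 5 G, Nat.card (P : Subgroup G) = 5 := fun P =>
    (SmallSimple.card_sylow_subgroup P (k := 1) (m := 72) (by rw [hcard]; norm_num) (by norm_num)).trans (pow_one 5)
  have hn72 : Nat.card (Sylow 5 G) ∣ 72 := by
    have h := P5.card_dvd_index
    have h' := (P5 : Subgroup G).card_mul_index
    rw [hP5, hcard] at h'
    rwa [show (P5 : Subgroup G).index = 72 by omega] at h
  by_cases hsix : Nat.card (Sylow 5 G) = 6
  · exact iso_alt_six_of_index hna hcard _ ((SmallSimple.card_sylow_eq_index P5).symm.trans hsix)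
  have h36 : Nat.card (Sylow 5 G) = 36 := by
    have hle := Nat.le_of_dvd (by norm_num) hn72
    interval_cases hq : Nat.card (Sylow 5 G) <;> omega
  -- no element of order fifteen
  have hC5 : ∀ y b : G, orderOf y = 5 → orderOf b = 3 → b * y * b⁻¹ ∈ zpowers y → False := by
    intro y b hy hb hby
    obtain ⟨P, hP⟩ := (IsPGroup.of_card (p := 5) (n := 1)
      (by rw [Nat.card_zpowers, hy, pow_one]) : IsPGroup 5 (zpowers y)).exists_le_sylow
    have heq : zpowers y = (P : Subgroup G) :=
      Subgroup.eq_of_le_of_card_ge hP (by rw [hP5, Nat.card_zpowers, hy])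
    have hbN : b ∈ normalizer ((P : Subgroup G) : Set G) := by
      rw [← heq]
      refine mem_normalizer_fintype fun t ht => ?_
      obtain ⟨k, rfl⟩ := mem_zpowers_iff.mp ht
      rw [← conj_zpow]; exact zpow_mem hby k
    have hN : Nat.card (normalizer ((P : Subgroup G) : Set G)) = 10 := by
      have h := (normalizer ((P : Subgroup G) : Set G)).card_mul_index
      rw [← SmallSimple.card_sylow_eq_index P, h36, hcard] at h
      omega
    have := Subgroup.orderOf_mk b hbN ▸ _root_.orderOf_dvd_natCard (⟨b, hbN⟩ : normalizer ((P : Subgroup G) : Set G))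
    rw [hb, hN] at this
    omega
  -- Sylow three
  obtain ⟨hm1, hm3, hm3'⟩ := SmallSimple.card_sylow_facts (p := 3) hna (by rw [hcard]; norm_num)
  have hP3 : ∀ P : Sylow 3 G, Nat.card (P : Subgroup G) = 9 := fun P =>
    SmallSimple.card_sylow_subgroup P (k := 2) (m := 40) (by rw [hcard]; norm_num) (by norm_num)
  have hab3 : ∀ P : Sylow 3 G, IsMulCommutative (P : Subgroup G) := fun P =>
    SmallSimple.isMulCommutative_of_card_prime_sq (p := 3) _ (hP3 P)
  have h10 : Nat.card (Sylow 3 G) = 10 := by
    obtain ⟨P⟩ : Nonempty (Sylow 3 G) := inferInstance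
    have h40 : (P : Subgroup G).index = 40 := by
      have h' := (P : Subgroup G).card_mul_index
      rw [hP3, hcard] at h'
      omega
    have hne := SmallSimple.card_sylow_ne_index hna P (by rw [hcard]; norm_num) (hab3 P)
    have hd : Nat.card (Sylow 3 G) ∣ 40 := h40 ▸ P.card_dvd_index
    rw [h40] at hne
    rw [hcard] at hm3'
    have hle := Nat.le_of_dvd (by norm_num) hd
    interval_cases hq : Nat.card (Sylow 3 G) <;> first | omega | (revert hm3'; norm_num [Nat.factorial])
  -- centralizers of three elements
  have hC3 : ∀ g : G, g ≠ 1 → g ^ 9 = 1 → ∀ P : Sylow 3 G, g ∈ P →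
      centralizer ({g} : Set G) = (P : Subgroup G) := by
    intro g hg1 hg9 P hgP
    have hPC : (P : Subgroup G) ≤ centralizer ({g} : Set G) := fun x hx =>
      mem_centralizer_singleton_iff.mpr (congrArg Subtype.val ((hab3 P).is_comm.comm ⟨x, hx⟩ ⟨g, hgP⟩))
    refine (Subgroup.eq_of_le_of_card_ge hPC ?_).symm
    rw [hP3]
    have hd : Nat.card (centralizer ({g} : Set G)) ∣ 360 := hcard ▸ Subgroup.card_subgroup_dvd_card _
    have h2 : ¬ 2 ∣ Nat.card (centralizer ({g} : Set G)) := by
      intro h
      obtain ⟨t, ht⟩ := exists_prime_orderOf_dvd_card' 2 h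
      have hgt : Commute g (t : G) := (mem_centralizer_singleton_iff.mp t.2).symm
      have h4 := eight_pow_four f hf hC hone (show orderOf (t : G) = 2 by rw [Subgroup.orderOf_coe, ht]) hgt
      refine hg1 ?_
      calc g = g ^ 9 * (g ^ 4)⁻¹ * (g ^ 4)⁻¹ := by group
        _ = 1 := by rw [hg9, h4]; simp
    have h5 : ¬ 5 ∣ Nat.card (centralizer ({g} : Set G)) := by
      intro h
      obtain ⟨y, hy⟩ := exists_prime_orderOf_dvd_card' 5 h
      have hy5 : orderOf (y : G) = 5 := by rw [Subgroup.orderOf_coe, hy]
      have hcy : Commute (y : G) g := mem_centralizer_singleton_iff.mp y.2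
      have key : ∀ b : G, orderOf b = 3 → Commute b (y : G) → False := fun b hb hc =>
        hC5 y b hy5 hb (by rw [hc.eq, mul_inv_cancel_right]; exact mem_zpowers _)
      obtain ⟨i, hi, hgo⟩ := (Nat.dvd_prime_pow Nat.prime_three).mp
        (show orderOf g ∣ 3 ^ 2 from orderOf_dvd_of_pow_eq_one hg9)
      interval_cases i
      · exact hg1 (orderOf_eq_one_iff.mp (by simpa using hgo))
      · exact key g (by simpa using hgo) hcy.symm
      · exact key (g ^ 3) (by rw [orderOf_pow' g (by norm_num), hgo]; norm_num) (hcy.symm.pow_left 3)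
    have h45 : Nat.card (centralizer ({g} : Set G)) ∣ 9 := by
      have e : (360 : ℕ) = 9 * (8 * 5) := by norm_num
      rw [e] at hd
      refine Nat.Coprime.dvd_of_dvd_mul_right (Nat.Coprime.mul_right ?_ ?_) hd
      · exact (show (8 : ℕ) = 2 ^ 3 by norm_num) ▸
          ((Nat.prime_two.coprime_iff_not_dvd.mpr h2).symm.pow_right 3)
      · exact ((show Nat.Prime 5 by norm_num).coprime_iff_not_dvd.mpr h5).symm
    exact Nat.le_of_dvd (by norm_num) h45
  -- no element of order nine
  have hno9 : ∀ g : G, orderOf g ≠ 9 := by
    intro g hg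
    obtain ⟨P, hP⟩ := (IsPGroup.of_card (p := 3) (n := 2)
      (by rw [Nat.card_zpowers, hg]; norm_num) : IsPGroup 3 (zpowers g)).exists_le_sylow
    have heq : zpowers g = (P : Subgroup G) :=
      Subgroup.eq_of_le_of_card_ge hP (by rw [hP3, Nat.card_zpowers, hg])
    have hC' := hC3 g (fun h => by rw [h, orderOf_one] at hg; omega)
      (by rw [← hg]; exact pow_orderOf_eq_one g) P (hP (mem_zpowers g))
    set N := normalizer ((P : Subgroup G) : Set G) with hN
    have hNc : Nat.card N = 36 := by
      have h := N.card_mul_index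
      rw [← SmallSimple.card_sylow_eq_index P, h10, hcard] at h
      omega
    have hcyc : IsCyclic (P : Subgroup G) := heq ▸ inferInstance
    have hrange : Nat.card (normalizerMonoidHom (P : Subgroup G)).range ∣ 6 := by
      have h := Subgroup.card_subgroup_dvd_card (normalizerMonoidHom (P : Subgroup G)).range
      rw [IsCyclic.card_mulAut, hP3] at h
      exact h.trans (by rw [show Nat.totient 9 = 6 from by decide])
    rw [← Subgroup.index_ker, Subgroup.normalizerMonoidHom_ker] at hrange
    have hle : centralizer ((P : Subgroup G) : Set G) ≤ (P : Subgroup G) := fun x hx => by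
      rw [← hC']
      exact mem_centralizer_singleton_iff.mpr (mem_centralizer_iff.mp hx g (hP (mem_zpowers g))).symm
    have hdvd : (P : Subgroup G).relIndex N ∣ 6 :=
      (Subgroup.relIndex_dvd_of_le_left _ hle).trans hrange
    have h4 : (P : Subgroup G).relIndex N = 4 := by
      have h := ((P : Subgroup G).subgroupOf N).card_mul_index
      rw [Nat.card_congr (subgroupOfEquivOfLe le_normalizer).toEquiv, hP3, hNc] at h
      show ((P : Subgroup G).subgroupOf N).index = 4
      omega
    rw [h4] at hdvd
    omega
  -- element orders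
  have horders : ∀ g : G, orderOf g = 1 ∨ orderOf g = 2 ∨ orderOf g = 3 ∨ orderOf g = 4 ∨ orderOf g = 5 := by
    intro g
    by_cases h2 : 2 ∣ orderOf g
    · obtain ⟨i, hi, hgo⟩ := (Nat.dvd_prime_pow Nat.prime_two).mp
        (show orderOf g ∣ 2 ^ 2 from orderOf_dvd_of_pow_eq_one (heven g h2))
      interval_cases i <;> simp_all
    have hd : orderOf g ∣ 360 := hcard ▸ _root_.orderOf_dvd_natCard g
    have hd45 : orderOf g ∣ 45 := by
      have e : (360 : ℕ) = 45 * 8 := by norm_num
      rw [e] at hd
      exact Nat.Coprime.dvd_of_dvd_mul_right ((show (8 : ℕ) = 2 ^ 3 by norm_num) ▸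
        ((Nat.prime_two.coprime_iff_not_dvd.mpr h2).symm.pow_right 3)) hd
    have h15 : ¬ (3 ∣ orderOf g ∧ 5 ∣ orderOf g) := fun ⟨h3, h5⟩ =>
      hC5 _ _ (orderOf_pow_orderOf_div (orderOf_pos g).ne' h5) (orderOf_pow_orderOf_div (orderOf_pos g).ne' h3)
        (by rw [((Commute.refl g).pow_pow _ _).eq, mul_inv_cancel_right]; exact mem_zpowers _)
    have := hno9 g
    have hle := Nat.le_of_dvd (by norm_num) hd45
    interval_cases hq : orderOf g <;> omega
  -- the eighty elements of order three
  let E := Finset.univ.filter fun b : G => orderOf b = 3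
  have hE : E.card = 80 := by
    have h := Cfsg.Agent.Lib.PSLTwo.card_sylow_elements (G := G) (p := 3) (m := 9) hP3 ⟨2, rfl⟩
      (fun P Q g hg hgP hgQ => Sylow.ext (by
        have h9 : g ^ 9 = 1 := by
          have h := pow_card_eq_one' (x := (⟨g, hgP⟩ : (P : Subgroup G)))
          rw [hP3] at h
          exact congrArg Subtype.val h
        rw [← hC3 g hg h9 P hgP, ← hC3 g hg h9 Q hgQ]))
    rw [h10, Nat.card_eq_fintype_card, Fintype.card_subtype] at h
    rw [← show _ = 80 from h]
    congr 1
    ext g
    simp only [E, Finset.mem_filter, Finset.mem_univ, true_and]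
    constructor
    · intro hg
      refine ⟨fun h => by rw [h, orderOf_one] at hg; omega, ?_⟩
      rw [← orderOf_dvd_iff_pow_eq_one, hg]; norm_num
    · rintro ⟨h1, h9⟩
      have hd := orderOf_dvd_of_pow_eq_one h9
      rcases horders g with h | h | h | h | h
      · exact absurd (orderOf_eq_one_iff.mp h) h1
      all_goals first | exact h | (rw [h] at hd; norm_num at hd)
  suffices key : ∃ b ∈ E, orderOf (z * b) = 5 by
    obtain ⟨b, hb, hy⟩ := key
    simp only [E, Finset.mem_filter, Finset.mem_univ, true_and] at hb
    set y := z * b with hy'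
    have hay : z * y = b := by rw [hy', ← mul_assoc, mul_self hz2, one_mul]
    set H := closure ({z, y} : Set G) with hH
    have hle : Nat.card H ≤ 60 := icosa_closure_card (mul_self hz2) (by rw [← hy]; exact pow_orderOf_eq_one y)
      (by rw [hay, ← pow_two, ← pow_succ, show 2 + 1 = orderOf b by rw [hb]]; exact pow_orderOf_eq_one b)
    have hzH : z ∈ H := subset_closure (Or.inl rfl)
    have hyH : y ∈ H := subset_closure (Or.inr rfl)
    have hbH : b ∈ H := hay ▸ mul_mem hzH hyH
    have hdv : ∀ g : G, g ∈ H → orderOf g ∣ Nat.card H := fun g hg =>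
      Subgroup.orderOf_mk g hg ▸ _root_.orderOf_dvd_natCard (⟨g, hg⟩ : H)
    have h30 : 30 ∣ Nat.card H := by
      have a2 := hdv z hzH
      have a3 := hdv b hbH
      have a5 := hdv y hyH
      rw [hz2] at a2; rw [hb] at a3; rw [hy] at a5
      omega
    have hne30 : Nat.card H ≠ 30 := by
      intro h
      obtain ⟨T⟩ : Nonempty (Sylow 2 H) := inferInstance
      have hT : Nat.card (T : Subgroup H) = 2 :=
        (SmallSimple.card_sylow_subgroup T (k := 1) (m := 15) (by rw [h]; norm_num) (by norm_num)).trans (pow_one 2)
      haveI := isCyclic_of_prime_card hT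
      obtain ⟨K, hK⟩ := exists_index_two_of_cyclic_sylow (by rw [h]; decide) T inferInstance
      haveI := Subgroup.normal_of_index_eq_two hK
      have hodd : ∀ (g : H) (k : ℕ), orderOf g = 2 * k + 1 → g ∈ K := fun g k hg => by
        have h1 : g ^ 2 ∈ K := hK ▸ Subgroup.pow_index_mem K g
        have h2 : g = (g ^ 2) ^ (k + 1) := by
          rw [← pow_mul, show 2 * (k + 1) = orderOf g + 1 by omega, pow_add, pow_orderOf_eq_one, one_mul, pow_one]
        rw [h2]; exact pow_mem h1 _
      have hKc : Nat.card K = 15 := by
        have := K.card_mul_index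
        rw [hK, h] at this
        omega
      have hyK := hodd ⟨y, hyH⟩ 2 (by rw [Subgroup.orderOf_mk, hy])
      have hbK := hodd ⟨b, hbH⟩ 1 (by rw [Subgroup.orderOf_mk, hb])
      set y' : K := ⟨_, hyK⟩ with hy''
      have hy'o : orderOf y' = 5 := by rw [hy'', Subgroup.orderOf_mk, Subgroup.orderOf_mk, hy]
      have hidx : (zpowers y').index = 3 := by
        have := (zpowers y').card_mul_index
        rw [Nat.card_zpowers, hy'o, hKc] at this
        omega
      haveI : (zpowers y').Normal := Subgroup.normal_of_index_eq_minFac_card (by rw [hidx, hKc]; norm_num)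
      obtain ⟨k, hk⟩ := mem_zpowers_iff.mp (Subgroup.Normal.conj_mem ‹(zpowers y').Normal› y' (mem_zpowers y') ⟨_, hbK⟩)
      refine hC5 y b hy hb ⟨k, ?_⟩
      have := congrArg (fun v : K => ((v : H) : G)) hk
      simpa [hy''] using this
    have hHcard : Nat.card H = 60 := by
      obtain ⟨q, hq⟩ := h30
      have := Nat.card_pos (α := H)
      have hq2 : q ≤ 2 := by omega
      interval_cases q <;> omega
    refine iso_alt_six_of_index hna hcard H ?_
    have := H.card_mul_index
    rw [hHcard, hcard] at this
    omega
  by_contra hnone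
  push Not at hnone
  -- counting
  let W := (Finset.univ.filter fun d : DihedralGroup 4 => d * d = 1 ∧ d ≠ 1 ∧ d ≠ r 2).image f
  have hW : W.card = 4 := by
    simp only [W]; rw [Finset.card_image_of_injective _ hf]; decide
  have hWmem : ∀ w : G, orderOf w = 2 → w ≠ z → Commute w z → w ∈ W := by
    intro w hw hne hc
    obtain ⟨d, rfl⟩ : w ∈ f.range := hC ▸ mem_centralizer_singleton_iff.mpr hc.eq
    simp only [W, Finset.mem_image, Finset.mem_filter, Finset.mem_univ, true_and]
    exact ⟨d, ⟨hf (by rw [map_mul, map_one, mul_self hw]), fun h => ne_one hw (by rw [h, map_one]),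
      fun h => hne (by rw [h])⟩, rfl⟩
  -- products of order three
  let T3 := E.filter fun b => orderOf (z * b) = 3
  have hT3 : T3.card ≤ 16 := by
    have hv : ∀ b ∈ T3, Commute (b * z * b⁻¹) z ∧ b * (b * z * b⁻¹) * b⁻¹ = z * (b * z * b⁻¹) ∧
        b * z * b⁻¹ ≠ z := by
      intro b hb
      simp only [T3, E, Finset.mem_filter, Finset.mem_univ, true_and] at hb
      obtain ⟨hb3, hzb⟩ := hb
      set v := b * z * b⁻¹ with hv
      set w := b * v * b⁻¹ with hw
      have hv2 : orderOf v = 2 := by rw [hv, orderOf_conj, hz2]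
      have hw2 : orderOf w = 2 := by rw [hw, orderOf_conj, hv2]
      have hbbb : b * b * b = 1 := by
        have := pow_orderOf_eq_one b; rw [hb3] at this; simpa [pow_succ] using this
      have hprod : z * v * w = 1 := by
        have h := pow_orderOf_eq_one (z * b)
        rw [hzb] at h
        calc z * v * w = z * b * (z * b) * (z * b) * (b * b * b)⁻¹ := by rw [hw, hv]; group
          _ = 1 := by rw [hbbb, inv_one, mul_one, ← h]; simp [pow_succ, mul_assoc]
      have hwe : w = (z * v)⁻¹ := eq_inv_of_mul_eq_one_right hprod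
      have hcomm : z * v = v * z := by
        have h1 := inv_self hw2
        rw [hwe, inv_inv] at h1
        rw [h1, mul_inv_rev, inv_self hv2, inv_self hz2]
      refine ⟨hcomm.symm, ?_, fun h => ?_⟩
      · show w = z * v
        rw [hwe, mul_inv_rev, inv_self hv2, inv_self hz2, hcomm]
      · have hbz : Commute b z := mul_inv_eq_iff_eq_mul.mp h
        have := eight_pow_four f hf hC hone hz2 hbz
        have h' := orderOf_dvd_of_pow_eq_one this
        rw [hb3] at h'; omega
    refine (Finset.card_le_mul_card_image (f := fun b => b * z * b⁻¹) T3 4 fun v hvi => ?_).trans ?_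
    · obtain ⟨b0, hb0, rfl⟩ := Finset.mem_image.mp hvi
      obtain ⟨hc0, he0, hne0⟩ := hv b0 hb0
      obtain ⟨p, hp⟩ : b0 * z * b0⁻¹ ∈ f.range := hC ▸ mem_centralizer_singleton_iff.mpr hc0.eq
      have hp2 : p * p = 1 := hf (by rw [map_mul, map_one, hp, conj_mul, mul_self hz2, mul_one, mul_inv_cancel])
      have hp1 : p ≠ 1 := fun h => by
        rw [h, map_one] at hp
        exact ne_one hz2 (conj_eq_one_iff.mp hp.symm)
      have hp3 : p ≠ r 2 := fun h => hne0 (by rw [← hp, h])
      have key : ∀ p : DihedralGroup 4, p * p = 1 → p ≠ 1 → p ≠ r 2 →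
          (Finset.univ.filter fun d : DihedralGroup 4 => d * p = p * d).card ≤ 4 := by decide
      refine le_trans (Finset.card_le_card_of_injOn (fun b => b0⁻¹ * b) ?_ (fun a _ a' _ h => mul_left_cancel h))
        ((Finset.card_image_of_injective _ hf).le.trans (key p hp2 hp1 hp3))
      intro b hb
      simp only [Finset.coe_filter, Set.mem_setOf_eq] at hb
      obtain ⟨hb, hbv⟩ := hb
      obtain ⟨-, he, -⟩ := hv b hb
      simp only [Finset.coe_image, Set.mem_image, Finset.coe_filter, Finset.mem_univ, true_and, Set.mem_setOf_eq]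
      set h := b0⁻¹ * b with hh
      have hbeq : b = b0 * h := by rw [hh, mul_inv_cancel_left]
      have hhz : h * z * h⁻¹ = z := by
        calc h * z * h⁻¹ = b0⁻¹ * (b * z * b⁻¹) * b0 := by rw [hh]; group
          _ = z := by rw [hbv]; group
      obtain ⟨d, hd⟩ : h ∈ f.range := hC ▸ mem_centralizer_singleton_iff.mpr (mul_inv_eq_iff_eq_mul.mp hhz)
      refine ⟨d, hf ?_, hd⟩
      rw [map_mul, map_mul, hd, hp]
      refine mul_inv_eq_iff_eq_mul.mp ?_
      rw [hbv, ← he0] at he
      calc h * (b0 * z * b0⁻¹) * h⁻¹ = b0⁻¹ * (b * (b0 * z * b0⁻¹) * b⁻¹) * b0 := by rw [hh]; group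
        _ = b0 * z * b0⁻¹ := by rw [he]; group
    · have hsub : T3.image (fun b => b * z * b⁻¹) ⊆ W := by
        intro v hvi
        obtain ⟨b, hb, rfl⟩ := Finset.mem_image.mp hvi
        obtain ⟨hc, -, hne⟩ := hv b hb
        exact hWmem _ (by rw [orderOf_conj, hz2]) hne hc
      have := Finset.card_le_card hsub
      omega
  -- products of order four
  let T4 := E.filter fun b => orderOf (z * b) = 4
  have hT4 : T4.card ≤ 16 := by
    let U := Finset.univ.filter fun u : G => orderOf u = 2 ∧ ¬ Commute u z ∧ Commute u (z * u * z)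
    have hU : U.card ≤ 8 := by
      have hw : ∀ u ∈ U, orderOf (u * (z * u * z)) = 2 ∧ Commute (u * (z * u * z)) z ∧
          u * (z * u * z) ≠ z := by
        intro u hu
        simp only [U, Finset.mem_filter, Finset.mem_univ, true_and] at hu
        obtain ⟨hu2, hnz, hcv⟩ := hu
        have hv : (z * u * z) * (z * u * z) = 1 := by
          simp [mul_assoc, mul_mul_self_left hz2, mul_mul_self_left hu2, mul_self hz2]
        refine ⟨orderOf_two_of ?_ ?_, ?_, ?_⟩
        · rw [mul_assoc, ← mul_assoc (z * u * z) u, ← hcv.eq, mul_assoc u (z * u * z), hv, mul_one, mul_self hu2]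
        · intro h
          have huv : z * u * z = u := by rw [eq_inv_of_mul_eq_one_right h, inv_self hu2]
          refine hnz ?_
          show u * z = z * u
          conv_lhs => rw [← huv]
          rw [mul_assoc, mul_self hz2, mul_one]
        · show u * (z * u * z) * z = z * (u * (z * u * z))
          calc u * (z * u * z) * z = u * (z * u) := by
                simp [mul_assoc, mul_self hz2]
            _ = z * ((z * u * z) * u) := by simp [mul_assoc, mul_mul_self_left hz2]
            _ = z * (u * (z * u * z)) := by rw [hcv.eq]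
        · intro h
          refine hnz ?_
          have h' : z * u * z = u * z := by
            calc z * u * z = u * (u * (z * u * z)) := by rw [mul_mul_self_left hu2]
              _ = u * z := by rw [h]
          exact absurd (mul_eq_right.mp (mul_right_cancel h')) (ne_one hz2)
      refine (Finset.card_le_mul_card_image (f := fun u => u * (z * u * z)) U 2 fun w hwi => ?_).trans ?_
      · obtain ⟨u0, hu0, rfl⟩ := Finset.mem_image.mp hwi
        obtain ⟨hw2, hwz, hwne⟩ := hw u0 hu0
        obtain ⟨c, hc, hcd⟩ := eight_transport f hf hC hone hw2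
        obtain ⟨p, hp⟩ := hcd z hwz.symm
        have hp2 : p * p = 1 := hf (by rw [map_mul, map_one, hp, conj_mul, mul_self hz2, mul_one, mul_inv_cancel])
        have hp1 : p ≠ 1 := fun h => by
          rw [h, map_one] at hp
          exact ne_one hz2 (conj_eq_one_iff.mp hp.symm)
        have hp3 : p ≠ r 2 := fun h => by
          rw [h, ← hz] at hp
          exact hwne (mul_left_cancel (mul_right_cancel (hc.trans hp)))
        have key : ∀ p : DihedralGroup 4, p * p = 1 → p ≠ 1 → p ≠ r 2 →
            (Finset.univ.filter fun q : DihedralGroup 4 => q * q = 1 ∧ q * p ≠ p * q).card ≤ 2 := by decide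
        refine le_trans (Finset.card_le_card_of_injOn (fun u => c * u * c⁻¹) ?_
            (fun a _ a' _ h => mul_left_cancel (mul_right_cancel h)))
          ((Finset.card_image_of_injective _ hf).le.trans (key p hp2 hp1 hp3))
        intro u hu
        simp only [Finset.coe_filter, Set.mem_setOf_eq] at hu
        obtain ⟨hu, huw⟩ := hu
        simp only [U, Finset.mem_filter, Finset.mem_univ, true_and] at hu
        obtain ⟨hu2, hnz, hcv⟩ := hu
        simp only [Finset.coe_image, Set.mem_image, Finset.coe_filter, Finset.mem_univ, true_and, Set.mem_setOf_eq]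
        obtain ⟨q, hq⟩ := hcd u (by rw [← huw]; exact (Commute.refl u).mul_right hcv)
        refine ⟨q, ⟨hf (by rw [map_mul, map_one, hq, conj_mul, mul_self hu2, mul_one, mul_inv_cancel]), fun h => hnz ?_⟩, hq⟩
        have h' := congrArg f h
        rw [map_mul, map_mul, hp, hq, conj_mul, conj_mul] at h'
        exact mul_left_cancel (mul_right_cancel h')
      · have hsub : U.image (fun u => u * (z * u * z)) ⊆ W := by
          intro v hvi
          obtain ⟨u, hu, rfl⟩ := Finset.mem_image.mp hvi
          obtain ⟨h1, h2, h3⟩ := hw u hu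
          exact hWmem _ h1 h3 h2
        have := Finset.card_le_card hsub
        omega
    refine (Finset.card_le_mul_card_image (f := fun b => z * b * (z * b)) T4 2 fun u hui => ?_).trans ?_
    · obtain ⟨b0, hb0, rfl⟩ := Finset.mem_image.mp hui
      simp only [T4, Finset.mem_filter] at hb0
      have hu2 : orderOf (z * b0 * (z * b0)) = 2 := by
        rw [← pow_two, orderOf_pow' _ two_ne_zero, hb0.2]; rfl
      obtain ⟨c, hc, hcd⟩ := eight_transport f hf hC hone hu2
      have key : (Finset.univ.filter fun d : DihedralGroup 4 => d * d = r 2).card ≤ 2 := by decide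
      refine le_trans (Finset.card_le_card_of_injOn (fun b => c * (z * b) * c⁻¹) ?_
          (fun a _ a' _ h => mul_left_cancel (mul_left_cancel (mul_right_cancel h))))
        ((Finset.card_image_of_injective _ hf).le.trans key)
      intro b hb
      simp only [Finset.coe_filter, Set.mem_setOf_eq] at hb
      obtain ⟨-, hbu⟩ := hb
      simp only [Finset.coe_image, Set.mem_image, Finset.coe_filter, Finset.mem_univ, true_and, Set.mem_setOf_eq]
      obtain ⟨d, hd⟩ := hcd (z * b) (by rw [← hbu]; exact (Commute.refl _).mul_right (Commute.refl _))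
      exact ⟨d, hf (by rw [map_mul, hd, conj_mul, hbu, hc]), hd⟩
    · have hsub : T4.image (fun b => z * b * (z * b)) ⊆ U := by
        intro u hui
        obtain ⟨b, hb, rfl⟩ := Finset.mem_image.mp hui
        simp only [T4, E, Finset.mem_filter, Finset.mem_univ, true_and] at hb
        obtain ⟨hb3, hc4⟩ := hb
        simp only [U, Finset.mem_filter, Finset.mem_univ, true_and]
        set c := z * b with hc
        have hu2 : orderOf (c * c) = 2 := by
          rw [← pow_two, orderOf_pow' _ two_ne_zero, hc4]; rfl
        have hcc : c⁻¹ * c⁻¹ = c * c := by rw [← mul_inv_rev]; exact inv_self hu2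
        have hzc : z * c * z = c⁻¹ * z * c⁻¹ := by
          have hbc : z * c = b := by rw [hc, ← mul_assoc, mul_self hz2, one_mul]
          have h := pow_orderOf_eq_one b
          rw [hb3, ← hbc] at h
          calc z * c * z = (z * c) ^ 3 * (c⁻¹ * z⁻¹ * c⁻¹) := by simp [pow_succ, mul_assoc]
            _ = c⁻¹ * z * c⁻¹ := by rw [h, one_mul, inv_self hz2]
        set v := z * (c * c) * z with hv
        have hv1 : v = c⁻¹ * v * c⁻¹ := by
          calc v = (z * c * z) * (z * c * z) := by rw [hv]; simp [mul_assoc, mul_mul_self_left hz2]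
            _ = c⁻¹ * (z * (c⁻¹ * c⁻¹) * z) * c⁻¹ := by rw [hzc]; group
            _ = c⁻¹ * v * c⁻¹ := by rw [hcc]
        have hvv : v * v = 1 := by
          calc v * v = z * (c * c * (z * z) * (c * c)) * z := by rw [hv]; group
            _ = z * 1 * z := by rw [mul_self hz2, mul_one, mul_self hu2]
            _ = 1 := by rw [mul_one, mul_self hz2]
        have hinv : v * c * v = c⁻¹ := by
          have h1 : c * v * c = v := by
            conv_lhs => rw [hv1]
            group
          calc v * c * v = c⁻¹ * (c * v * c) * v := by group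
            _ = c⁻¹ := by rw [h1, mul_assoc, hvv, mul_one]
        have hcv : Commute (c * c) v := by
          have h1 : v * (c * c) * v = c * c := by
            calc v * (c * c) * v = (v * c * v) * (v * c * v) := by
                  rw [show (v * c * v) * (v * c * v) = v * c * (v * v) * (c * v) by group, hvv]; group
              _ = c * c := by rw [hinv, hcc]
          show c * c * v = v * (c * c)
          conv_lhs => rw [← h1]
          rw [mul_assoc, hvv, mul_one]
        refine ⟨hu2, fun hz' => ?_, hcv⟩
        have hve : v = c * c := by rw [hv, ← hz'.eq, mul_assoc, mul_self hz2, mul_one]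
        rw [hve] at hinv
        have h4 : c * c * (c * c) = 1 := mul_self hu2
        have h5 : c = c⁻¹ := by
          calc c = c * (c * c * (c * c)) := by rw [h4, mul_one]
            _ = c * c * c * (c * c) := by group
            _ = c⁻¹ := hinv
        have : c * c = 1 := by rw [h5]; nth_rewrite 1 [← h5]; exact mul_inv_cancel c
        exact ne_one hu2 this
      have := Finset.card_le_card hsub
      omega
  -- inverted elements
  let T2 := E.filter fun b => orderOf (z * b) = 2
  have hT2 : T2.card ≤ 16 := by
    let Inv := Finset.univ.filter fun t : G => orderOf t = 2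
    have hInv : Inv.card = 45 := by
      have h := (centralizer ({z} : Set G)).card_mul_index
      rw [hC, ← Nat.card_congr (MonoidHom.ofInjective hf).toEquiv, DihedralGroup.nat_card, hcard] at h
      have h' := Cfsg.Agent.Lib.CharAux.card_conj_mul_card_centralizer z
      rw [hC, ← Nat.card_congr (MonoidHom.ofInjective hf).toEquiv, DihedralGroup.nat_card, hcard] at h'
      have e : Inv = Finset.univ.filter fun t : G => IsConj t z := by
        ext t
        simp only [Inv, Finset.mem_filter, Finset.mem_univ, true_and]
        exact ⟨fun h => hone t z h hz2, fun h => by rw [isConj_orderOf h, hz2]⟩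
      rw [e]; omega
    have hsym : ∀ t ∈ Inv, (E.filter fun b => orderOf (t * b) = 2).card = T2.card := by
      intro t ht
      simp only [Inv, Finset.mem_filter, Finset.mem_univ, true_and] at ht
      obtain ⟨c, hc⟩ := isConj_iff.mp (hone t z ht hz2)
      refine Finset.card_equiv (MulAut.conj c).toEquiv fun b => ?_
      simp only [T2, E, Finset.mem_filter, Finset.mem_univ, true_and, MulEquiv.toEquiv_eq_coe,
        EquivLike.coe_coe, MulAut.conj_apply]
      rw [← hc, conj_mul, orderOf_conj, orderOf_conj]
    have hfib : ∀ b ∈ E, (Inv.filter fun t => orderOf (t * b) = 2).card ≤ 9 := by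
      intro b hb
      simp only [E, Finset.mem_filter, Finset.mem_univ, true_and] at hb
      rcases (Inv.filter fun t => orderOf (t * b) = 2).eq_empty_or_nonempty with h | ⟨t0, ht0⟩
      · rw [h]; simp
      have hinvb : ∀ t ∈ Inv.filter (fun t => orderOf (t * b) = 2), t * b * t = b⁻¹ := fun t ht => by
        simp only [Finset.mem_filter] at ht
        have h := mul_self ht.2
        calc t * b * t = t * b * (t * b) * b⁻¹ := by group
          _ = b⁻¹ := by rw [h, one_mul]
      have ht0' : orderOf t0 = 2 := by simp [Inv] at ht0; exact ht0.1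
      obtain ⟨P, hP⟩ := (IsPGroup.of_card (p := 3) (n := 1)
        (by rw [Nat.card_zpowers, hb, pow_one]) : IsPGroup 3 (zpowers b)).exists_le_sylow
      have hC' := hC3 b (fun h => by rw [h, orderOf_one] at hb; omega)
        (by rw [← orderOf_dvd_iff_pow_eq_one, hb]; norm_num) P (hP (mem_zpowers b))
      have hsub : Inv.filter (fun t => orderOf (t * b) = 2) ⊆
          ((P : Subgroup G) : Set G).toFinset.image (fun x => x * t0) := by
        intro t ht
        refine Finset.mem_image.mpr ⟨t * t0, Set.mem_toFinset.mpr ?_,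
          by rw [mul_assoc, mul_self ht0', mul_one]⟩
        rw [SetLike.mem_coe, ← hC', mem_centralizer_singleton_iff]
        have a1 := hinvb t ht
        have a2 := hinvb t0 ht0
        calc t * t0 * b = t * (t0 * b * t0) * t0 := by simp [mul_assoc, mul_self ht0']
          _ = t * b⁻¹ * t0 := by rw [a2]
          _ = t * (t * b * t) * t0 := by rw [a1]
          _ = b * (t * t0) := by
            have ht' : orderOf t = 2 := by simp [Inv] at ht; exact ht.1
            simp [mul_assoc, mul_mul_self_left ht']
      refine ((Finset.card_le_card hsub).trans Finset.card_image_le).trans ?_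
      rw [Set.toFinset_card, ← Nat.card_eq_fintype_card]
      exact (hP3 P).le
    have key : ∑ t ∈ Inv, (E.filter fun b => orderOf (t * b) = 2).card ≤ 80 * 9 := by
      simp only [Finset.card_filter]
      rw [Finset.sum_comm]
      simp only [← Finset.card_filter]
      calc _ ≤ ∑ _b ∈ E, 9 := Finset.sum_le_sum hfib
        _ = 80 * 9 := by rw [Finset.sum_const, hE, smul_eq_mul]
    rw [Finset.sum_congr rfl hsym, Finset.sum_const, hInv, smul_eq_mul] at key
    omega
  have hcover : E ⊆ T2 ∪ T3 ∪ T4 := by
    intro b hb
    have hb3 : orderOf b = 3 := by simpa [E] using hb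
    simp only [T2, T3, T4, Finset.mem_union, Finset.mem_filter]
    rcases horders (z * b) with h | h | h | h | h
    · exfalso
      have : b = z := by rw [eq_inv_of_mul_eq_one_right (orderOf_eq_one_iff.mp h), inv_self hz2]
      rw [this, hz2] at hb3
      omega
    · exact Or.inl (Or.inl ⟨hb, h⟩)
    · exact Or.inl (Or.inr ⟨hb, h⟩)
    · exact Or.inr ⟨hb, h⟩
    · exact absurd h (hnone b hb)
  have := (Finset.card_le_card hcover).trans ((Finset.card_union_le _ _).trans
    (Nat.add_le_add_right (Finset.card_union_le _ _) _))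
  omega

end Eight

end Cfsg.Agent.Lib.Involution
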