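import Cfsg.Agent.Lib.Involution.Exceptional
import Cfsg.Agent.Lib.Involution.Basic
import Cfsg.Agent.Lib.Block.Klein
import Cfsg.Agent.Lib.CharAux
import Mathlib.GroupTheory.SpecificGroups.Dihedral
import Mathlib.GroupTheory.SpecificGroups.Cyclic
import Mathlib.Tactic.IntervalCases

/-!
The order of a group with one class of involutions and involution centralizer dihedral of order eight.
-/

set_option autoImplicit false
set_option linter.style.haveILetI false

open Cfsg Cfsg.Agent.Lib.Char Cfsg.Agent.Lib.CharTools Subgroup DihedralGroup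
open scoped ComplexConjugate

namespace Cfsg.Agent.Lib.Involution

universe u

variable {G : Type u} [Group G]

lemma char_involution_parity [Finite G] {χ : G → ℂ} (hχ : IsCharacter G χ) {u : G} (hu : u * u = 1) :
    ∃ n : ℤ, χ u = (n : ℂ) ∧ (2 : ℤ) ∣ n - charDegree χ := by
  have hd := apply_one_eq_charDegree hχ
  obtain ⟨n, ρ, rfl⟩ := hχ
  obtain ⟨b, μ, h1, -, hc⟩ := Char.exists_eigenbasis ρ u
  have hμ : ∀ i, μ i = 1 ∨ μ i = -1 := fun i => by
    have h2 : orderOf u ∣ 2 := orderOf_dvd_of_pow_eq_one (by rw [pow_two, hu])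
    obtain ⟨d, hd⟩ := h2
    have := h1 i
    refine sq_eq_one_iff.1 ?_
    rw [hd, pow_mul, this, one_pow]
  have e := hc 1
  have e0 := hc 0
  rw [pow_one] at e
  simp only [pow_zero, Finset.sum_const, nsmul_eq_mul, mul_one] at e0
  rw [hd, Nat.cast_inj] at e0
  refine ⟨∑ i, (if μ i = 1 then 1 else -1 : ℤ), ?_, ?_⟩
  · rw [e]
    push_cast
    refine Finset.sum_congr rfl fun i _ => ?_
    rcases hμ i with h | h <;> simp [h] <;> norm_num
  · rw [e0, Finset.card_eq_sum_ones]
    push_cast
    rw [← Finset.sum_sub_distrib]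
    refine Finset.dvd_sum fun i _ => ?_
    rcases hμ i with h | h <;> simp [h] <;> norm_num

lemma order_case_one {N x : ℕ} (hx : 0 < x) (hodd : Odd x)
    (h : N * (x - 1) ^ 2 = 256 * (x * (x + 1))) (h8 : 8 ∣ N) (h16 : ¬ 16 ∣ N) : N = 360 := by
  obtain ⟨p, rfl⟩ : ∃ p, x = p + 1 := ⟨x - 1, by omega⟩
  simp only [Nat.add_sub_cancel] at h
  have hb : p ≤ 32 := by
    have h1 : (p ^ 2).Coprime (p + 1) := (Nat.coprime_self_add_right.mpr (Nat.coprime_one_right p)).pow_left 2
    have h2 : p ^ 2 ∣ 256 * (p + 1 + 1) := by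
      refine h1.dvd_of_dvd_mul_left ⟨N, ?_⟩
      rw [mul_comm (p ^ 2), h]; ring
    have h3 : p ^ 2 ∣ p ^ 2 * 256 + 1024 := by
      have h4 : (256 * (p + 1 + 1)) * (256 * (p + 1 + 1)) = 256 * (p ^ 2 * 256) + 256 * (1024 * p + 1024) := by
        ring
      have h5 : p ^ 2 ∣ 256 * (p + 1 + 1) * p := h2.mul_right p
      have h6 : p ^ 2 ∣ 512 * p := by
        have e : 256 * (p + 1 + 1) * p = p ^ 2 * 256 + 512 * p := by ring
        rw [e] at h5
        exact (Nat.dvd_add_right (Dvd.intro 256 rfl)).mp h5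
      rcases Nat.eq_zero_or_pos p with rfl | hp
      · simp at h
      have h7 : p ∣ 512 := by
        rw [pow_two, mul_comm 512 p] at h6
        exact Nat.dvd_of_mul_dvd_mul_left hp h6
      have h8' : p ^ 2 ∣ 2 * (256 * (p + 1 + 1)) := h2.mul_left 2
      have e : 2 * (256 * (p + 1 + 1)) = 512 * p + 1024 := by ring
      rw [e] at h8'
      exact Nat.dvd_add (Dvd.intro 256 rfl) ((Nat.dvd_add_right h6).mp h8')
    have h9 : p ^ 2 ∣ 1024 := (Nat.dvd_add_right (Dvd.intro 256 rfl)).mp h3
    have := Nat.le_of_dvd (by norm_num) h9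
    nlinarith
  obtain ⟨k, hk⟩ := hodd
  interval_cases p <;> omega

lemma order_case_two {N x : ℕ} (hx : 0 < x) (hodd : Odd x)
    (h : N * (x + 1) ^ 2 = 256 * (x * (x - 1))) (h8 : 8 ∣ N) (h16 : ¬ 16 ∣ N) : N = 168 := by
  obtain ⟨p, rfl⟩ : ∃ p, x = p + 1 := ⟨x - 1, by omega⟩
  simp only [Nat.add_sub_cancel] at h
  have hb : p ≤ 30 := by
    have h1 : ((p + 1 + 1) ^ 2).Coprime (p + 1) :=
      (Nat.coprime_self_add_left.mpr (Nat.coprime_one_left (p + 1))).pow_left 2
    have h2 : (p + 2) ^ 2 ∣ 256 * p := by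
      refine h1.dvd_of_dvd_mul_left ⟨N, ?_⟩
      rw [mul_comm ((p + 1 + 1) ^ 2), h]; ring
    have h5 : (p + 2) ^ 2 ∣ 256 * p * (p + 4) := h2.mul_right _
    have e : 256 * p * (p + 4) + 1024 = (p + 2) ^ 2 * 256 := by ring
    have h9 : (p + 2) ^ 2 ∣ 1024 := (Nat.dvd_add_right h5).mp (e ▸ Dvd.intro 256 rfl)
    have := Nat.le_of_dvd (by norm_num) h9
    nlinarith
  obtain ⟨k, hk⟩ := hodd
  interval_cases p <;> omega

/-- The table of the virtual character of the dihedral group. -/
def dEightVal : DihedralGroup 4 → ℕ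
  | r i => if i = 0 then 0 else if i = 2 then 4 else 2
  | sr _ => 0

theorem dihedral_eight_order [Finite G] (f : DihedralGroup 4 →* G) (hf : Function.Injective f)
    (hC : centralizer ({f (r 2)} : Set G) = f.range)
    (hone : ∀ u v : G, orderOf u = 2 → orderOf v = 2 → IsConj u v) (h16 : ¬ 16 ∣ Nat.card G) :
    Nat.card G = 168 ∨ Nat.card G = 360 := by
  classical
  haveI := Fintype.ofFinite G
  set z := f (r 2) with hz
  have hz2 : orderOf z = 2 := by
    rw [hz, orderOf_injective f hf]; exact orderOf_eq_prime (by decide) (by decide)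
  have hmemC : ∀ g : G, g * z * g⁻¹ = z → g ∈ f.range := fun g hg =>
    hC ▸ mem_centralizer_singleton_iff.mpr (mul_inv_eq_iff_eq_mul.mp hg)
  set T : Set G := f '' {r 1, r 2, r 3} with hT
  have hTsq : ∀ t ∈ T, (t = z ∨ t * t = z) ∧ (orderOf t = 2 ↔ t = z) := by
    rintro - ⟨d, hd, rfl⟩
    have e : (d = r 2 ∨ d * d = r 2) ∧ ((d ≠ 1 ∧ d * d = 1) ↔ d = r 2) := by
      rcases hd with rfl | rfl | rfl <;> decide
    refine ⟨e.1.imp (fun h => by rw [h]) (fun h => by rw [← map_mul, h]), ?_⟩
    rw [orderOf_injective f hf, hz, hf.eq_iff]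
    constructor
    · intro h; exact e.2.mp ⟨ne_one h, mul_self h⟩
    · intro h; obtain ⟨h1, h2⟩ := e.2.mpr h; exact orderOf_two_of h2 h1
  have hzT : z ∈ T := ⟨r 2, Or.inr (Or.inl rfl), rfl⟩
  have hnorm : normalizer T = f.range := by
    refine le_antisymm (fun g hg => hmemC g ?_) ?_
    · have h1 := (mem_set_normalizer_iff.mp hg z).mp hzT
      exact ((hTsq _ h1).2.mp (by rw [orderOf_conj, hz2]))
    · rintro - ⟨d, rfl⟩
      rw [mem_set_normalizer_iff]
      have key : ∀ d t : DihedralGroup 4, (t = r 1 ∨ t = r 2 ∨ t = r 3) →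
          (d * t * d⁻¹ = r 1 ∨ d * t * d⁻¹ = r 2 ∨ d * t * d⁻¹ = r 3) := by decide
      intro g
      constructor
      · rintro ⟨t, ht, rfl⟩
        exact ⟨d * t * d⁻¹, key d t ht, by simp⟩
      · rintro ⟨t, ht, e⟩
        refine ⟨d⁻¹ * t * d, by simpa using key d⁻¹ t ht, ?_⟩
        simp only [map_mul, map_inv, e]; group
  have hTI : ∀ g : G, g ∉ normalizer T → ∀ t ∈ T, g * t * g⁻¹ ∈ T → t = 1 := by
    intro g hg t ht hgt
    refine absurd (hnorm ▸ hmemC g ?_) hg
    rcases (hTsq t ht).1 with h | h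
    · subst h
      exact (hTsq _ hgt).2.mp (by rw [orderOf_conj, hz2])
    · rcases (hTsq _ hgt).1 with h' | h'
      · exfalso
        have h4 : orderOf t = 2 := by
          rw [← orderOf_conj g t, h', hz2]
        rw [mul_self h4] at h
        exact ne_one hz2 h.symm
      · rwa [conj_mul, h] at h'
  let e' : DihedralGroup 4 ≃* normalizer T :=
    (MonoidHom.ofInjective hf).trans (MulEquiv.subgroupCongr hnorm.symm)
  have he' : ∀ d, (e' d : G) = f d := fun d => rfl
  haveI := Fintype.ofFinite (normalizer T)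
  -- the virtual character of the centralizer
  set gen := e' (r 1) with hgen
  have hgo : orderOf gen = 4 := by
    rw [hgen, MulEquiv.orderOf_eq, DihedralGroup.orderOf_r_one]
  set C0 := zpowers gen with hC0
  have hidx : C0.index = 2 := by
    have h := C0.card_mul_index
    rw [hC0, Nat.card_zpowers, hgo, ← Nat.card_congr e'.toEquiv, DihedralGroup.nat_card] at h
    rw [hC0]; omega
  have hgenC : ∀ c : C0, c ∈ zpowers (⟨gen, mem_zpowers gen⟩ : C0) := by
    rintro ⟨c, hc⟩
    obtain ⟨k, rfl⟩ := mem_zpowers_iff.mp hc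
    exact ⟨k, rfl⟩
  set iU : ℂˣ := Units.mk0 Complex.I Complex.I_ne_zero with hiU
  have hI4 : iU ^ 4 = 1 := Units.ext (by simp [hiU])
  let l : C0 →* ℂˣ := monoidHomOfForallMemZpowers hgenC (g' := iU)
    (by rw [Subgroup.orderOf_mk, hgo]; exact orderOf_dvd_of_pow_eq_one hI4)
  have hl : l ⟨gen, mem_zpowers gen⟩ = iU := monoidHomOfForallMemZpowers_apply_gen hgenC _
  set b := e' (sr 0) with hb
  have hbC : b ∉ C0 := by
    intro h
    obtain ⟨k, hk⟩ := mem_zpowers_iff.mp h
    rw [hgen, hb, ← map_zpow, e'.injective.eq_iff] at hk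
    simp at hk
  have hinv : ∀ (c : C0) (h : b * c * b⁻¹ ∈ C0), l ⟨_, h⟩ = (l c)⁻¹ := by
    rintro ⟨c, hc⟩ h
    obtain ⟨k, rfl⟩ := mem_zpowers_iff.mp hc
    have e1 : b * gen * b⁻¹ = gen⁻¹ := by
      rw [hb, hgen, ← map_mul, ← map_inv, ← map_mul, ← map_inv]; congr 1
    have e2 : (⟨b * gen ^ k * b⁻¹, h⟩ : C0) = (⟨gen ^ k, hc⟩ : C0)⁻¹ := Subtype.ext (by
      show b * gen ^ k * b⁻¹ = (gen ^ k)⁻¹
      rw [← conj_zpow, e1, inv_zpow])
    rw [e2, map_inv]
  obtain ⟨β, hβg, hβ1, hβn, hβone, hβcf, hβin, hβout⟩ := exists_beta C0 hidx l hbC hinv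
    ⟨⟨gen, mem_zpowers gen⟩, by
      rw [hl]; intro h; simpa [hiU, Complex.ext_iff] using congrArg Units.val h⟩
    ⟨⟨gen, mem_zpowers gen⟩, by
      rw [hl]; intro h; have := congrArg Units.val h; simp [hiU, Complex.ext_iff] at this; norm_num at this⟩
  have hβval : ∀ d, β (e' d) = (dEightVal d : ℂ) := by
    intro d
    cases d with
    | r i =>
      have e1 : e' (r i) = gen ^ i.val := by
        rw [hgen, ← map_pow, DihedralGroup.r_one_pow, ZMod.natCast_zmod_val]
      have h := hβin ((⟨gen, mem_zpowers gen⟩ : C0) ^ i.val)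
      rw [map_pow, hl, SubmonoidClass.coe_pow] at h
      rw [e1, h]
      simp only [← inv_pow, Units.val_pow_eq_pow_val, Units.val_inv_eq_inv_val, hiU, Units.val_mk0,
        Complex.inv_I]
      have hi : i = 0 ∨ i = 1 ∨ i = 2 ∨ i = 3 :=
        (by decide : ∀ j : ZMod 4, j = 0 ∨ j = 1 ∨ j = 2 ∨ j = 3) i
      rcases hi with rfl | rfl | rfl | rfl
      · rw [show (0 : ZMod 4).val = 0 from rfl, show dEightVal (r 0) = 0 from rfl]; norm_num
      · rw [show (1 : ZMod 4).val = 1 from rfl, show dEightVal (r 1) = 2 from rfl]; norm_num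
      · rw [show (2 : ZMod 4).val = 2 from rfl, show dEightVal (r 2) = 4 from rfl]
        simp [pow_succ, Complex.I_mul_I]; norm_num
      · rw [show (3 : ZMod 4).val = 3 from rfl, show dEightVal (r 3) = 2 from rfl]
        simp [pow_succ, Complex.I_mul_I]
    | sr i =>
      have hn : e' (sr i) ∉ C0 := by
        intro h
        obtain ⟨k, hk⟩ := mem_zpowers_iff.mp h
        rw [hgen, ← map_zpow, e'.injective.eq_iff] at hk
        simp at hk
      rw [hβout _ hn]; simp [dEightVal]
  have hψT : ∀ x : normalizer T, (x : G) ∉ T → β x = 0 := by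
    intro x hx
    obtain ⟨d, rfl⟩ := e'.surjective x
    rw [hβval d]
    have : dEightVal d = 0 := by
      cases d with
      | r i =>
        fin_cases i
        · rfl
        · exact absurd ⟨r 1, Or.inl rfl, rfl⟩ hx
        · exact absurd ⟨r 2, Or.inr (Or.inl rfl), rfl⟩ hx
        · exact absurd ⟨r 3, Or.inr (Or.inr rfl), rfl⟩ hx
      | sr i => rfl
    rw [this, Nat.cast_zero]
  set θ := indFun (normalizer T) β with hθ
  have hθg := isGeneralized_indFun (normalizer T) hβg
  have hθcf : IsClassFunction G θ := isClassFunction_indFun _ _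
  have hθ1 : θ 1 = 0 := by rw [hθ, indFun_one, hβ1, mul_zero]
  have hθn : classInner θ θ = 3 := by rw [hθ, classInner_indFun_TI T hTI β β hβcf hψT hψT hβ1, hβn]
  have hθone : classInner θ (fun _ => 1) = 1 := by
    rw [hθ, classInner_indFun _ β (isClassFunction_of_isIrr isIrrCharacter_one), hβone]
  have hθT : ∀ d, f d ∈ T → f d ≠ 1 → θ (f d) = (dEightVal d : ℂ) := by
    intro d hd hd1
    have h := indFun_TI_apply T hTI β hβcf hψT (e' d) hd (fun h => hd1 (by
      rw [← he', h]; rfl))
    rw [hβval, he'] at h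
    exact h
  have hθ2 : ∀ v : G, orderOf v = 2 → θ v = 4 := by
    intro v hv
    obtain ⟨c, hc⟩ := isConj_iff.mp (hone v z hv hz2)
    rw [← hθcf v c, hc, hz, hθT (r 2) hzT (ne_one hz2), show dEightVal (r 2) = 4 from rfl]
    norm_num
  have hθ4 : ∀ v : G, orderOf v = 4 → θ v = 2 := by
    intro v hv
    have hv2 : orderOf (v * v) = 2 := by
      rw [← pow_two, orderOf_pow' v two_ne_zero, hv]; rfl
    obtain ⟨c, hc⟩ := isConj_iff.mp (hone (v * v) z hv2 hz2)
    obtain ⟨d, hd⟩ : c * v * c⁻¹ ∈ f.range := hmemC _ (by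
      rw [← hc, show c * (v * v) * c⁻¹ = c * v * c⁻¹ * (c * v * c⁻¹) from conj_mul.symm,
        mul_inv_eq_iff_eq_mul]; simp only [mul_assoc])
    have hdo : orderOf d = 4 := by rw [← orderOf_injective f hf, hd, orderOf_conj, hv]
    have key : ∀ d : DihedralGroup 4, d * d ≠ 1 → dEightVal d = 2 ∧ (d = r 1 ∨ d = r 3) ∧ d ≠ 1 := by
      decide
    obtain ⟨k1, k2, k3⟩ := key d fun h => by
      have := Nat.le_of_dvd two_pos (orderOf_dvd_of_pow_eq_one (show d ^ 2 = 1 by rw [pow_two, h]))
      omega
    rw [← hθcf v c, ← hd, hθT d ⟨d, k2.imp_right Or.inr, rfl⟩ ((map_ne_one_iff f hf).mpr k3), k1]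
    norm_num
  have hθ0 : ∀ v : G, θ v ≠ 0 → orderOf v = 2 ∨ orderOf v = 4 := by
    intro v hv
    obtain ⟨c, hc, hne⟩ := exists_conj_of_indFun_ne_zero _ β hv
    obtain ⟨d, hd⟩ := e'.surjective ⟨_, hc⟩
    rw [← hd, hβval] at hne
    have ho : orderOf d = orderOf v := by
      rw [← orderOf_injective f hf, ← he', hd]
      show orderOf (c⁻¹ * v * c) = _
      have := orderOf_conj c⁻¹ v
      rwa [inv_inv] at this
    rw [← ho]
    have key : ∀ d : DihedralGroup 4, dEightVal d ≠ 0 →
        (d ≠ 1 ∧ d * d = 1) ∨ (d * d ≠ 1 ∧ (d * d) * (d * d) = 1) := by decide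
    rcases key d (by exact_mod_cast hne) with ⟨h1, h2⟩ | ⟨h1, h2⟩
    · exact Or.inl (orderOf_two_of h2 h1)
    · refine Or.inr ?_
      refine orderOf_eq_prime_pow (p := 2) (n := 1) ?_ ?_
      · rw [pow_one, pow_two]; exact h1
      · rw [show 2 ^ (1 + 1) = 2 * 2 from rfl, pow_mul, pow_two, pow_two]; exact h2
  -- the count
  have hcount : ∑ y : G, classInd z y * θ (z * y) = 32 := by
    have hiff : ∀ y, IsConj y z ↔ orderOf y = 2 := fun y =>
      ⟨fun h => by rw [isConj_orderOf h, hz2], fun h => hone y z h hz2⟩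
    let A := Finset.univ.filter fun y : G => orderOf y = 2 ∧ orderOf (z * y) = 2
    let B := Finset.univ.filter fun y : G => orderOf y = 2 ∧ orderOf (z * y) = 4
    have hA : A.card = 4 := by
      have hset : A = (Finset.univ.filter fun d : DihedralGroup 4 =>
          d * d = 1 ∧ d ≠ 1 ∧ d ≠ r 2).image f := by
        ext y
        simp only [A, Finset.mem_filter, Finset.mem_univ, true_and, Finset.mem_image]
        constructor
        · rintro ⟨h1, h2⟩
          have h3 : z * y * (z * y) = 1 := mul_self h2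
          have h4 : y * z * y⁻¹ = z := by
            rw [inv_self h1]
            calc y * z * y = z * (z * y * (z * y)) := by
                    rw [← mul_assoc z (z * y), ← mul_assoc z z y, mul_self hz2, one_mul, mul_assoc]
              _ = z := by rw [h3, mul_one]
          obtain ⟨d, rfl⟩ := hmemC y h4
          refine ⟨d, ⟨hf (by rw [map_mul, map_one, mul_self h1]), ?_, ?_⟩, rfl⟩
          · intro h; rw [h, map_one, orderOf_one] at h1; omega
          · intro h
            rw [h, ← hz, mul_self hz2, orderOf_one] at h2; omega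
        · rintro ⟨d, ⟨h1, h2, h3⟩, rfl⟩
          rw [hz, ← map_mul, orderOf_injective f hf, orderOf_injective f hf]
          have key : ∀ d : DihedralGroup 4, d * d = 1 → d ≠ 1 → d ≠ r 2 →
              r 2 * d ≠ 1 ∧ r 2 * d * (r 2 * d) = 1 := by decide
          obtain ⟨k1, k2⟩ := key d h1 h2 h3
          exact ⟨orderOf_two_of h1 h2, orderOf_two_of k2 k1⟩
      rw [hset, Finset.card_image_of_injective _ hf]; decide
    have hB : B.card = 8 := by
      let W := (Finset.univ.filter fun d : DihedralGroup 4 => d * d = 1 ∧ d ≠ 1 ∧ d ≠ r 2).image f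
      have hmaps : ∀ y ∈ B, z * y * (z * y) ∈ W := by
        intro y hy
        simp only [B, Finset.mem_filter, Finset.mem_univ, true_and] at hy
        obtain ⟨h1, h2⟩ := hy
        have hw : orderOf (z * y * (z * y)) = 2 := by
          rw [← pow_two, orderOf_pow' _ two_ne_zero, h2]; rfl
        have hi : z * (z * y * (z * y)) * z⁻¹ = (z * y * (z * y))⁻¹ := by
          rw [inv_self hz2, mul_inv_rev, mul_inv_rev, inv_self hz2, inv_self h1]
          simp only [← mul_assoc, mul_self hz2, one_mul]
        rw [inv_self hw] at hi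
        have h4 : (z * y * (z * y)) * z * (z * y * (z * y))⁻¹ = z := by
          have := mul_inv_eq_iff_eq_mul.mp hi
          rw [← this, mul_inv_cancel_right]
        obtain ⟨d, hd⟩ := hmemC _ h4
        simp only [W, Finset.mem_image, Finset.mem_filter, Finset.mem_univ, true_and]
        refine ⟨d, ⟨hf (by rw [map_mul, map_one, hd, mul_self hw]), ?_, ?_⟩, hd⟩
        · intro h; rw [h, map_one] at hd; exact ne_one hw hd.symm
        · intro h
          rw [h, ← hz] at hd
          have h5 : y = z * (z * y) := by rw [← mul_assoc, mul_self hz2, one_mul]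
          have h6 : Commute (z * y) (z * y * (z * y)) :=
            (Commute.refl (z * y)).mul_right (Commute.refl (z * y))
          rw [← hd] at h6
          have h7 : Commute y z := by
            rw [h5]; exact (Commute.refl z).mul_left h6
          have : z * y * (z * y) = 1 := by
            rw [mul_assoc, ← mul_assoc y, h7.eq, mul_assoc z y y, mul_self h1, mul_one, mul_self hz2]
          rw [this] at hd; exact ne_one hz2 hd
      rw [Finset.card_eq_sum_card_fiberwise hmaps]
      have hfib : ∀ w ∈ W, (B.filter fun y => z * y * (z * y) = w).card = 2 := by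
        intro w hw
        simp only [W, Finset.mem_image, Finset.mem_filter, Finset.mem_univ, true_and] at hw
        obtain ⟨d, ⟨hd1, hd2, hd3⟩, rfl⟩ := hw
        have hw2 : orderOf (f d) = 2 := by
          rw [orderOf_injective f hf]; exact orderOf_two_of hd1 hd2
        obtain ⟨c, hc⟩ := isConj_iff.mp (hone _ z hw2 hz2)
        have hzd : c * z * c⁻¹ ∈ f.range := hmemC _ (by
          have key : ∀ d : DihedralGroup 4, d * r 2 = r 2 * d := by decide
          have hcomm : f d * z = z * f d := by rw [hz, ← map_mul, key, map_mul]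
          have hh : c * z * c⁻¹ * (c * f d * c⁻¹) * (c * z * c⁻¹)⁻¹ = c * f d * c⁻¹ := by
            calc c * z * c⁻¹ * (c * f d * c⁻¹) * (c * z * c⁻¹)⁻¹ = c * (z * f d * z⁻¹) * c⁻¹ := by group
              _ = c * f d * c⁻¹ := by rw [← hcomm, mul_inv_cancel_right]
          rwa [hc] at hh)
        obtain ⟨p, hp⟩ := hzd
        have hp1 : p * p = 1 := hf (by rw [map_mul, map_one, hp, conj_mul, mul_self hz2, mul_one, mul_inv_cancel])
        have hp2 : p ≠ 1 := fun h => by
          rw [h, map_one] at hp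
          exact ne_one hz2 (conj_eq_one_iff.mp hp.symm)
        have hp3 : p ≠ r 2 := fun h => by
          rw [h, ← hz] at hp
          have : z = f d := mul_left_cancel (mul_right_cancel (hp.symm.trans hc.symm))
          exact hd3 (hf this.symm)
        have key : ∀ p : DihedralGroup 4, p * p = 1 → p ≠ 1 → p ≠ r 2 →
            (Finset.univ.filter fun q : DihedralGroup 4 => q * q = 1 ∧ q ≠ 1 ∧ p * q * (p * q) = r 2).card = 2 := by
          decide
        rw [← key p hp1 hp2 hp3]
        refine Eq.trans ?_ (Finset.card_image_of_injective _ (f := fun q => c⁻¹ * f q * c)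
          (fun a a' h => hf (mul_left_cancel (mul_right_cancel h))))
        congr 1
        ext y
        simp only [B, Finset.mem_filter, Finset.mem_univ, true_and, Finset.mem_image]
        constructor
        · rintro ⟨⟨h1, h2⟩, h3⟩
          have hy : c * y * c⁻¹ ∈ f.range := hmemC _ (by
            rw [← hc, ← h3]
            have hyw : y * (z * y * (z * y)) * y⁻¹ = (z * y * (z * y))⁻¹ := by
              rw [inv_self h1, mul_inv_rev, mul_inv_rev, inv_self hz2, inv_self h1]
              simp only [mul_assoc, mul_self h1, mul_one]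
            rw [inv_self (h3.symm ▸ hw2 : orderOf (z * y * (z * y)) = 2)] at hyw
            calc c * y * c⁻¹ * (c * (z * y * (z * y)) * c⁻¹) * (c * y * c⁻¹)⁻¹
                = c * (y * (z * y * (z * y)) * y⁻¹) * c⁻¹ := by group
              _ = c * (z * y * (z * y)) * c⁻¹ := by rw [hyw])
          obtain ⟨q, hq⟩ := hy
          refine ⟨q, ⟨hf (by rw [map_mul, map_one, hq, conj_mul, mul_self h1, mul_one, mul_inv_cancel]), ?_, hf ?_⟩, ?_⟩
          · intro h
            rw [h, map_one] at hq
            exact ne_one h1 (conj_eq_one_iff.mp hq.symm)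
          · rw [map_mul, map_mul, hp, hq, conj_mul, conj_mul, h3, hc]
          · rw [hq]; group
        · rintro ⟨q, ⟨hq1, hq2, hq3⟩, rfl⟩
          have hqy : c * (c⁻¹ * f q * c) * c⁻¹ = f q := by group
          have hy2 : orderOf (c⁻¹ * f q * c) = 2 := by
            rw [← orderOf_conj c, hqy, orderOf_injective f hf]; exact orderOf_two_of hq1 hq2
          have h3 : z * (c⁻¹ * f q * c) * (z * (c⁻¹ * f q * c)) = f d := by
            have h' := congrArg f hq3
            rw [map_mul, map_mul, hp, ← hqy, conj_mul, conj_mul, ← hz] at h'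
            exact mul_left_cancel (mul_right_cancel (h'.trans hc.symm))
          refine ⟨⟨hy2, ?_⟩, h3⟩
          refine orderOf_eq_prime_pow (p := 2) (n := 1) ?_ ?_
          · rw [pow_one, pow_two, h3]; exact ne_one hw2
          · rw [show 2 ^ (1 + 1) = 2 * 2 from rfl, pow_mul, pow_two, pow_two, h3]
            exact mul_self hw2
      rw [Finset.sum_congr rfl hfib, Finset.sum_const]
      have hW : W.card = 4 := by
        simp only [W]; rw [Finset.card_image_of_injective _ hf]; decide
      rw [hW, smul_eq_mul]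
    have hsum : ∀ y, classInd z y * θ (z * y) =
        (if y ∈ A then (4 : ℂ) else 0) + (if y ∈ B then (2 : ℂ) else 0) := by
      intro y
      simp only [A, B, Finset.mem_filter, Finset.mem_univ, true_and]
      by_cases hy : orderOf y = 2
      · rw [classInd_of ((hiff y).mpr hy), one_mul]
        by_cases h2 : orderOf (z * y) = 2
        · rw [if_pos ⟨hy, h2⟩, if_neg (fun h => by omega), hθ2 _ h2, add_zero]
        by_cases h4 : orderOf (z * y) = 4
        · rw [if_neg (fun h => h2 h.2), if_pos ⟨hy, h4⟩, hθ4 _ h4, zero_add]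
        · rw [if_neg (fun h => h2 h.2), if_neg (fun h => h4 h.2), add_zero]
          by_contra h
          rcases hθ0 _ h with h' | h'
          exacts [h2 h', h4 h']
      · rw [classInd_of_not (fun h => hy ((hiff y).mp h)), zero_mul, if_neg (fun h => hy h.1),
          if_neg (fun h => hy h.1), add_zero]
    rw [Finset.sum_congr rfl fun y _ => hsum y, Finset.sum_add_distrib, Finset.sum_ite_mem,
      Finset.sum_ite_mem, Finset.univ_inter, Finset.univ_inter, Finset.sum_const, Finset.sum_const,
      hA, hB]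
    norm_num
  obtain ⟨a, b', hab, ha1, hb1, hdeg, hval, hF⟩ := exists_chars_of_norm_three hθg hθ1 hθn hθone
  have hCcard : Nat.card (centralizer ({z} : Set G)) = 8 := by
    rw [hC, ← Nat.card_congr (MonoidHom.ofInjective hf).toEquiv, DihedralGroup.nat_card]
  have hk : Nat.card G = 8 * (centralizer ({z} : Set G)).index := by
    rw [← hCcard]; exact ((centralizer ({z} : Set G)).card_mul_index).symm
  set k := (centralizer ({z} : Set G)).index with hk'
  -- structure constants
  have hk0 : (k : ℂ) ≠ 0 := Nat.cast_ne_zero.mpr Subgroup.FiniteIndex.index_ne_zero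
  have hstr : (k : ℂ) * (1 + (b' : G → ℂ) z ^ 2 / (b' : G → ℂ) 1 - (a : G → ℂ) z ^ 2 / (a : G → ℂ) 1) = 32 := by
    have h1 : ∑ χ : IrrCharacter G, classInner θ (χ : G → ℂ) * (∑ x : G, ∑ y : G,
        classInd z x * classInd z y * (χ : G → ℂ) (x * y)) =
        ∑ x : G, ∑ y : G, classInd z x * classInd z y * θ (x * y) := by
      simp only [Finset.mul_sum]
      rw [Finset.sum_comm]
      refine Finset.sum_congr rfl fun x _ => ?_
      rw [Finset.sum_comm]
      refine Finset.sum_congr rfl fun y _ => ?_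
      have e := congrFun (eq_sum_classInner_smul hθcf) (x * y)
      simp only [Finset.sum_apply, Pi.smul_apply, smul_eq_mul] at e
      rw [e, Finset.mul_sum]
      exact Finset.sum_congr rfl fun χ _ => by ring
    have h2 : ∑ x : G, ∑ y : G, classInd z x * classInd z y * θ (x * y) =
        ∑ x : G, classInd z x * 32 := by
      refine Finset.sum_congr rfl fun x _ => ?_
      simp only [mul_assoc, ← Finset.mul_sum]
      by_cases hx : IsConj x z
      · obtain ⟨c, hc⟩ := isConj_iff.mp hx.symm
        congr 1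
        rw [← hcount]
        refine (Fintype.sum_equiv (MulAut.conj c).toEquiv _ _ fun y => ?_).symm
        show _ = classInd z (c * y * c⁻¹) * θ (x * (c * y * c⁻¹))
        rw [classInd_conj, ← hc, conj_mul, hθcf]
      · rw [classInd_of_not hx, zero_mul, zero_mul]
    have h3 : ∑ x : G, classInd z x * (32 : ℂ) = k * 32 := by
      rw [sum_classInd_mul (fun _ _ => rfl) z, hk']
    rw [h2, h3] at h1
    simp only [fun χ : IrrCharacter G => sum_classes_mul χ.2 z z, ← hk'] at h1
    rw [hF] at h1
    simp only [one_mul, div_one, mul_one] at h1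
    apply mul_left_cancel₀ hk0
    linear_combination h1
  obtain ⟨m, hm, hmp⟩ := char_involution_parity (isCharacter_of_isIrr b'.2) (mul_self hz2)
  obtain ⟨n, hn, hnp⟩ := char_involution_parity (isCharacter_of_isIrr a.2) (mul_self hz2)
  have hbd := apply_one_eq_charDegree (isCharacter_of_isIrr b'.2)
  have had := apply_one_eq_charDegree (isCharacter_of_isIrr a.2)
  set db := charDegree (b' : G → ℂ)
  set da := charDegree (a : G → ℂ)
  have hdb : 0 < db := Lib.Char.charDegree_pos b'.2
  have hd' : da = db + 1 := by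
    rw [had, hbd] at hdeg; exact_mod_cast hdeg
  have hmn : m - n = 3 := by
    have h := hval z
    rw [← hθ, hθ2 z hz2, hm, hn] at h
    have h' : ((4 : ℤ) : ℂ) = ((1 + m - n : ℤ) : ℂ) := by push_cast; exact h
    have := Int.cast_injective h'
    omega
  have hsq : 1 + m * m + n * n ≤ 8 := by
    have h := Lib.CharAux.sum_irr_normSq z
    rw [hCcard] at h
    let one : IrrCharacter G := ⟨_, isIrrCharacter_one⟩
    have hne1 : one ≠ b' := fun h => hb1 (congrArg Subtype.val h).symm
    have hne2 : one ≠ a := fun h => ha1 (congrArg Subtype.val h).symm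
    have hle := Finset.sum_le_sum_of_subset_of_nonneg (Finset.subset_univ ({one, b', a} : Finset (IrrCharacter G)))
      (f := fun χ : IrrCharacter G => Complex.normSq ((χ : G → ℂ) z)) (fun _ _ _ => Complex.normSq_nonneg _)
    rw [h, Finset.sum_insert (by simp [hne1, hne2]), Finset.sum_pair hab.symm, hm, hn] at hle
    simp only [one, Complex.normSq_one, Complex.normSq_intCast] at hle
    have : ((1 + m * m + n * n : ℤ) : ℝ) ≤ ((8 : ℤ) : ℝ) := by push_cast at hle ⊢; linarith
    exact_mod_cast this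
  have hm' : (m = 1 ∧ n = -2) ∨ (m = 2 ∧ n = -1) := by
    have h1 : m ≤ 2 := by nlinarith
    have h2 : 1 ≤ m := by nlinarith
    omega
  rw [hbd, had, hm, hn, hd'] at hstr
  have hbne : (db : ℂ) ≠ 0 := Nat.cast_ne_zero.mpr hdb.ne'
  have hbne' : ((db : ℂ) + 1) ≠ 0 := Nat.cast_add_one_ne_zero db
  have h8 : 8 ∣ Nat.card G := ⟨k, hk⟩
  rcases hm' with ⟨rfl, rfl⟩ | ⟨rfl, rfl⟩
  · right
    have hodd : Odd db := Nat.odd_iff.mpr (by omega)
    refine order_case_one hdb hodd ?_ h8 h16
    push_cast at hstr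
    field_simp at hstr
    have e : ((Nat.card G * (db - 1) ^ 2 : ℕ) : ℂ) = ((256 * (db * (db + 1)) : ℕ) : ℂ) := by
      rw [hk]; push_cast [Nat.cast_sub (show 1 ≤ db by omega)]
      linear_combination 8 * hstr
    exact_mod_cast e
  · left
    have hodd : Odd (db + 1) := Nat.odd_iff.mpr (by omega)
    refine order_case_two (by omega) hodd ?_ h8 h16
    push_cast at hstr
    field_simp at hstr
    have e : ((Nat.card G * (db + 1 + 1) ^ 2 : ℕ) : ℂ) = ((256 * ((db + 1) * (db + 1 - 1)) : ℕ) : ℂ) := by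
      rw [hk, Nat.add_sub_cancel]; push_cast
      linear_combination 8 * hstr
    exact_mod_cast e

end Cfsg.Agent.Lib.Involution
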