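import Cfsg.Agent.S0948
import Cfsg.Agent.Lib.Block.Exist
import Cfsg.Agent.Lib.Char.KleinTriple
import Cfsg.Agent.Lib.Involution.Basic
import Mathlib.Tactic.IntervalCases

/-!
Groups with one class of involutions and a self-centralizing Klein four Sylow subgroup.
-/

set_option autoImplicit false
set_option linter.style.haveILetI false

open Cfsg Subgroup

namespace Cfsg.Agent.Lib.Involution

universe u

variable {G : Type u} [Group G] [Finite G]

/-- A group where involutions only commute with two-elements has no odd normal subgroup,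
as soon as two involutions commute. -/
lemma odd_normal_eq_bot (hC : ∀ w : G, orderOf w = 2 → ∀ g : G, Commute g w → Odd (orderOf g) → g = 1)
    {u v : G} (hu : orderOf u = 2) (hv : orderOf v = 2) (huv : Commute u v) (hne : u ≠ v)
    (N : Subgroup G) [hN : N.Normal] (hodd : Odd (Nat.card N)) : N = ⊥ := by
  have hNo : ∀ n ∈ N, Odd (orderOf n) := fun n hn =>
    hodd.of_dvd_nat (by rw [← Subgroup.orderOf_mk n hn]; exact orderOf_dvd_natCard _)
  have hinv : ∀ w : G, orderOf w = 2 → ∀ m ∈ N, w * m * w⁻¹ = m⁻¹ := by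
    intro w hw m hm
    let φ : N → N := fun n => ⟨(n : G)⁻¹ * (w * n * w⁻¹), mul_mem (inv_mem n.2) (hN.conj_mem _ n.2 w)⟩
    have hφ : Function.Injective φ := by
      intro a b hab
      have e : (a : G)⁻¹ * (w * a * w⁻¹) = (b : G)⁻¹ * (w * b * w⁻¹) := congrArg Subtype.val hab
      have h1 : w * ((b : G) * (a : G)⁻¹) * w⁻¹ = (b : G) * (a : G)⁻¹ := by
        calc w * ((b : G) * (a : G)⁻¹) * w⁻¹
            = b * ((b : G)⁻¹ * (w * b * w⁻¹)) * (w * a * w⁻¹)⁻¹ := by group
          _ = b * ((a : G)⁻¹ * (w * a * w⁻¹)) * (w * a * w⁻¹)⁻¹ := by rw [e]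
          _ = (b : G) * (a : G)⁻¹ := by group
      have h2 := hC w hw _ (show Commute ((b : G) * (a : G)⁻¹) w from (mul_inv_eq_iff_eq_mul.mp h1).symm)
        (hNo _ (mul_mem b.2 (inv_mem a.2)))
      exact Subtype.ext (mul_inv_eq_one.mp h2).symm
    obtain ⟨n, hn⟩ := (Finite.injective_iff_surjective.mp hφ) ⟨m, hm⟩
    have e : (n : G)⁻¹ * (w * n * w⁻¹) = m := congrArg Subtype.val hn
    rw [← e]
    have hw2 := inv_self hw
    rw [hw2]
    simp only [mul_inv_rev, inv_inv, hw2, mul_assoc, mul_mul_self_left hw, mul_self hw, mul_one]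
  refine (eq_bot_iff_forall N).mpr fun n hn => ?_
  have huvo : orderOf (u * v) = 2 := orderOf_two_of
    (by rw [show u * v * (u * v) = u * (v * u) * v by group, ← huv.eq,
      show u * (u * v) * v = u * u * (v * v) by group, mul_self hu, mul_self hv, one_mul])
    (fun h => hne (by rw [mul_eq_one_iff_eq_inv.mp h, inv_self hv]))
  refine hC (u * v) huvo n ?_ (hNo n hn)
  have h := hinv (u * v) huvo n hn
  have h' : (u * v) * n * (u * v)⁻¹ = n := by
    calc (u * v) * n * (u * v)⁻¹ = u * (v * n * v⁻¹) * u⁻¹ := by group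
      _ = (n⁻¹)⁻¹ := by rw [hinv v hv n hn, hinv u hu _ (inv_mem hn)]
      _ = n := inv_inv n
  exact (mul_inv_eq_iff_eq_mul.mp h').symm

lemma self_cent_bound_pos {n a b : ℕ} (ha : 0 < a) (hb : 0 < b)
    (h : n * ((a + 1) * (b + 1) * (a + b)) = 32 * (a * b * (a + b + 1))) : n < 32 := by
  by_contra hn
  push_neg at hn
  have h1 : 32 * ((a + 1) * (b + 1) * (a + b)) ≤ n * ((a + 1) * (b + 1) * (a + b)) :=
    Nat.mul_le_mul_right _ hn
  nlinarith [Nat.mul_pos ha hb]

lemma self_cent_bound_neg {n b d : ℕ} (hb : 3 ≤ b) (hd : 3 ≤ d)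
    (h : n * ((b + d) * ((b - 1) * (d - 1))) = 32 * (b * d * (b + d - 1))) : n < 72 := by
  by_contra hn
  push_neg at hn
  obtain ⟨p, rfl⟩ : ∃ p, b = p + 1 := ⟨b - 1, by omega⟩
  obtain ⟨q, rfl⟩ : ∃ q, d = q + 1 := ⟨d - 1, by omega⟩
  simp only [Nat.add_sub_cancel, show p + 1 + (q + 1) - 1 = p + q + 1 by omega] at h
  have h1 : 72 * ((p + 1 + (q + 1)) * (p * q)) ≤ n * ((p + 1 + (q + 1)) * (p * q)) :=
    Nat.mul_le_mul_right _ hn
  have e1 : 2 * (p + 1) ≤ 3 * p := by omega
  have e2 : 2 * (q + 1) ≤ 3 * q := by omega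
  have h3 : 4 * ((p + 1) * (q + 1)) ≤ 9 * (p * q) := by nlinarith
  have h4 : 4 * ((p + 1) * (q + 1)) * (p + q + 1) ≤ 9 * (p * q) * (p + q + 1) :=
    Nat.mul_le_mul_right _ h3
  have h5 : 0 < p * q := Nat.mul_pos (by omega) (by omega)
  nlinarith

/-- Two conjugate involutions of an abelian Sylow subgroup are moved by its normalizer. -/
lemma sylow_ne_normalizer (T : Sylow 2 G) (hab : ∀ s ∈ T, ∀ t ∈ T, s * t = t * s)
    {x y : G} (hx : x ∈ T) (hy : y ∈ T) (hne : x ≠ y) (hconj : IsConj x y) :
    normalizer ((T : Subgroup G) : Set G) ≠ (T : Subgroup G) := by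
  haveI : Fact (Nat.Prime 2) := ⟨Nat.prime_two⟩
  obtain ⟨c, hc⟩ := isConj_iff.mp hconj
  have hcen : ∀ t ∈ T, t ∈ centralizer ((T : Subgroup G) : Set G) := fun t ht =>
    mem_centralizer_iff.mpr fun s hs => hab s hs t ht
  obtain ⟨n, hn, hn2⟩ := Sylow.conj_eq_normalizer_conj_of_mem_centralizer T x c⁻¹ (hcen x hx)
    (by rw [inv_inv, hc]; exact hcen y hy)
  intro h
  rw [inv_inv, hc] at hn2
  have hnT : n ∈ (T : Subgroup G) := h ▸ (hn : n ∈ normalizer ((T : Subgroup G) : Set G))
  exact hne (by rw [hn2, mul_assoc, hab x hx n hnT, inv_mul_cancel_left])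

/-- The orders of groups with one class of involutions and self-centralizing Klein four Sylow subgroup. -/
theorem klein_self_cent (T : Sylow 2 G) (hT : IsKleinFour (T : Subgroup G))
    (hone : ∀ s t : G, orderOf s = 2 → orderOf t = 2 → IsConj s t)
    {x : G} (hx : orderOf x = 2) (hxT : x ∈ T)
    (hC : centralizer ({x} : Set G) = (T : Subgroup G)) :
    (∀ N : Subgroup G, N.Normal → N ≠ ⊥ → (T : Subgroup G) ≤ N) ∧
      ((Nat.card G = 12 ∧ (T : Subgroup G).Normal) ∨
        (Nat.card G = 60 ∧ (normalizer ((T : Subgroup G) : Set G)).index = 5 ∧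
          (normalizer ((T : Subgroup G) : Set G)).normalCore = ⊥)) := by
  classical
  haveI := Fintype.ofFinite G
  haveI : Fact (Nat.Prime 2) := ⟨Nat.prime_two⟩
  have hT4 : Nat.card (T : Subgroup G) = 4 := hT.card_four
  have hidx := (T : Subgroup G).card_mul_index
  rw [hT4] at hidx
  have hodd : Odd (T : Subgroup G).index := Nat.odd_iff.mpr (by
    have := T.not_dvd_index; omega)
  have hab : ∀ s ∈ T, ∀ t ∈ T, s * t = t * s := by
    haveI := hT.isMulCommutative
    exact fun s hs t ht => congrArg Subtype.val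
      ((IsMulCommutative.is_comm (M := (T : Subgroup G))).comm ⟨s, hs⟩ ⟨t, ht⟩)
  have hsq : ∀ s ∈ T, s * s = 1 := fun s hs => by
    have := Monoid.pow_exponent_eq_one (⟨s, hs⟩ : (T : Subgroup G))
    rw [hT.exponent_two, pow_two] at this
    exact congrArg Subtype.val this
  obtain ⟨y, hyT, hy, hxy⟩ : ∃ y ∈ T, orderOf y = 2 ∧ x ≠ y := by
    by_contra hcon
    push_neg at hcon
    have hall : ∀ s : (T : Subgroup G), s = 1 ∨ s = ⟨x, hxT⟩ := fun s => by
      by_cases h : (s : G) = 1
      · exact Or.inl (Subtype.ext h)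
      · exact Or.inr (Subtype.ext (hcon _ s.2 (orderOf_two_of (hsq _ s.2) h)).symm)
    have : Fintype.card (T : Subgroup G) ≤ 2 := by
      refine le_trans (Finset.card_le_card (s := Finset.univ) (t := {1, ⟨x, hxT⟩}) fun s _ => ?_)
        Finset.card_le_two
      rcases hall s with h | h <;> simp [h]
    rw [← Nat.card_eq_fintype_card, hT4] at this
    omega
  -- involutions only commute with two-elements
  have hcent : ∀ w : G, orderOf w = 2 → ∀ g : G, Commute g w → Odd (orderOf g) → g = 1 := by
    intro w hw g hg hgo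
    obtain ⟨c, hc⟩ := isConj_iff.mp (hone w x hw hx)
    have hm : c * g * c⁻¹ ∈ (T : Subgroup G) := by
      rw [← hC, mem_centralizer_singleton_iff, ← hc, conj_mul, conj_mul, hg.eq]
    have h2 := eq_one_of_mul_self_of_odd (a := c * g * c⁻¹) (by rw [orderOf_conj]; exact hgo) (hsq _ hm)
    exact conj_eq_one_iff.mp h2
  have hnorm : ∀ N : Subgroup G, N.Normal → N ≠ ⊥ → (T : Subgroup G) ≤ N := by
    intro N hN hNe s hs
    rcases Nat.even_or_odd (Nat.card N) with he | ho
    · obtain ⟨t, ht⟩ := exists_involution_of_even he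
      have ht' : orderOf (t : G) = 2 := (Subgroup.orderOf_coe t).trans ht
      by_cases h1 : s = 1
      · exact h1 ▸ one_mem N
      obtain ⟨c, hc⟩ := isConj_iff.mp (hone (t : G) s ht' (orderOf_two_of (hsq s hs) h1))
      exact hc ▸ hN.conj_mem _ t.2 c
    · exact absurd (odd_normal_eq_bot hcent hx hy (hab x hxT y hyT) hxy N ho) hNe
  refine ⟨hnorm, ?_⟩
  have hoddN : ∀ N : Subgroup G, N.Normal → Odd (Nat.card N) → N = ⊥ := fun N hN ho =>
    haveI := hN
    odd_normal_eq_bot hcent hx hy (hab x hxT y hyT) hxy N ho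
  have hg1 : (T : Subgroup G).index ≠ 1 := fun h => by
    have hall : ∀ g : G, g ∈ (T : Subgroup G) := fun g => by rw [Subgroup.index_eq_one.mp h]; exact mem_top g
    obtain ⟨c, hc⟩ := isConj_iff.mp (hone x y hx hy)
    exact hxy (by rw [← hc, hab c (hall c) x (hall x), mul_inv_cancel_right])
  -- the character relation
  obtain ⟨M, hM⟩ := Block.exists_isPModular Nat.prime_two
  obtain ⟨ζ₂, ζ₃, ζ₄, ε, hε, h2, h3, h23, h24, h34, hB, hval, -, -, -, -⟩ :=
    Cfsg.Agent.S0948.result M hM T hT hone
  obtain ⟨v2, v3, v4⟩ := hval x hx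
  have h4 : (ζ₄ : G → ℂ) ≠ fun _ => 1 := by
    intro h; rw [h] at v4; norm_num at v4
  have hnc : ¬ ∃ N : Subgroup G, N.Normal ∧ Nat.card N = (T : Subgroup G).index := by
    rintro ⟨N, hN, hc⟩
    have hb := hoddN N hN (hc ▸ hodd)
    rw [hb, Subgroup.card_bot] at hc
    exact hg1 hc.symm
  obtain ⟨o, c, hc0, hco, ho0, hCJ, hCP, ⟨oa, ob, od⟩, hrel, hmain, -, -⟩ :=
    Lib.Char.klein_triple hM hodd hidx.symm hnc T hxT hx hB ⟨h2, h3, h4, h23, h24, h34⟩
      ⟨Or.inl rfl, hε, Or.inr rfl⟩ ⟨by simpa using v2, v3, by simpa using v4⟩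
  have ho1 : o = 1 := by rw [hC, hT4] at hCJ; omega
  subst ho1
  obtain rfl : c = 1 := Nat.dvd_one.mp hco
  have fa := Lib.Char.charDegree_pos ζ₂.2
  have fb := Lib.Char.charDegree_pos ζ₃.2
  have fd := Lib.Char.charDegree_pos ζ₄.2
  set a := Cfsg.charDegree (ζ₂ : G → ℂ)
  set b := Cfsg.charDegree (ζ₃ : G → ℂ)
  set d := Cfsg.charDegree (ζ₄ : G → ℂ)
  set n := Nat.card G with hn
  have hbound : n < 72 := by
    have hn0 : 0 < n := Nat.card_pos
    rcases hε with rfl | rfl
    · have hd : (d : ℤ) = a + b + 1 := by linarith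
      have : n < 32 := by
        refine self_cent_bound_pos (a := a) (b := b) fa fb ?_
        zify
        rw [hd] at hmain
        push_cast at hmain ⊢
        linear_combination hmain
      omega
    · have ha : (a : ℤ) + 1 = b + d := by linarith
      have hpos : 0 < a * b * d := by positivity
      have hb1 : b ≠ 1 := by
        intro h; rw [h] at hmain; push_cast at hmain; simp at hmain; omega
      have hd1 : d ≠ 1 := by
        intro h; rw [h] at hmain; push_cast at hmain; simp at hmain; omega
      have hb3 : 3 ≤ b := by obtain ⟨k, hk⟩ := ob; omega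
      have hd3 : 3 ≤ d := by obtain ⟨k, hk⟩ := od; omega
      refine self_cent_bound_neg hb3 hd3 ?_
      have ha' : a = b + d - 1 := by omega
      rw [← ha']
      zify [show 1 ≤ b by omega, show 1 ≤ d by omega]
      rw [ha] at hmain
      push_cast at hmain ⊢
      linear_combination hmain
  -- a Sylow subgroup of prime order would be normal
  have hprime : ∀ p, p.Prime → 5 ≤ p → (T : Subgroup G).index ≠ p := by
    intro p hp hp5 he
    haveI : Fact p.Prime := ⟨hp⟩
    obtain ⟨P⟩ : Nonempty (Sylow p G) := inferInstance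
    have hPc : Nat.card (P : Subgroup G) = p := by
      rw [P.card_eq_multiplicity, ← hn, ← hidx, he, Nat.factorization_mul (by norm_num) hp.ne_zero,
        Finsupp.add_apply, hp.factorization_self, Nat.factorization_eq_zero_of_not_dvd, zero_add, pow_one]
      exact fun h => absurd (Nat.le_of_dvd (by norm_num) h) (by omega)
    have hPi : (P : Subgroup G).index = 4 := by
      have h := (P : Subgroup G).card_mul_index
      rw [hPc, ← hn, ← hidx, he, mul_comm 4] at h
      exact Nat.eq_of_mul_eq_mul_left hp.pos h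
    have h1 := card_sylow_modEq_one p G
    have h2 := hPi ▸ P.card_dvd_index
    have hle := Nat.le_of_dvd (by norm_num) h2
    have hc1 : Nat.card (Sylow p G) = 1 := by
      rw [Nat.ModEq, Nat.mod_eq_of_lt (by omega), Nat.mod_eq_of_lt (by omega)] at h1
      exact h1
    haveI : Subsingleton (Sylow p G) := (Nat.card_eq_one_iff_unique.mp hc1).1
    haveI hPn : (P : Subgroup G).Normal := P.normal_of_subsingleton
    have := hoddN _ hPn (by rw [hPc]; exact hp.odd_of_ne_two (by omega))
    rw [this, Subgroup.card_bot] at hPc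
    omega
  have hnine : (T : Subgroup G).index ≠ 9 := by
    intro he
    haveI : Fact (Nat.Prime 3) := ⟨Nat.prime_three⟩
    obtain ⟨P⟩ : Nonempty (Sylow 3 G) := inferInstance
    have h36 : n = 36 := by omega
    have hPc : Nat.card (P : Subgroup G) = 9 := by
      rw [P.card_eq_multiplicity, ← hn, h36, show (36 : ℕ) = 3 ^ 2 * 4 from rfl,
        Nat.factorization_mul (by norm_num) (by norm_num), Finsupp.add_apply,
        Nat.Prime.factorization_pow Nat.prime_three, Finsupp.single_eq_same,
        Nat.factorization_eq_zero_of_not_dvd (by norm_num)]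
      rfl
    have hPi : (P : Subgroup G).index = 4 := by
      have h := (P : Subgroup G).card_mul_index
      rw [hPc, ← hn, h36] at h
      omega
    have h1 := card_sylow_modEq_one 3 G
    have h2 := hPi ▸ P.card_dvd_index
    have hle := Nat.le_of_dvd (by norm_num) h2
    set k := Nat.card (Sylow 3 G) with hk
    rw [Nat.ModEq] at h1
    rcases (show k = 1 ∨ k = 4 by interval_cases k <;> omega) with hk1 | hk4
    · haveI : Subsingleton (Sylow 3 G) := (Nat.card_eq_one_iff_unique.mp (hk ▸ hk1)).1
      have := hoddN _ P.normal_of_subsingleton (by rw [hPc]; decide)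
      rw [this, Subgroup.card_bot] at hPc
      omega
    · set N := normalizer ((P : Subgroup G) : Set G) with hN
      have hNi : N.index = 4 := P.card_eq_index_normalizer.symm.trans (hk.symm.trans hk4)
      have hNc : Nat.card N = 9 := by
        have h := N.card_mul_index
        rw [hNi, ← hn, h36] at h
        omega
      have hK : N.normalCore = ⊥ := hoddN _ inferInstance
        ((show Odd (9 : ℕ) by decide).of_dvd_nat (hNc ▸ Subgroup.card_dvd_of_le N.normalCore_le))
      rw [Subgroup.normalCore_eq_ker, MonoidHom.ker_eq_bot_iff] at hK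
      have h3 := Subgroup.card_dvd_of_injective _ hK
      rw [Nat.card_perm, ← Subgroup.index_eq_card, hNi, ← hn, h36] at h3
      norm_num [Nat.factorial] at h3
  have hTN : normalizer ((T : Subgroup G) : Set G) ≠ (T : Subgroup G) :=
    sylow_ne_normalizer T hab hxT hyT hxy (hone x y hx hy)
  have hk := T.card_dvd_index
  have hkN : Nat.card (Sylow 2 G) = (normalizer ((T : Subgroup G) : Set G)).index :=
    T.card_eq_index_normalizer
  have hkne : (normalizer ((T : Subgroup G) : Set G)).index ≠ (T : Subgroup G).index := fun h => by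
    refine hTN (le_antisymm ?_ Subgroup.le_normalizer).symm.symm
    have h1 := Subgroup.relIndex_mul_index (Subgroup.le_normalizer (H := (T : Subgroup G)))
    rw [h] at h1
    exact Subgroup.relIndex_eq_one.mp
      (Nat.eq_of_mul_eq_mul_right (Nat.pos_of_ne_zero Subgroup.index_ne_zero_of_finite) (h1.trans (one_mul _).symm))
  set g0 := (T : Subgroup G).index with hg0
  have hg : g0 = 3 ∨ g0 = 15 := by
    have h18 : g0 < 18 := by omega
    obtain ⟨j, hj⟩ := hodd
    have e5 := hprime 5 (by norm_num) (by norm_num)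
    have e7 := hprime 7 (by norm_num) (by norm_num)
    have e11 := hprime 11 (by norm_num) (by norm_num)
    have e13 := hprime 13 (by norm_num) (by norm_num)
    have e17 := hprime 17 (by norm_num) (by norm_num)
    omega
  set k := Nat.card (Sylow 2 G) with hkdef
  rw [← hkN] at hkne
  rcases hg with hg | hg
  · left
    refine ⟨by omega, ?_⟩
    rw [hg] at hk hkne
    have hk1 : k = 1 := ((Nat.dvd_prime Nat.prime_three).mp hk).resolve_right hkne
    haveI : Subsingleton (Sylow 2 G) := (Nat.card_eq_one_iff_unique.mp (hkdef ▸ hk1)).1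
    exact T.normal_of_subsingleton
  · right
    have hG60 : n = 60 := by omega
    rw [hg] at hk hkne
    have hk1 : k ≠ 1 := by
      intro hk1
      haveI : Subsingleton (Sylow 2 G) := (Nat.card_eq_one_iff_unique.mp (hkdef ▸ hk1)).1
      have hTn := T.normal_of_subsingleton
      -- too few conjugates of `x`
      have hCi : (centralizer ({x} : Set G)).index = 15 := by rw [hC]; exact hg
      let F : G ⧸ centralizer ({x} : Set G) → (T : Subgroup G) :=
        fun q => ⟨q.out * x * q.out⁻¹, hTn.conj_mem _ hxT _⟩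
      have hF : Function.Injective F := by
        intro p q hpq
        have e : p.out * x * p.out⁻¹ = q.out * x * q.out⁻¹ := congrArg Subtype.val hpq
        rw [← p.out_eq, ← q.out_eq, QuotientGroup.eq, mem_centralizer_singleton_iff]
        calc p.out⁻¹ * q.out * x = p.out⁻¹ * (q.out * x * q.out⁻¹) * q.out := by group
          _ = p.out⁻¹ * (p.out * x * p.out⁻¹) * q.out := by rw [e]
          _ = x * (p.out⁻¹ * q.out) := by group
      have := Nat.card_le_card_of_injective F hF
      rw [← Subgroup.index_eq_card, hCi, hT4] at this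
      omega
    set N := normalizer ((T : Subgroup G) : Set G) with hN
    have hcore : N.normalCore = ⊥ := by
      by_contra hne
      have hle := hnorm _ inferInstance hne
      apply hk1
      rw [hkdef, Nat.card_eq_one_iff_unique]
      refine ⟨⟨fun P Q => ?_⟩, ⟨T⟩⟩
      have key : ∀ R : Sylow 2 G, R = T := by
        intro R
        obtain ⟨g, rfl⟩ := MulAction.exists_smul_eq G T R
        refine Sylow.ext (Subgroup.eq_of_le_of_card_ge ?_ ?_).symm
        · intro s hs
          have h1 : g⁻¹ * s * g ∈ N := by simpa using hle hs g⁻¹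
          have h2 : s ∈ normalizer ((g • T : Sylow 2 G) : Set G) := by
            rw [← Sylow.smul_eq_iff_mem_normalizer]
            replace h1 : (g⁻¹ * s * g) • T = T := Sylow.smul_eq_iff_mem_normalizer.mpr h1
            calc s • g • T = g • (g⁻¹ * s * g) • T := by simp only [smul_smul]; group
              _ = g • T := by rw [h1]
          have h3 : s ∈ (T : Subgroup G) ⊓ normalizer ((g • T : Sylow 2 G) : Set G) := ⟨hs, h2⟩
          rw [IsPGroup.inf_normalizer_sylow T.isPGroup'] at h3
          exact h3.2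
        · exact le_of_eq (by rw [Sylow.card_eq_multiplicity, Sylow.card_eq_multiplicity])
      rw [key P, key Q]
    refine ⟨hG60, ?_, hcore⟩
    rw [← hkN]
    by_contra hk5
    have hk3 : k = 3 := by
      have hle := Nat.le_of_dvd (by norm_num) hk
      interval_cases k <;> omega
    have hK := hcore
    rw [Subgroup.normalCore_eq_ker, MonoidHom.ker_eq_bot_iff] at hK
    have h3 := Subgroup.card_dvd_of_injective _ hK
    rw [Nat.card_perm, ← Subgroup.index_eq_card, ← hkN, hk3, ← hn, hG60] at h3
    norm_num [Nat.factorial] at h3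

end Cfsg.Agent.Lib.Involution
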