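import Mathlib.GroupTheory.Nilpotent
import Cfsg.Prelude.Def_Involutions
import Cfsg.Agent.Lib.Involution.Basic

/-!
Criteria for strong embedding and strong `p`-embedding.
-/

set_option autoImplicit false

namespace Cfsg.Agent.Lib.Involution

open Subgroup

variable {G : Type*} [Group G]

lemma mem_map_conj {g x : G} {X : Subgroup G} :
    x ∈ X.map (MulAut.conj g).toMonoidHom ↔ g⁻¹ * x * g ∈ X := by
  constructor
  · rintro ⟨u, hu, rfl⟩
    simpa [MulAut.conj_apply, mul_assoc] using hu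
  · intro h
    exact ⟨_, h, by simp [MulAut.conj_apply, mul_assoc]⟩

lemma map_conj_map (a b : G) (X : Subgroup G) :
    (X.map (MulAut.conj b).toMonoidHom).map (MulAut.conj a).toMonoidHom
      = X.map (MulAut.conj (a * b)).toMonoidHom := by
  ext x
  simp only [mem_map_conj, mul_inv_rev, mul_assoc]

lemma card_map_conj (a : G) (X : Subgroup G) :
    Nat.card (X.map (MulAut.conj a).toMonoidHom) = Nat.card X :=
  (Nat.card_congr (X.equivMapOfInjective (MulAut.conj a).toMonoidHom (MulAut.conj a).injective).toEquiv).symm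

/-- If the normalisers of the "big" subgroups of a Sylow subgroup of `H` lie in `H`, then `H` controls
conjugation of big `p`-subgroups. -/
theorem mem_of_conj_le [Finite G] {p : ℕ} [Fact p.Prime] (H : Subgroup G) (P : Sylow p H)
    (Big : Subgroup G → Prop) (hmono : ∀ {X Y : Subgroup G}, X ≤ Y → Big X → Big Y)
    (hconj : ∀ (g : G) {X : Subgroup G}, Big X → Big (X.map (MulAut.conj g).toMonoidHom))
    (hN : ∀ X : Subgroup G, X ≤ (P : Subgroup H).map H.subtype → Big X →
      normalizer (X : Set G) ≤ H)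
    {X : Subgroup G} (hX : IsPGroup p X) (hXH : X ≤ H) (hbig : Big X) {g : G}
    (hg : X.map (MulAut.conj g).toMonoidHom ≤ H) : g ∈ H := by
  set P' := (P : Subgroup H).map H.subtype with hP'
  have hP'H : P' ≤ H := map_subtype_le _
  have toP : ∀ {Y : Subgroup G}, IsPGroup p Y → Y ≤ H →
      ∃ h ∈ H, Y.map (MulAut.conj h).toMonoidHom ≤ P' := by
    intro Y hY hYH
    obtain ⟨R, hR⟩ := (hY.comap_of_injective H.subtype H.subtype_injective).exists_le_sylow
    obtain ⟨⟨c, hc⟩, hce⟩ := MulAction.exists_smul_eq H R P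
    refine ⟨c, hc, ?_⟩
    rintro _ ⟨y, hy, rfl⟩
    refine ⟨⟨c, hc⟩ * ⟨y, hYH hy⟩ * ⟨c, hc⟩⁻¹, ?_, rfl⟩
    rw [← hce]
    exact smul_mem_pointwise_smul _ _ _ (hR (show (⟨y, hYH hy⟩ : H) ∈ comap H.subtype Y from hy))
  suffices hmain : ∀ k : ℕ, ∀ X : Subgroup G, Nat.card P' - Nat.card X = k → IsPGroup p X → X ≤ H →
      Big X → ∀ g : G, X.map (MulAut.conj g).toMonoidHom ≤ H → g ∈ H from
    hmain _ X rfl hX hXH hbig g hg
  intro k
  induction k using Nat.strong_induction_on with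
  | _ k ih =>
  intro X hk hX hXH hbig g hg
  obtain ⟨h₀, hh₀, hle₀⟩ := toP hX hXH
  obtain ⟨h₁, hh₁, hle₁⟩ := toP (hX.map (MulAut.conj g).toMonoidHom) hg
  rw [map_conj_map] at hle₁
  set X₁ := X.map (MulAut.conj h₀).toMonoidHom with hX₁
  set g₂ := h₁ * g * h₀⁻¹ with hg₂
  have hY : X₁.map (MulAut.conj g₂).toMonoidHom = X.map (MulAut.conj (h₁ * g)).toMonoidHom := by
    rw [hX₁, map_conj_map, hg₂, inv_mul_cancel_right]
  suffices hg₂H : g₂ ∈ H by
    have h2 := H.mul_mem (H.mul_mem (H.inv_mem hh₁) hg₂H) hh₀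
    rw [hg₂] at h2
    convert h2 using 1
    group
  have hb₁ : Big X₁ := hconj h₀ hbig
  have hcY : ∀ {x : G}, x ∈ X₁ → g₂ * x * g₂⁻¹ ∈ X₁.map (MulAut.conj g₂).toMonoidHom :=
    fun {x} hx => ⟨x, hx, rfl⟩
  by_cases hfull : X₁ = P'
  · refine hN X₁ hfull.le hb₁ ?_
    have he : X₁.map (MulAut.conj g₂).toMonoidHom = X₁ := by
      refine eq_of_le_of_card_ge ?_ (card_map_conj g₂ X₁).ge
      rw [hfull] at hY ⊢
      exact hY ▸ hle₁
    rw [mem_normalizer_iff]
    intro x
    constructor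
    · intro hx; have := hcY hx; rwa [he] at this
    · intro hx
      rw [← he, mem_map_conj] at hx
      convert hx using 1
      group
  · have hlt : X₁ < P' := lt_of_le_of_ne hle₀ hfull
    have hP'p : IsPGroup p P' := P.isPGroup'.map _
    have : Group.IsNilpotent P' := hP'p.isNilpotent
    have hlt' : X₁.subgroupOf P' < ⊤ := by
      rw [lt_top_iff_ne_top, Ne, subgroupOf_eq_top]
      exact fun h => hfull (le_antisymm hle₀ h)
    obtain ⟨⟨y, hyP⟩, hy, hy'⟩ :=
      SetLike.exists_of_lt (Group.normalizerCondition_of_isNilpotent _ hlt')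
    set Z := P' ⊓ normalizer (X₁ : Set G) with hZ
    have hXZ : X₁ ≤ Z := le_inf hle₀ X₁.le_normalizer
    have hyZ : y ∈ Z := by
      refine ⟨hyP, mem_normalizer_iff.mpr fun x => ?_⟩
      constructor
      · intro hx
        exact (mem_normalizer_iff.mp hy ⟨x, hle₀ hx⟩).mp hx
      · intro hx
        have hxP : x ∈ P' := by
          have h2 := P'.mul_mem (P'.mul_mem (P'.inv_mem hyP) (hle₀ hx)) hyP
          convert h2 using 1
          group
        exact (mem_normalizer_iff.mp hy ⟨x, hxP⟩).mpr hx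
    have hsmall : Nat.card P' - Nat.card Z < k := by
      have hne : X₁ ≠ Z := fun h => hy' (show y ∈ X₁ from h ▸ hyZ)
      have h1 : Nat.card X₁ < Nat.card Z := by
        by_contra hc
        exact hne (eq_of_le_of_card_ge hXZ (not_lt.mp hc))
      have h2 : Nat.card Z ≤ Nat.card P' := card_le_of_le inf_le_left
      rw [hX₁, card_map_conj] at h1
      omega
    refine ih _ hsmall Z rfl (hP'p.to_le inf_le_left) (inf_le_left.trans hP'H) (hmono hXZ hb₁) g₂ ?_
    have hbY : Big (X₁.map (MulAut.conj g₂).toMonoidHom) := hconj g₂ hb₁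
    refine le_trans ?_ (hN _ (hY ▸ hle₁) hbY)
    rintro _ ⟨z, hz, rfl⟩
    rw [mem_normalizer_iff]
    intro x
    have h1 := mem_normalizer_iff.mp hz.2 (g₂⁻¹ * x * g₂)
    simp only [mem_map_conj, MulEquiv.coe_toMonoidHom, MulAut.conj_apply]
    rw [h1]
    constructor <;> intro h2 <;> convert h2 using 1 <;> group

lemma exists_involution_of_even_inf [Finite G] {H : Subgroup G} {g : G}
    (h : ¬ Odd (Nat.card ↥(H ⊓ H.map (MulAut.conj g).toMonoidHom))) :
    ∃ s : G, orderOf s = 2 ∧ s ∈ H ∧ g⁻¹ * s * g ∈ H := by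
  obtain ⟨s, hs⟩ := exists_involution_of_even (Nat.not_odd_iff_even.mp h)
  exact ⟨s, by rwa [orderOf_coe], s.2.1, mem_map_conj.mp s.2.2⟩

lemma se_mem [Finite G] {H : Subgroup G} (hH : Cfsg.IsStronglyEmbedded H) {s g : G}
    (hs : orderOf s = 2) (h1 : s ∈ H) (h2 : g⁻¹ * s * g ∈ H) : g ∈ H := by
  by_contra hg
  have hd := Subgroup.orderOf_dvd_natCard (H ⊓ H.map (MulAut.conj g).toMonoidHom)
    (show s ∈ H ⊓ H.map (MulAut.conj g).toMonoidHom from ⟨h1, mem_map_conj.mpr h2⟩)
  rw [hs] at hd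
  exact Nat.not_even_iff_odd.mpr (hH.2.2 g hg) (even_iff_two_dvd.mpr hd)

lemma se_mem' [Finite G] {H : Subgroup G} (hH : Cfsg.IsStronglyEmbedded H) {s g : G}
    (hs : orderOf s = 2) (h1 : s ∈ H) (h2 : g * s * g⁻¹ ∈ H) : g ∈ H :=
  H.inv_mem_iff.mp (se_mem hH hs h1 (by simpa using h2))

lemma se_centralizer [Finite G] {H : Subgroup G} (hH : Cfsg.IsStronglyEmbedded H) {s g : G}
    (hs : orderOf s = 2) (h1 : s ∈ H) (h2 : Commute g s) : g ∈ H :=
  se_mem hH hs h1 (by rwa [mul_assoc, ← h2.eq, inv_mul_cancel_left])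

lemma se_iff_forall [Finite G] {H : Subgroup G} (hH : H ≠ ⊤) (heven : Even (Nat.card H)) :
    Cfsg.IsStronglyEmbedded H ↔
      ∀ s g : G, orderOf s = 2 → s ∈ H → g⁻¹ * s * g ∈ H → g ∈ H := by
  refine ⟨fun h s g => se_mem h, fun h => ⟨hH, heven, fun g hg => ?_⟩⟩
  by_contra hodd
  obtain ⟨s, hs, h1, h2⟩ := exists_involution_of_even_inf hodd
  exact hg (h s g hs h1 h2)

/-- An involution inside and one outside a strongly embedded subgroup are conjugate. -/
lemma se_conj_of_inside_outside [Finite G] {H : Subgroup G} (hH : Cfsg.IsStronglyEmbedded H) {s u : G}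
    (hs : orderOf s = 2) (h1 : s ∈ H) (hu : orderOf u = 2) (h2 : u ∉ H) : IsConj s u := by
  by_contra hnc
  obtain ⟨w, hw, -, hws, hwu⟩ := exists_involution_commute hs hu
    (fun h => hnc (isConj_of_odd hs hu h))
  have hwH : w ∈ H := se_centralizer hH hs h1 hws
  exact h2 (se_centralizer hH hw hwH hwu.symm)

end Cfsg.Agent.Lib.Involution
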