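import Mathlib.GroupTheory.GroupAction.Quotient
import Cfsg.Agent.Lib.Coprime.Conjugacy
import Cfsg.Agent.Lib.Involution.StronglyEmbedded

/-!
Groups in which every involution centraliser is an elementary abelian 2-group.
-/

set_option autoImplicit false

namespace Cfsg.Agent.Lib.Involution

open Subgroup

variable {G : Type*} [Group G]

/-- The hypothesis: a noncyclic nonnormal Sylow 2-subgroup, all involution centralisers elementary. -/
structure ElemCent [Finite G] (T : Sylow 2 G) : Prop where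
  nc : ¬ IsCyclic (T : Subgroup G)
  nn : ¬ (T : Subgroup G).Normal
  hC : ∀ t : G, orderOf t = 2 → IsMulCommutative (centralizer ({t} : Set G)) ∧
    ∀ c ∈ centralizer ({t} : Set G), c ^ 2 = 1

namespace ElemCent

variable [Finite G] {T : Sylow 2 G} (h : ElemCent T)
include h

lemma two_dvd : 2 ∣ Nat.card G := by
  by_contra hd
  refine h.nc ?_
  have h1 : Nat.card (T : Subgroup G) = 1 := by
    obtain ⟨k, hk⟩ := T.isPGroup'.exists_card_eq
    rcases k with _ | k
    · simpa using hk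
    · exact absurd ((dvd_pow_self 2 (Nat.succ_ne_zero k)).trans (hk ▸ (T : Subgroup G).card_subgroup_dvd_card)) hd
  have := (Nat.card_eq_one_iff_unique.mp h1).1
  infer_instance

lemma isPGroup_centralizer {t : G} (ht : orderOf t = 2) :
    IsPGroup 2 (centralizer ({t} : Set G)) := fun c =>
  ⟨1, by rw [pow_one]; exact Subtype.ext ((h.hC t ht).2 c c.2)⟩

lemma exists_centre : ∃ z ∈ (T : Subgroup G), orderOf z = 2 ∧
    centralizer ({z} : Set G) = (T : Subgroup G) := by
  have : Fact (Nat.Prime 2) := ⟨Nat.prime_two⟩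
  have : Nontrivial (T : Subgroup G) := (nontrivial_iff_ne_bot _).mpr (T.ne_bot_of_dvd_card h.two_dvd)
  have hc := T.isPGroup'.center_nontrivial
  obtain ⟨k, hk⟩ := (T.isPGroup'.to_subgroup (center (T : Subgroup G))).exists_card_eq
  have h2 : 2 ∣ Nat.card (center (T : Subgroup G)) := by
    rcases k with _ | k
    · exfalso
      rw [pow_zero] at hk
      exact (nontrivial_iff_ne_bot _).mp hc (eq_bot_of_card_eq _ hk)
    · exact hk ▸ dvd_pow_self 2 (Nat.succ_ne_zero k)
  obtain ⟨z, hz⟩ := exists_prime_orderOf_dvd_card' (G := center (T : Subgroup G)) 2 h2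
  have hzo : orderOf ((z : (T : Subgroup G)) : G) = 2 := by rw [orderOf_coe, orderOf_coe]; exact hz
  refine ⟨_, z.1.2, hzo, ?_⟩
  refine T.is_maximal' (h.isPGroup_centralizer hzo) fun x hx => mem_centralizer_singleton_iff.mpr ?_
  exact congrArg Subtype.val (mem_center_iff.mp z.2 ⟨x, hx⟩)

lemma comm {a b : G} (ha : a ∈ (T : Subgroup G)) (hb : b ∈ (T : Subgroup G)) : a * b = b * a := by
  obtain ⟨z, -, hzo, hzc⟩ := h.exists_centre
  exact congrArg Subtype.val ((h.hC z hzo).1.is_comm.comm ⟨a, hzc ▸ ha⟩ ⟨b, hzc ▸ hb⟩)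

lemma sq {a : G} (ha : a ∈ (T : Subgroup G)) : a ^ 2 = 1 := by
  obtain ⟨z, -, hzo, hzc⟩ := h.exists_centre
  exact (h.hC z hzo).2 a (hzc ▸ ha)

lemma order {a : G} (ha : a ∈ (T : Subgroup G)) (h1 : a ≠ 1) : orderOf a = 2 :=
  orderOf_eq_prime (h.sq ha) h1

lemma centralizer_eq {t : G} (ht : orderOf t = 2) (htT : t ∈ (T : Subgroup G)) :
    centralizer ({t} : Set G) = (T : Subgroup G) :=
  T.is_maximal' (h.isPGroup_centralizer ht) fun _ hx => mem_centralizer_singleton_iff.mpr (h.comm hx htT)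

lemma four_le : 4 ≤ Nat.card (T : Subgroup G) := by
  have : Fact (Nat.Prime 2) := ⟨Nat.prime_two⟩
  obtain ⟨k, hk⟩ := T.isPGroup'.exists_card_eq
  rw [hk]
  rcases k with _ | _ | k
  · have h1 : Nat.card (T : Subgroup G) = 1 := by rw [hk, pow_zero]
    have := (Nat.card_eq_one_iff_unique.mp h1).1
    exact absurd (inferInstance : IsCyclic (T : Subgroup G)) h.nc
  · exact absurd (isCyclic_of_prime_card (p := 2) (by simpa using hk)) h.nc
  · calc 4 = 2 ^ 2 := rfl
      _ ≤ 2 ^ (k + 2) := Nat.pow_le_pow_right two_pos (by omega)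

local notation "H" => normalizer ((T : Subgroup G) : Set G)

lemma mem_T_of_involution {t : G} (ht : orderOf t = 2) (htH : t ∈ H) : t ∈ (T : Subgroup G) := by
  have : Fact (Nat.Prime 2) := ⟨Nat.prime_two⟩
  have h2 : IsPGroup 2 (zpowers t) := IsPGroup.of_card (n := 1) (by rw [Nat.card_zpowers, ht, pow_one])
  have := T.is_maximal' (IsPGroup.to_sup_of_normal_left' T.isPGroup' h2 (zpowers_le.mpr htH)) le_sup_left
  rw [← this]
  exact mem_sup_right (mem_zpowers t)

lemma conj_T {g x : G} (hg : g ∈ H) (hx : x ∈ (T : Subgroup G)) : g * x * g⁻¹ ∈ (T : Subgroup G) :=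
  (mem_normalizer_iff.mp hg x).mp hx

lemma se : Cfsg.IsStronglyEmbedded H := by
  have hne : H ≠ ⊤ := fun ht => h.nn (normalizer_eq_top_iff.mp ht)
  have heven : Even (Nat.card H) := by
    obtain ⟨z, hz, hzo, -⟩ := h.exists_centre
    have hd := Subgroup.orderOf_dvd_natCard H ((T : Subgroup G).le_normalizer hz)
    rw [hzo] at hd
    exact even_iff_two_dvd.mpr hd
  rw [se_iff_forall hne heven]
  intro s g hs h1 h2
  have hsT := h.mem_T_of_involution hs h1
  have ho : orderOf (g⁻¹ * s * g) = 2 := by simpa using (orderOf_conj g⁻¹ s).trans hs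
  have htT := h.mem_T_of_involution ho h2
  rw [mem_normalizer_iff]
  intro x
  have e1 := h.centralizer_eq hs hsT
  have e2 := h.centralizer_eq ho htT
  constructor
  · intro hx
    rw [← e1, mem_centralizer_singleton_iff]
    rw [← e2, mem_centralizer_singleton_iff] at hx
    calc g * x * g⁻¹ * s = g * (x * (g⁻¹ * s * g)) * g⁻¹ := by group
      _ = s * (g * x * g⁻¹) := by rw [hx]; group
  · intro hx
    rw [← e2, mem_centralizer_singleton_iff]
    rw [← e1, mem_centralizer_singleton_iff] at hx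
    calc x * (g⁻¹ * s * g) = g⁻¹ * (g * x * g⁻¹ * s) * g := by group
      _ = g⁻¹ * s * g * x := by rw [hx]; group

lemma exists_outside : ∃ u : G, orderOf u = 2 ∧ u ∉ H := by
  by_contra hall
  push Not at hall
  obtain ⟨z, hz, hzo, -⟩ := h.exists_centre
  apply h.nn
  rw [← normalizer_eq_top_iff]
  refine top_le_iff.mp fun g _ => ?_
  exact se_mem' h.se hzo ((T : Subgroup G).le_normalizer hz)
    (hall _ ((orderOf_conj g z).trans hzo))

lemma all_conj {a b : G} (ha : orderOf a = 2) (hb : orderOf b = 2) : IsConj a b := by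
  obtain ⟨z, hz, hzo, -⟩ := h.exists_centre
  have hzH := (T : Subgroup G).le_normalizer hz
  obtain ⟨u, hu, huH⟩ := h.exists_outside
  have key : ∀ c : G, orderOf c = 2 → IsConj c u := by
    intro c hc
    by_cases hcH : c ∈ H
    · exact se_conj_of_inside_outside h.se hc hcH hu huH
    · exact (se_conj_of_inside_outside h.se hzo hzH hc hcH).symm.trans
        (se_conj_of_inside_outside h.se hzo hzH hu huH)
  exact (key a ha).trans (key b hb).symm

lemma conj_in_H {a b : G} (ha : orderOf a = 2) (hb : orderOf b = 2) (haT : a ∈ (T : Subgroup G))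
    (hbT : b ∈ (T : Subgroup G)) : ∃ k ∈ H, k * a * k⁻¹ = b := by
  obtain ⟨g, hg⟩ := isConj_iff.mp (h.all_conj ha hb)
  refine ⟨g, se_mem' h.se ha ((T : Subgroup G).le_normalizer haT) ?_, hg⟩
  rw [hg]
  exact (T : Subgroup G).le_normalizer hbT

lemma card_ne_one : Nat.card {a : (T : Subgroup G) // a ≠ 1} = Nat.card (T : Subgroup G) - 1 := by
  classical
  have := Fintype.ofFinite (T : Subgroup G)
  simp [Nat.card_eq_fintype_card, Fintype.card_subtype_compl]

lemma card_inv_H : Nat.card {i : G // orderOf i = 2 ∧ i ∈ H} = Nat.card (T : Subgroup G) - 1 := by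
  rw [← h.card_ne_one]
  refine Nat.card_congr
    { toFun := fun i => ⟨⟨i.1, h.mem_T_of_involution i.2.1 i.2.2⟩, fun he => ne_one i.2.1 (congrArg Subtype.val he)⟩
      invFun := fun a => ⟨a.1.1, h.order a.1.2 (fun he => a.2 (Subtype.ext he)), (T : Subgroup G).le_normalizer a.1.2⟩
      left_inv := fun i => rfl
      right_inv := fun a => rfl }

lemma card_H : Nat.card H = Nat.card (T : Subgroup G) * (Nat.card (T : Subgroup G) - 1) := by
  obtain ⟨z, hz, hzo, hzc⟩ := h.exists_centre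
  have hTH : (T : Subgroup G) ≤ H := (T : Subgroup G).le_normalizer
  rw [← ((T : Subgroup G).subgroupOf H).card_mul_index, Nat.card_congr (subgroupOfEquivOfLe hTH).toEquiv,
    index_eq_card]
  congr 1
  rw [← h.card_inv_H]
  refine Nat.card_eq_of_bijective
    (fun q => Quotient.liftOn' q (fun k => (⟨(k : G) * z * (k : G)⁻¹, (orderOf_conj _ _).trans hzo,
      hTH (h.conj_T k.2 hz)⟩ : {i : G // orderOf i = 2 ∧ i ∈ H})) ?_) ⟨?_, ?_⟩
  · intro a b hab
    rw [QuotientGroup.leftRel_apply, mem_subgroupOf] at hab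
    simp only [Subgroup.coe_mul, Subgroup.coe_inv] at hab
    apply Subtype.ext
    have hc := h.comm hab hz
    calc (a : G) * z * (a : G)⁻¹ = (a : G) * (((a : G)⁻¹ * b) * z * ((a : G)⁻¹ * b)⁻¹) * (a : G)⁻¹ := by
          rw [hc, mul_inv_cancel_right]
      _ = (b : G) * z * (b : G)⁻¹ := by group
  · intro p q
    induction p using Quotient.inductionOn' with
    | _ a =>
    induction q using Quotient.inductionOn' with
    | _ b =>
    intro hab
    simp only [Quotient.liftOn'_mk'', Subtype.mk.injEq] at hab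
    rw [Quotient.eq'', QuotientGroup.leftRel_apply, mem_subgroupOf]
    simp only [Subgroup.coe_mul, Subgroup.coe_inv]
    have hm : (a : G)⁻¹ * b ∈ centralizer ({z} : Set G) := by
      rw [mem_centralizer_singleton_iff]
      calc (a : G)⁻¹ * b * z = (a : G)⁻¹ * ((b : G) * z * (b : G)⁻¹) * b := by group
        _ = z * ((a : G)⁻¹ * b) := by rw [← hab]; group
    rwa [hzc] at hm
  · rintro ⟨i, hio, hiH⟩
    obtain ⟨k, hk, hke⟩ := h.conj_in_H hzo hio hz (h.mem_T_of_involution hio hiH)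
    exact ⟨Quotient.mk'' ⟨k, hk⟩, Subtype.ext hke⟩

lemma card_inv : Nat.card {i : G // orderOf i = 2} = (H).index * (Nat.card (T : Subgroup G) - 1) := by
  obtain ⟨z, hz, hzo, hzc⟩ := h.exists_centre
  have h1 := (T : Subgroup G).card_mul_index
  have h2 := (H).card_mul_index
  have h3 : Nat.card {i : G // orderOf i = 2} = (T : Subgroup G).index := by
    rw [← hzc, Subgroup.centralizer_eq_comap_stabilizer z]
    refine (Eq.trans (index_comap_of_surjective _ ConjAct.toConjAct.surjective) ?_).symm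
    rw [MulAction.index_stabilizer, ← Nat.card_coe_set_eq]
    refine Nat.card_congr (Equiv.subtypeEquivRight fun a => ?_)
    change a ∈ MulAction.orbit (ConjAct G) z ↔ _
    rw [ConjAct.mem_orbit_conjAct]
    exact ⟨fun hc => (isConj_orderOf hc).trans hzo, fun hc => h.all_conj hc hzo⟩
  rw [h3]
  rw [h.card_H, ← h1, mul_assoc] at h2
  rw [mul_comm]
  exact (Nat.eq_of_mul_eq_mul_left (by have := h.four_le; omega) h2).symm

lemma smul_eq_iff {g v : G} : g • (QuotientGroup.mk v : G ⧸ H) = QuotientGroup.mk v ↔ v⁻¹ * g * v ∈ H := by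
  rw [MulAction.Quotient.smul_mk, smul_eq_mul, QuotientGroup.eq, ← (H).inv_mem_iff]
  simp [mul_assoc]

lemma inf_T_eq_bot {g : G} (hg : g ∉ H) :
    (H ⊓ (H).map (MulAut.conj g).toMonoidHom) ⊓ (T : Subgroup G) = ⊥ := by
  rw [eq_bot_iff]
  rintro x ⟨⟨-, hx2⟩, hxT⟩
  rw [mem_bot]
  by_contra hx1
  exact hg (se_mem h.se (h.order hxT hx1) ((T : Subgroup G).le_normalizer hxT) (mem_map_conj.mp hx2))

lemma card_inf_le {g : G} (hg : g ∉ H) :
    Nat.card ↥(H ⊓ (H).map (MulAut.conj g).toMonoidHom) ≤ Nat.card (T : Subgroup G) - 1 := by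
  have hidx : ((T : Subgroup G).subgroupOf H).index = Nat.card (T : Subgroup G) - 1 := by
    have h1 := ((T : Subgroup G).subgroupOf H).card_mul_index
    rw [Nat.card_congr (subgroupOfEquivOfLe (T : Subgroup G).le_normalizer).toEquiv, h.card_H] at h1
    exact Nat.eq_of_mul_eq_mul_left Nat.card_pos h1
  rw [← hidx, index_eq_card]
  refine Nat.card_le_card_of_injective
    (fun x => (QuotientGroup.mk (⟨x.1, x.2.1⟩ : H) : H ⧸ (T : Subgroup G).subgroupOf H)) ?_
  intro x y hxy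
  rw [QuotientGroup.eq, mem_subgroupOf] at hxy
  simp only [Subgroup.coe_mul, Subgroup.coe_inv] at hxy
  have hm : (x : G)⁻¹ * y ∈ (H ⊓ (H).map (MulAut.conj g).toMonoidHom) ⊓ (T : Subgroup G) :=
    ⟨(x⁻¹ * y).2, hxy⟩
  rw [h.inf_T_eq_bot hg, mem_bot] at hm
  exact Subtype.ext (inv_mul_eq_one.mp hm)

lemma fiber_le (c : G ⧸ H) (hc : c ≠ QuotientGroup.mk 1) :
    Nat.card {i : G // orderOf i = 2 ∧ (QuotientGroup.mk i : G ⧸ H) = c}
      ≤ Nat.card (T : Subgroup G) - 1 := by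
  rcases isEmpty_or_nonempty {i : G // orderOf i = 2 ∧ (QuotientGroup.mk i : G ⧸ H) = c} with he | ⟨⟨i, hi, rfl⟩⟩
  · rw [Nat.card_of_isEmpty]; exact Nat.zero_le _
  have hiH : i ∉ H := fun hm => hc (QuotientGroup.eq.mpr (by simpa using hm))
  refine le_trans ?_ (h.card_inf_le hiH)
  refine Nat.card_le_card_of_injective (fun j => ⟨i * j.1, ?_, ?_⟩) ?_
  · have := QuotientGroup.eq.mp j.2.2.symm
    rwa [inv_self hi] at this
  · refine mem_map_conj.mpr ?_
    rw [inv_self hi, mul_mul_self_left hi]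
    have := QuotientGroup.eq.mp j.2.2
    rwa [inv_self j.2.1] at this
  · intro a b hab
    exact Subtype.ext (mul_left_cancel (congrArg Subtype.val hab))

lemma fiber_eq (c : G ⧸ H) (hc : c ≠ QuotientGroup.mk 1) :
    Nat.card {i : G // orderOf i = 2 ∧ (QuotientGroup.mk i : G ⧸ H) = c}
      = Nat.card (T : Subgroup G) - 1 := by
  classical
  refine le_antisymm (h.fiber_le c hc) ?_
  by_contra hlt
  push Not at hlt
  have := Fintype.ofFinite (G ⧸ H)
  have hsum : Nat.card {i : G // orderOf i = 2} =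
      ∑ c : G ⧸ H, Nat.card {i : G // orderOf i = 2 ∧ (QuotientGroup.mk i : G ⧸ H) = c} := by
    rw [← Nat.card_sigma]
    refine Nat.card_congr
      { toFun := fun i => ⟨_, i.1, i.2, rfl⟩
        invFun := fun s => ⟨s.2.1, s.2.2.1⟩
        left_inv := fun i => rfl
        right_inv := fun s => ?_ }
    obtain ⟨q, i, hi, rfl⟩ := s
    rfl
  have hle : ∀ d ∈ (Finset.univ : Finset (G ⧸ H)),
      Nat.card {i : G // orderOf i = 2 ∧ (QuotientGroup.mk i : G ⧸ H) = d} ≤ Nat.card (T : Subgroup G) - 1 := by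
    intro d _
    by_cases hd : d = QuotientGroup.mk 1
    · subst hd
      rw [← h.card_inv_H]
      refine le_of_eq (Nat.card_congr (Equiv.subtypeEquivRight fun i => and_congr_right fun _ => ?_))
      rw [QuotientGroup.eq, mul_one, inv_mem_iff]
    · exact h.fiber_le d hd
  have := Finset.sum_lt_sum hle ⟨c, Finset.mem_univ _, hlt⟩
  rw [← hsum, h.card_inv, Finset.sum_const, Finset.card_univ, smul_eq_mul, ← Nat.card_eq_fintype_card,
    ← index_eq_card] at this
  exact lt_irrefl _ this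

lemma exists_swap {g : G} (hg : g ∉ H) :
    ∃ i : G, orderOf i = 2 ∧ i ∉ H ∧ (QuotientGroup.mk i : G ⧸ H) = QuotientGroup.mk g := by
  have hc : (QuotientGroup.mk g : G ⧸ H) ≠ QuotientGroup.mk 1 := fun he =>
    hg (by simpa using QuotientGroup.eq.mp he)
  have hf := h.fiber_eq _ hc
  have h4 := h.four_le
  obtain ⟨⟨i, hi, hie⟩⟩ := (Nat.card_pos_iff.mp (hf ▸ (by omega : 0 < Nat.card (T : Subgroup G) - 1))).1
  exact ⟨i, hi, fun hm => hc (hie ▸ QuotientGroup.eq.mpr (by simpa using hm)), hie⟩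

/-- The stabiliser of the two cosets swapped by an involution is inverted by it. -/
lemma inverts {u : G} (hu : orderOf u = 2) (huH : u ∉ H) :
    (∀ d ∈ H ⊓ (H).map (MulAut.conj u).toMonoidHom, u * d * u⁻¹ = d⁻¹) ∧
      Nat.card ↥(H ⊓ (H).map (MulAut.conj u).toMonoidHom) = Nat.card (T : Subgroup G) - 1 := by
  have hc : (QuotientGroup.mk u : G ⧸ H) ≠ QuotientGroup.mk 1 := fun he =>
    huH (by simpa using QuotientGroup.eq.mp he)
  have hf := h.fiber_eq _ hc
  set D := H ⊓ (H).map (MulAut.conj u).toMonoidHom with hD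
  let f : {i : G // orderOf i = 2 ∧ (QuotientGroup.mk i : G ⧸ H) = QuotientGroup.mk u} → D := fun j =>
    ⟨u * j.1, by
      have := QuotientGroup.eq.mp j.2.2.symm
      rwa [inv_self hu] at this, by
      refine mem_map_conj.mpr ?_
      rw [inv_self hu, mul_mul_self_left hu]
      have := QuotientGroup.eq.mp j.2.2
      rwa [inv_self j.2.1] at this⟩
  have hinj : Function.Injective f := fun a b hab => Subtype.ext (mul_left_cancel (congrArg Subtype.val hab))
  have hcard : Nat.card D = Nat.card (T : Subgroup G) - 1 :=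
    le_antisymm (h.card_inf_le huH) (hf ▸ Nat.card_le_card_of_injective f hinj)
  refine ⟨fun d hd => ?_, hcard⟩
  obtain ⟨⟨j, hjo, hjc⟩, hj⟩ := ((Nat.bijective_iff_injective_and_card f).mpr ⟨hinj, hf.trans hcard.symm⟩).2 ⟨d, hd⟩
  have e : u * j = d := congrArg Subtype.val hj
  rw [← e]
  exact conj_prod hu hjo

lemma complement {u : G} (hu : orderOf u = 2) (huH : u ∉ H) :
    IsComplement' ((H ⊓ (H).map (MulAut.conj u).toMonoidHom).subgroupOf H)
      ((T : Subgroup G).subgroupOf H) := by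
  refine isComplement'_of_card_mul_and_disjoint ?_ ?_
  · rw [Nat.card_congr (subgroupOfEquivOfLe inf_le_left).toEquiv,
      Nat.card_congr (subgroupOfEquivOfLe (T : Subgroup G).le_normalizer).toEquiv, (h.inverts hu huH).2,
      h.card_H, mul_comm]
  · rw [disjoint_iff, eq_bot_iff]
    rintro ⟨x, hxH⟩ ⟨hx1, hx2⟩
    have : x ∈ (H ⊓ (H).map (MulAut.conj u).toMonoidHom) ⊓ (T : Subgroup G) :=
      ⟨mem_subgroupOf.mp hx1, mem_subgroupOf.mp hx2⟩
    rw [h.inf_T_eq_bot huH, mem_bot] at this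
    exact mem_bot.mpr (Subtype.ext this)

lemma eq_one_of_commute_T {d t : G} (ht : t ∈ (T : Subgroup G)) (ht1 : t ≠ 1) {u : G} (huH : u ∉ H)
    (hd : d ∈ H ⊓ (H).map (MulAut.conj u).toMonoidHom) (hc : Commute d t) : d = 1 := by
  have hdT : d ∈ (T : Subgroup G) := by
    rw [← h.centralizer_eq (h.order ht ht1) ht, mem_centralizer_singleton_iff]
    exact hc
  have : d ∈ (H ⊓ (H).map (MulAut.conj u).toMonoidHom) ⊓ (T : Subgroup G) := ⟨hd, hdT⟩
  rwa [h.inf_T_eq_bot huH, mem_bot] at this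

lemma T_inf_normalizer_D {u : G} (hu : orderOf u = 2) (huH : u ∉ H) {n : G} (hnH : n ∈ H)
    (hn : ∀ d ∈ H ⊓ (H).map (MulAut.conj u).toMonoidHom,
      n * d * n⁻¹ ∈ H ⊓ (H).map (MulAut.conj u).toMonoidHom) :
    n ∈ H ⊓ (H).map (MulAut.conj u).toMonoidHom := by
  set D := H ⊓ (H).map (MulAut.conj u).toMonoidHom with hD
  obtain ⟨⟨⟨⟨d₁, hd₁H⟩, hd₁⟩, ⟨⟨t, htH⟩, ht⟩⟩, he⟩ := (h.complement hu huH).2 ⟨n, hnH⟩
  rw [SetLike.mem_coe, mem_subgroupOf] at hd₁ ht
  have he' : d₁ * t = n := congrArg Subtype.val he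
  by_cases ht1 : t = 1
  · rw [← he', ht1, mul_one]; exact hd₁
  exfalso
  have h4 := h.four_le
  have hcard : Nat.card D = Nat.card (T : Subgroup G) - 1 := (h.inverts hu huH).2
  have : Nontrivial D := Finite.one_lt_card_iff_nontrivial.mp (by omega)
  obtain ⟨⟨d, hd⟩, hd1⟩ := exists_ne (1 : D)
  have h1 : t * d * t⁻¹ ∈ D := by
    have h2 := D.mul_mem (D.mul_mem (D.inv_mem hd₁) (hn d hd)) hd₁
    convert h2 using 1
    rw [← he']; group
  have h3 : t * d * t⁻¹ * d⁻¹ ∈ D ⊓ (T : Subgroup G) := by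
    refine ⟨D.mul_mem h1 (D.inv_mem hd), ?_⟩
    rw [show t * d * t⁻¹ * d⁻¹ = t * (d * t⁻¹ * d⁻¹) by group]
    exact (T : Subgroup G).mul_mem ht (h.conj_T hd.1 ((T : Subgroup G).inv_mem ht))
  rw [h.inf_T_eq_bot huH, mem_bot] at h3
  exact hd1 (Subtype.ext (h.eq_one_of_commute_T ht ht1 huH hd
    (mul_inv_eq_iff_eq_mul.mp (mul_inv_eq_one.mp h3)).symm))

lemma fixed_iff {u : G} (hu : orderOf u = 2) (huH : u ∉ H) (g : G) :
    (∀ d ∈ H ⊓ (H).map (MulAut.conj u).toMonoidHom,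
      d • (QuotientGroup.mk g : G ⧸ H) = QuotientGroup.mk g) ↔
      (QuotientGroup.mk g : G ⧸ H) = QuotientGroup.mk 1 ∨
        (QuotientGroup.mk g : G ⧸ H) = QuotientGroup.mk u := by
  set D := H ⊓ (H).map (MulAut.conj u).toMonoidHom with hD
  constructor
  · intro hfix
    by_contra hne
    push Not at hne
    obtain ⟨hne1, hne2⟩ := hne
    have hgH : g ∉ H := fun hm => hne1 (QuotientGroup.eq.mpr (by simpa using hm))
    obtain ⟨i, hi, hiH, hie⟩ := h.exists_swap hgH
    have hDi : ∀ d ∈ D, i⁻¹ * d * i ∈ H := by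
      intro d hd
      have := hfix d hd
      rw [← hie, h.smul_eq_iff] at this
      exact this
    have hcard : Nat.card D = Nat.card (T : Subgroup G) - 1 := (h.inverts hu huH).2
    have e1 : D = H ⊓ (H).map (MulAut.conj i).toMonoidHom :=
      eq_of_le_of_card_ge (fun d hd => ⟨hd.1, mem_map_conj.mpr (hDi d hd)⟩)
        (by rw [(h.inverts hi hiH).2, hcard])
    have hiu : i⁻¹ * u ∉ H := fun hm => hne2 (hie ▸ QuotientGroup.eq.mpr hm)
    obtain ⟨k, hk, hkH, hke⟩ := h.exists_swap hiu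
    set j := i * k * i⁻¹ with hj
    have hj_inv : ∀ d ∈ D, j * d * j⁻¹ = d⁻¹ := by
      intro d hd
      have hm : i⁻¹ * d * i ∈ H ⊓ (H).map (MulAut.conj k).toMonoidHom := by
        refine ⟨hDi d hd, mem_map_conj.mpr ?_⟩
        have h1 : u⁻¹ * d * u ∈ H := mem_map_conj.mp hd.2
        have h2 : k⁻¹ * (i⁻¹ * u) ∈ H := QuotientGroup.eq.mp hke
        have h3 := (H).mul_mem ((H).mul_mem h2 h1) ((H).inv_mem h2)
        convert h3 using 1
        group
      have h3 := (h.inverts hk hkH).1 _ hm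
      rw [hj]
      calc i * k * i⁻¹ * d * (i * k * i⁻¹)⁻¹ = i * (k * (i⁻¹ * d * i) * k⁻¹) * i⁻¹ := by group
        _ = d⁻¹ := by rw [h3]; group
    have hu_inv := (h.inverts hu huH).1
    have hi_inv : ∀ d ∈ D, i * d * i⁻¹ = d⁻¹ := fun d hd => (h.inverts hi hiH).1 d (e1 ▸ hd)
    set c := u * (j * i) with hc
    have hcH : c ∈ H := by
      have h2 : k⁻¹ * (i⁻¹ * u) ∈ H := QuotientGroup.eq.mp hke
      rw [inv_self hk, inv_self hi] at h2
      have h3 := (H).inv_mem h2
      rw [mul_inv_rev, mul_inv_rev, inv_self hk, inv_self hi, inv_self hu] at h3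
      convert h3 using 1
      rw [hc, hj]; group
    have hc_inv : ∀ d ∈ D, c * d * c⁻¹ = d⁻¹ := by
      intro d hd
      calc c * d * c⁻¹ = u * (j * (i * d * i⁻¹) * j⁻¹) * u⁻¹ := by rw [hc]; group
        _ = u * d * u⁻¹ := by rw [hi_inv d hd, ← conj_inv, hj_inv d hd, inv_inv]
        _ = d⁻¹ := hu_inv d hd
    have hcD : c ∈ D := h.T_inf_normalizer_D hu huH hcH fun d hd => by
      rw [hc_inv d hd]; exact D.inv_mem hd
    have hcomm : ∀ d ∈ D, d * d = 1 := by
      intro d hd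
      have h1 := hu_inv d hd
      have h2 := hu_inv c hcD
      have h3 := hu_inv (c * d) (D.mul_mem hcD hd)
      have hcomm' : c * d = d * c := by
        have h4 : u * (c * d) * u⁻¹ = c⁻¹ * d⁻¹ := by
          rw [← h1, ← h2]; group
        rw [h3] at h4
        have h5 := congrArg Inv.inv h4
        simpa [mul_inv_rev] using h5
      have h6 := hc_inv d hd
      rw [hcomm', mul_inv_cancel_right] at h6
      exact mul_eq_one_iff_eq_inv.mpr h6
    have h4 := h.four_le
    have : Nontrivial D := Finite.one_lt_card_iff_nontrivial.mp (by omega)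
    obtain ⟨⟨d, hd⟩, hd1⟩ := exists_ne (1 : D)
    refine hd1 (Subtype.ext ?_)
    by_contra hd1'
    have hdT := h.mem_T_of_involution (orderOf_two_of (hcomm d hd) hd1') hd.1
    have : d ∈ D ⊓ (T : Subgroup G) := ⟨hd, hdT⟩
    rw [h.inf_T_eq_bot huH, mem_bot] at this
    exact hd1' this
  · rintro (hg | hg) d hd
    · rw [hg, h.smul_eq_iff]; simpa using hd.1
    · rw [hg, h.smul_eq_iff]; exact mem_map_conj.mp hd.2

lemma normalizer_D {u : G} (hu : orderOf u = 2) (huH : u ∉ H) :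
    normalizer ((H ⊓ (H).map (MulAut.conj u).toMonoidHom : Subgroup G) : Set G) =
      (H ⊓ (H).map (MulAut.conj u).toMonoidHom) ⊔ zpowers u := by
  set D := H ⊓ (H).map (MulAut.conj u).toMonoidHom with hD
  have hu_inv := (h.inverts hu huH).1
  have hun : u ∈ normalizer (D : Set G) := by
    rw [mem_normalizer_iff]
    intro x
    constructor
    · intro hx; rw [hu_inv x hx]; exact D.inv_mem hx
    · intro hx
      have h1 := hu_inv _ hx
      have e : x = (u * x * u⁻¹)⁻¹ := by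
        rw [← h1, inv_self hu]
        calc x = (u * u) * x * (u * u) := by rw [mul_self hu, one_mul, mul_one]
          _ = _ := by group
      rw [e]; exact D.inv_mem hx
  refine le_antisymm ?_ (sup_le D.le_normalizer (zpowers_le.mpr hun))
  intro n hn
  have hfix : ∀ d ∈ D, d • (QuotientGroup.mk n : G ⧸ H) = QuotientGroup.mk n := by
    intro d hd
    rw [h.smul_eq_iff]
    have := (mem_normalizer_iff.mp (inv_mem hn) d).mp hd
    rw [inv_inv] at this
    exact this.1
  rcases (h.fixed_iff hu huH n).mp hfix with hc | hc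
  · refine mem_sup_left (h.T_inf_normalizer_D hu huH ?_ fun d hd => (mem_normalizer_iff.mp hn d).mp hd)
    simpa using QuotientGroup.eq.mp hc
  · have hun' : u * n ∈ D := by
      refine h.T_inf_normalizer_D hu huH ?_ fun d hd => (mem_normalizer_iff.mp (mul_mem hun hn) d).mp hd
      have := QuotientGroup.eq.mp hc.symm
      rwa [inv_self hu] at this
    rw [← mul_mul_self_left hu n]
    exact mul_mem (mem_sup_right (mem_zpowers u)) (mem_sup_left hun')

lemma conj_swap {u i : G} (hu : orderOf u = 2) (huH : u ∉ H) (hi : orderOf i = 2) (hiH : i ∉ H) :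
    ∃ t ∈ (T : Subgroup G), t • (QuotientGroup.mk u : G ⧸ H) = QuotientGroup.mk i := by
  have : IsMulCommutative ((T : Subgroup G).subgroupOf H) :=
    ⟨⟨fun a b => Subtype.ext (Subtype.ext (h.comm (mem_subgroupOf.mp a.2) (mem_subgroupOf.mp b.2)))⟩⟩
  have : ((T : Subgroup G).subgroupOf H).Normal :=
    ⟨fun a ha g => mem_subgroupOf.mpr (h.conj_T g.2 (mem_subgroupOf.mp ha))⟩
  have hcop : (Nat.card ((T : Subgroup G).subgroupOf H)).Coprime ((T : Subgroup G).subgroupOf H).index := by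
    have hidx : ((T : Subgroup G).subgroupOf H).index = Nat.card (T : Subgroup G) - 1 := by
      have h1 := ((T : Subgroup G).subgroupOf H).card_mul_index
      rw [Nat.card_congr (subgroupOfEquivOfLe (T : Subgroup G).le_normalizer).toEquiv, h.card_H] at h1
      exact Nat.eq_of_mul_eq_mul_left Nat.card_pos h1
    rw [hidx, Nat.card_congr (subgroupOfEquivOfLe (T : Subgroup G).le_normalizer).toEquiv]
    have h4 := h.four_le
    exact (Nat.coprime_self_sub_right (by omega)).mpr (Nat.coprime_one_right _)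
  obtain ⟨a, haT, ha⟩ := Cfsg.Agent.Lib.Coprime.exists_mem_conj_eq_of_abelian _ hcop
    (h.complement hu huH).symm (h.complement hi hiH).symm
  refine ⟨(a : G), mem_subgroupOf.mp haT, ?_⟩
  have hfix : ∀ d ∈ H ⊓ (H).map (MulAut.conj u).toMonoidHom,
      d • (QuotientGroup.mk ((a : G)⁻¹ * i) : G ⧸ H) = QuotientGroup.mk ((a : G)⁻¹ * i) := by
    intro d hd
    rw [h.smul_eq_iff]
    have h1 : MulAut.conj a • (⟨d, hd.1⟩ : H) ∈ (H ⊓ (H).map (MulAut.conj i).toMonoidHom).subgroupOf H := by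
      rw [← ha]
      exact smul_mem_pointwise_smul _ _ _ (mem_subgroupOf.mpr hd)
    rw [mem_subgroupOf] at h1
    have h2 := mem_map_conj.mp h1.2
    simp only [MulAut.smul_def, MulAut.conj_apply, Subgroup.coe_mul, Subgroup.coe_inv] at h2
    convert h2 using 1
    group
  rcases (h.fixed_iff hu huH _).mp hfix with hc | hc
  · exfalso
    apply hiH
    have := QuotientGroup.eq.mp hc.symm
    rw [inv_one, one_mul] at this
    have h2 := (H).mul_mem a.2 this
    rwa [mul_inv_cancel_left] at h2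
  · rw [MulAction.Quotient.smul_mk, smul_eq_mul, QuotientGroup.eq]
    have := QuotientGroup.eq.mp hc.symm
    convert this using 1
    group

lemma semiregular {t g : G} (ht : t ∈ (T : Subgroup G)) (hg : g ∉ H)
    (hf : t • (QuotientGroup.mk g : G ⧸ H) = QuotientGroup.mk g) : t = 1 := by
  by_contra ht1
  exact hg (se_mem h.se (h.order ht ht1) ((T : Subgroup G).le_normalizer ht) (h.smul_eq_iff.mp hf))

lemma regular (x y : G ⧸ H) (hx : x ≠ QuotientGroup.mk 1) (hy : y ≠ QuotientGroup.mk 1) :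
    ∃! t : G, t ∈ T ∧ t • x = y := by
  have hrep : ∀ z : G ⧸ H, z ≠ QuotientGroup.mk 1 → ∃ i : G, orderOf i = 2 ∧ i ∉ H ∧ QuotientGroup.mk i = z := by
    intro z hz
    induction z using QuotientGroup.induction_on with
    | _ g => exact h.exists_swap fun hm => hz (QuotientGroup.eq.mpr (by simpa using hm))
  obtain ⟨u, hu, huH, rfl⟩ := hrep x hx
  obtain ⟨i, hi, hiH, rfl⟩ := hrep y hy
  obtain ⟨t, ht, hte⟩ := h.conj_swap hu huH hi hiH
  refine ⟨t, ⟨ht, hte⟩, ?_⟩
  rintro s ⟨hs, hse⟩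
  have := h.semiregular ((T : Subgroup G).mul_mem ((T : Subgroup G).inv_mem ht) hs) huH (by
    rw [mul_smul, hse, ← hte, inv_smul_smul])
  exact (inv_mul_eq_one.mp this).symm

lemma triple_fix {g : G} {u : G} (hu : orderOf u = 2) (huH : u ∉ H) {x : G ⧸ H}
    (hx1 : x ≠ QuotientGroup.mk 1) (hx2 : x ≠ QuotientGroup.mk u)
    (g1 : g • (QuotientGroup.mk 1 : G ⧸ H) = QuotientGroup.mk 1)
    (g2 : g • (QuotientGroup.mk u : G ⧸ H) = QuotientGroup.mk u) (g3 : g • x = x) : g = 1 := by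
  have hgH : g ∈ H := by simpa using h.smul_eq_iff.mp g1
  have hgD : g ∈ H ⊓ (H).map (MulAut.conj u).toMonoidHom := ⟨hgH, mem_map_conj.mpr (h.smul_eq_iff.mp g2)⟩
  obtain ⟨t, ⟨ht, hte⟩, huniq⟩ := h.regular _ x (fun he => huH (by simpa using QuotientGroup.eq.mp he)) hx1
  have h1 : g * t * g⁻¹ = t := by
    refine huniq _ ⟨h.conj_T hgH ht, ?_⟩
    rw [mul_smul, mul_smul, show g⁻¹ • (QuotientGroup.mk u : G ⧸ H) = QuotientGroup.mk u from
      inv_smul_eq_iff.mpr g2.symm, hte, g3]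
  have ht1 : t ≠ 1 := fun he => hx2 (by rw [← hte, he, one_smul])
  exact h.eq_one_of_commute_T ht ht1 huH hgD (mul_inv_eq_iff_eq_mul.mp h1)

theorem three_transitive :
    (∀ x₁ x₂ x₃ y₁ y₂ y₃ : G ⧸ H, x₁ ≠ x₂ → x₁ ≠ x₃ → x₂ ≠ x₃ → y₁ ≠ y₂ → y₁ ≠ y₃ → y₂ ≠ y₃ →
      ∃ g : G, g • x₁ = y₁ ∧ g • x₂ = y₂ ∧ g • x₃ = y₃) ∧
    (∀ g : G, ∀ x₁ x₂ x₃ : G ⧸ H, x₁ ≠ x₂ → x₁ ≠ x₃ → x₂ ≠ x₃ →
      g • x₁ = x₁ → g • x₂ = x₂ → g • x₃ = x₃ → g = 1) := by
  obtain ⟨u, hu, huH⟩ := h.exists_outside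
  set o : G ⧸ H := QuotientGroup.mk 1 with ho
  set p : G ⧸ H := QuotientGroup.mk u with hp
  have hpo : p ≠ o := fun he => huH (by simpa using QuotientGroup.eq.mp he)
  have hTo : ∀ t ∈ (T : Subgroup G), t • o = o := fun t ht => by
    rw [ho, h.smul_eq_iff]; simpa using (T : Subgroup G).le_normalizer ht
  have norm2 : ∀ a b : G ⧸ H, a ≠ b → ∃ g : G, g • a = o ∧ g • b = p := by
    intro a b hab
    obtain ⟨v, rfl⟩ := QuotientGroup.mk_surjective a
    have h1 : v⁻¹ • (QuotientGroup.mk v : G ⧸ H) = o := by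
      rw [MulAction.Quotient.smul_mk, smul_eq_mul, inv_mul_cancel]
    have hne : v⁻¹ • b ≠ o := fun he => hab (by
      rw [← he] at h1; exact MulAction.injective v⁻¹ h1)
    obtain ⟨t, ⟨ht, hte⟩, -⟩ := h.regular _ p hne hpo
    exact ⟨t * v⁻¹, by rw [mul_smul, h1, hTo t ht], by rw [mul_smul, hte]⟩
  have norm3 : ∀ x₁ x₂ x₃ : G ⧸ H, x₁ ≠ x₂ → x₁ ≠ x₃ → x₂ ≠ x₃ →
      ∃ g : G, g • x₁ = o ∧ g • x₂ = p ∧ g • x₃ ≠ o ∧ g • x₃ ≠ p := by
    intro x₁ x₂ x₃ h12 h13 h23
    obtain ⟨g, hg1, hg2⟩ := norm2 x₁ x₂ h12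
    exact ⟨g, hg1, hg2, fun he => h13 (MulAction.injective g (hg1.trans he.symm)),
      fun he => h23 (MulAction.injective g (hg2.trans he.symm))⟩
  have hD : ∀ a b : G ⧸ H, a ≠ o → a ≠ p → b ≠ o → b ≠ p →
      ∃ d ∈ H ⊓ (H).map (MulAut.conj u).toMonoidHom, d • a = b := by
    intro a b ha1 ha2 hb1 hb2
    obtain ⟨t, ⟨ht, hta⟩, -⟩ := h.regular p a hpo ha1
    obtain ⟨s, ⟨hs, hsb⟩, -⟩ := h.regular p b hpo hb1
    have ht1 : t ≠ 1 := fun he => ha2 (by rw [← hta, he, one_smul])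
    have hs1 : s ≠ 1 := fun he => hb2 (by rw [← hsb, he, one_smul])
    obtain ⟨k, hk, hke⟩ := h.conj_in_H (h.order ht ht1) (h.order hs hs1) ht hs
    obtain ⟨⟨⟨⟨d, hdH⟩, hd⟩, ⟨⟨w, hwH⟩, hw⟩⟩, he⟩ := (h.complement hu huH).2 ⟨k, hk⟩
    rw [SetLike.mem_coe, mem_subgroupOf] at hd hw
    have he' : d * w = k := congrArg Subtype.val he
    refine ⟨d, hd, ?_⟩
    have hde : d * t = s * d := by
      rw [← hke, ← he', mul_inv_rev, mul_assoc d w t, h.comm hw ht]
      group
    have hdp : d • p = p := h.smul_eq_iff.mpr (mem_map_conj.mp hd.2)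
    rw [← hta, ← mul_smul, hde, mul_smul, hdp, hsb]
  refine ⟨?_, ?_⟩
  · intro x₁ x₂ x₃ y₁ y₂ y₃ hx12 hx13 hx23 hy12 hy13 hy23
    obtain ⟨g, hg1, hg2, hg3, hg4⟩ := norm3 x₁ x₂ x₃ hx12 hx13 hx23
    obtain ⟨k, hk1, hk2, hk3, hk4⟩ := norm3 y₁ y₂ y₃ hy12 hy13 hy23
    obtain ⟨d, hd, hde⟩ := hD _ _ hg3 hg4 hk3 hk4
    have hdo : d • o = o := by rw [ho, h.smul_eq_iff]; simpa using hd.1
    have hdp : d • p = p := h.smul_eq_iff.mpr (mem_map_conj.mp hd.2)
    refine ⟨k⁻¹ * d * g, ?_, ?_, ?_⟩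
    · rw [mul_smul, hg1, mul_smul, hdo, inv_smul_eq_iff, hk1]
    · rw [mul_smul, hg2, mul_smul, hdp, inv_smul_eq_iff, hk2]
    · rw [mul_smul, mul_smul, hde, inv_smul_smul]
  · intro g x₁ x₂ x₃ h12 h13 h23 g1 g2 g3
    obtain ⟨k, hk1, hk2, hk3, hk4⟩ := norm3 x₁ x₂ x₃ h12 h13 h23
    have e : ∀ {x : G ⧸ H}, g • x = x → (k * g * k⁻¹) • (k • x) = k • x := fun {x} hx => by
      rw [mul_smul, mul_smul, inv_smul_smul, hx]
    have := h.triple_fix (g := k * g * k⁻¹) hu huH hk3 hk4 (by rw [← ho, ← hk1]; exact e g1)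
      (by rw [← hp, ← hk2]; exact e g2) (e g3)
    simpa using this

end ElemCent

end Cfsg.Agent.Lib.Involution
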