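import Mathlib

/-! Transfer to a group of signs from a subgroup of odd index, and characters of a product of an abelian normal
subgroup with a point stabilizer. -/

set_option autoImplicit false

namespace Cfsg.Agent.Lib.Involution.FischerSignTools

/-- An involution that every conjugation sends to a negative element of a subgroup of odd index is negative. -/
theorem exists_sign {K : Type*} [Group K] [Finite K] (S : Subgroup K) (hodd : ¬ 2 ∣ S.index) (ψ : ↥S →* ℤˣ)
    {d : K} (hd : d * d = 1) (h : ∀ g : K, ∀ hg : g⁻¹ * d * g ∈ S, ψ ⟨g⁻¹ * d * g, hg⟩ = -1) :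
    ∃ V : K →* ℤˣ, V d = -1 := by
  classical
  haveI := Fintype.ofFinite (Quotient (MulAction.orbitRel (Subgroup.zpowers d) (K ⧸ S)))
  refine ⟨MonoidHom.transfer ψ, ?_⟩
  rw [MonoidHom.transfer_eq_prod_quotient_orbitRel_zpowers_quot]
  set per : Quotient (MulAction.orbitRel (Subgroup.zpowers d) (K ⧸ S)) → ℕ :=
    fun q => Function.minimalPeriod (d • ·) q.out with hper
  rw [Fintype.prod_congr _ (fun q => (-1 : ℤˣ) ^ per q) fun q => ?_]
  · rw [Finset.prod_pow_eq_pow_sum]
    have hsum : ∑ q, per q = S.index := by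
      haveI : ∀ q, NeZero (per q) := fun q => ⟨by
        have : Function.IsPeriodicPt (d • ·) 2 q.out := by
          show d • d • q.out = q.out
          rw [smul_smul, hd, one_smul]
        exact (this.minimalPeriod_pos (by norm_num)).ne'⟩
      rw [Subgroup.index, Nat.card_congr (Subgroup.quotientEquivSigmaZMod S d), Nat.card_sigma]
      exact Finset.sum_congr rfl fun q _ => (Nat.card_zmod _).symm
    rw [hsum]
    exact Odd.neg_one_pow (Nat.odd_iff.2 (by omega))
  · have hp : Function.IsPeriodicPt (d • ·) 2 q.out := by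
      show d • d • q.out = q.out
      rw [smul_smul, hd, one_smul]
    have hmem := QuotientGroup.out_conj_pow_minimalPeriod_mem S d q.out
    rcases (Nat.dvd_prime Nat.prime_two).1 hp.minimalPeriod_dvd with e | e
    · have e' : q.out.out⁻¹ * d ^ Function.minimalPeriod (d • ·) q.out * q.out.out =
          q.out.out⁻¹ * d * q.out.out := by rw [e, pow_one]
      have hpq : per q = 1 := e
      rw [hpq, pow_one]
      rw [show (⟨_, hmem⟩ : ↥S) = ⟨_, e' ▸ hmem⟩ from Subtype.ext e']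
      exact h _ _
    · have hpq : per q = 2 := e
      have e' : q.out.out⁻¹ * d ^ Function.minimalPeriod (d • ·) q.out * q.out.out = 1 := by
        rw [e, pow_two, hd]; simp
      rw [hpq, neg_one_sq, show (⟨_, hmem⟩ : ↥S) = 1 from Subtype.ext e', map_one]

/-- A character of `A` and one of the stabilizer of `c`, agreeing on the stabilizer in `A`, give a character of `S`
when `A` is as transitive as `S` on the conjugates of `c`. -/
theorem exists_char {G : Type*} [Group G] (S A : Subgroup G) (hAS : A ≤ S) (c : G) (χ σ : G → ℤˣ)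
    (hmul : ∀ a ∈ A, ∀ b ∈ A, χ (a * b) = χ a * χ b)
    (hconj : ∀ s ∈ S, ∀ a ∈ A, s * a * s⁻¹ ∈ A ∧ χ (s * a * s⁻¹) = χ a)
    (hσ : ∀ k ∈ S, ∀ k' ∈ S, Commute k c → Commute k' c → σ (k * k') = σ k * σ k')
    (hag : ∀ a ∈ A, Commute a c → σ a = χ a)
    (htr : ∀ s ∈ S, ∃ a ∈ A, s * c * s⁻¹ = a * c * a⁻¹) :
    ∃ ψ : ↥S →* ℤˣ, ∀ (a : G) (ha : a ∈ A), ψ ⟨a, hAS ha⟩ = χ a := by
  classical
  choose! f hfA hf using htr
  have hcomm : ∀ {s a : G}, s * c * s⁻¹ = a * c * a⁻¹ → Commute (a⁻¹ * s) c := by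
    intro s a e
    refine mul_inv_eq_iff_eq_mul.1 ?_
    rw [show a⁻¹ * s * c * (a⁻¹ * s)⁻¹ = a⁻¹ * (s * c * s⁻¹) * a by group, e]
    group
  have hsq : ∀ a ∈ A, χ a⁻¹ = χ a := by
    intro a ha
    have h1 : χ 1 = 1 := by
      have := hmul 1 A.one_mem 1 A.one_mem
      rw [mul_one] at this
      exact (left_eq_mul.1 this)
    have := hmul a ha a⁻¹ (A.inv_mem ha)
    rw [mul_inv_cancel, h1] at this
    rw [eq_inv_of_mul_eq_one_right this.symm, Int.units_inv_eq_self]
  have well : ∀ s ∈ S, ∀ a ∈ A, Commute (a⁻¹ * s) c → χ (f s) * σ ((f s)⁻¹ * s) = χ a * σ (a⁻¹ * s) := by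
    intro s hs a ha hc
    set t := (f s)⁻¹ * a with ht
    have htA : t ∈ A := A.mul_mem (A.inv_mem (hfA s hs)) ha
    have hk := hcomm (hf s hs)
    have htc : Commute t c := by
      have : t = (f s)⁻¹ * s * (a⁻¹ * s)⁻¹ := by rw [ht]; group
      rw [this]
      exact hk.mul_left hc.inv_left
    rw [show (f s)⁻¹ * s = t * (a⁻¹ * s) by rw [ht]; group,
      hσ t (hAS htA) (a⁻¹ * s) (S.mul_mem (S.inv_mem (hAS ha)) hs) htc hc, hag t htA htc, ← mul_assoc,
      ← hmul _ (hfA s hs) t htA, ht, mul_inv_cancel_left]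
  refine ⟨MonoidHom.mk' (fun s : ↥S => χ (f s) * σ ((f s)⁻¹ * s)) ?_, ?_⟩
  · rintro ⟨s, hs⟩ ⟨s', hs'⟩
    show χ (f (s * s')) * σ ((f (s * s'))⁻¹ * (s * s')) = _
    set a := f s
    set a' := f s'
    set k := a⁻¹ * s with hk
    set k' := a'⁻¹ * s' with hk'
    have ha := hfA s hs
    have ha' := hfA s' hs'
    have hkS : k ∈ S := S.mul_mem (S.inv_mem (hAS ha)) hs
    have hk'S : k' ∈ S := S.mul_mem (S.inv_mem (hAS ha')) hs'
    have hkc : Commute k c := hcomm (hf s hs)
    have hk'c : Commute k' c := hcomm (hf s' hs')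
    obtain ⟨hkA, hkχ⟩ := hconj k hkS a' ha'
    have e : (a * (k * a' * k⁻¹))⁻¹ * (s * s') = k * k' := by
      rw [show s = a * k by rw [hk]; group, show s' = a' * k' by rw [hk']; group]
      group
    rw [well (s * s') (S.mul_mem hs hs') (a * (k * a' * k⁻¹)) (A.mul_mem ha hkA)
      (by rw [e]; exact hkc.mul_left hk'c), e, hσ k hkS k' hk'S hkc hk'c, hmul a ha _ hkA, hkχ]
    show _ = (χ a * σ k) * (χ a' * σ k')
    rw [mul_mul_mul_comm]
  · intro a ha
    show χ (f a) * σ ((f a)⁻¹ * a) = χ a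
    have h1 : σ 1 = 1 := by
      have := hσ 1 S.one_mem 1 S.one_mem (Commute.one_left c) (Commute.one_left c)
      rw [mul_one] at this
      exact (left_eq_mul.1 this)
    rw [well a (hAS ha) a ha (by rw [inv_mul_cancel]; exact Commute.one_left c), inv_mul_cancel, h1, mul_one]

/-- A 2-group acting on finitely many things, an odd number of them, fixes one. -/
theorem exists_fixed {G : Type*} [Group G] (S : Subgroup G) (hS : IsPGroup 2 ↥S) {α : Type*} [Finite α]
    (Ω : Set α) (act : ↥S → α → α) (h1 : ∀ x ∈ Ω, act 1 x = x)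
    (hmul : ∀ s t : ↥S, ∀ x ∈ Ω, act (s * t) x = act s (act t x)) (hmem : ∀ s : ↥S, ∀ x ∈ Ω, act s x ∈ Ω)
    (hodd : ¬ 2 ∣ Ω.ncard) : ∃ x ∈ Ω, ∀ s : ↥S, act s x = x := by
  letI : MulAction ↥S ↥Ω :=
    { smul := fun s x => ⟨act s x, hmem s x x.2⟩
      one_smul := fun x => Subtype.ext (h1 x x.2)
      mul_smul := fun s t x => Subtype.ext (hmul s t x x.2) }
  haveI : Fact (Nat.Prime 2) := ⟨Nat.prime_two⟩
  obtain ⟨x, hx⟩ := hS.nonempty_fixed_point_of_prime_not_dvd_card ↥Ω (by rwa [Nat.card_coe_set_eq])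
  exact ⟨x, x.2, fun s => congrArg Subtype.val (hx s)⟩

end Cfsg.Agent.Lib.Involution.FischerSignTools
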