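import Mathlib.GroupTheory.OrderOfElement
import Mathlib.GroupTheory.Index
import Mathlib.Tactic.Group
import Mathlib.Data.Fin.VecNotation
import Mathlib.Tactic.FinCases
import Mathlib.Data.Fintype.Prod
import Mathlib.Data.Set.Card

/-!
A group generated by `a`, `y` with `a² = y⁵ = (a y)³ = 1` has at most sixty elements.
-/

set_option autoImplicit false

open Subgroup

namespace Cfsg.Agent.Lib.Involution

variable {G : Type*} [Group G]

theorem icosa_closure_card [Finite G] {a y : G} (ha : a * a = 1) (hy : y ^ 5 = 1)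
    (hay : a * y * (a * y) * (a * y) = 1) : Nat.card (closure ({a, y} : Set G)) ≤ 60 := by
  classical
  have hy5 : y * (y * (y * (y * y))) = 1 := by simpa [pow_succ, mul_assoc] using hy
  have hai : a⁻¹ = a := inv_eq_of_mul_eq_one_right ha
  have e1 : a * y * a = y⁻¹ * a * y⁻¹ := by
    calc a * y * a = a * y * (a * y) * (a * y) * (y⁻¹ * a⁻¹ * y⁻¹) := by group
      _ = y⁻¹ * a * y⁻¹ := by rw [hay, one_mul, hai]
  have e4 : a * y⁻¹ * a = y * a * y := by
    calc a * y⁻¹ * a = (a * y * a)⁻¹ := by simp only [mul_inv_rev, hai, mul_assoc]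
      _ = y * a * y := by rw [e1]; simp only [mul_inv_rev, inv_inv, hai, mul_assoc]
  have e3 : a * (y⁻¹ * y⁻¹) * a = y * (a * (y * y) * a) * y := by
    calc a * (y⁻¹ * y⁻¹) * a = a * y⁻¹ * a * (a⁻¹ * y⁻¹ * a) := by group
      _ = (y * a * y) * (y * a * y) := by rw [hai, e4]
      _ = y * (a * (y * y) * a) * y := by group
  set B := a * (y * y) * a with hB
  set L := a * (y⁻¹ * y⁻¹) * B with hL
  have hYY : y * (y * y) = y⁻¹ * y⁻¹ := by
    rw [← mul_inv_rev]; refine eq_inv_of_mul_eq_one_left ?_; simpa [mul_assoc] using hy5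
  have eL : L = y * L * y := by
    calc L = (a * (y⁻¹ * y⁻¹) * a) * (y * y * a) := by rw [hL, hB]; group
      _ = (y * B * y) * (y * y * a) := by rw [e3]
      _ = y * a * (y * y) * (a * (y * (y * y)) * a) := by rw [hB]; group
      _ = y * a * (y * y) * (y * B * y) := by rw [hYY, e3]
      _ = y * (a * (y * (y * y)) * B) * y := by group
      _ = y * L * y := by rw [hYY]
  have eL' : y * L = L * y⁻¹ := by
    calc y * L = y * L * y * y⁻¹ := by group
      _ = L * y⁻¹ := by rw [← eL]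
  let Q : Fin 12 → G := ![1, a, y * a, y ^ 2 * a, y ^ 3 * a, y ^ 4 * a,
    B, y * B, y ^ 2 * B, y ^ 3 * B, y ^ 4 * B, L]
  let S : Finset G := Finset.univ.image (fun p : Fin 12 × Fin 5 => Q p.1 * y ^ (p.2 : ℕ))
  have hS : ∀ x, x ∈ S ↔ ∃ k : Fin 12, ∃ j : ℤ, x = Q k * y ^ j := by
    intro x
    simp only [S, Finset.mem_image, Finset.mem_univ, true_and, Prod.exists]
    constructor
    · rintro ⟨k, j, rfl⟩; exact ⟨k, (j : ℕ), by rw [zpow_natCast]⟩
    · rintro ⟨k, j, rfl⟩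
      refine ⟨k, ⟨(j % 5).toNat, by omega⟩, ?_⟩
      congr 1
      have h5 : y ^ (5 : ℤ) = 1 := by exact_mod_cast hy
      conv_rhs => rw [show j = j % 5 + 5 * (j / 5) from (Int.emod_add_mul_ediv j 5).symm]
      rw [zpow_add, zpow_mul, h5, one_zpow, mul_one, ← zpow_natCast, Int.toNat_of_nonneg (Int.emod_nonneg _ (by norm_num))]
  have hy4 : y⁻¹ = y ^ 4 := inv_eq_of_mul_eq_one_right (by rw [← pow_succ']; exact hy)
  have hy3 : y⁻¹ * y⁻¹ = y ^ 3 := by
    rw [← mul_inv_rev]; refine inv_eq_of_mul_eq_one_right ?_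
    rw [← pow_two, ← pow_add]; exact hy
  have stepY : ∀ k : Fin 12, ∃ k' : Fin 12, ∃ j : ℤ, y * Q k = Q k' * y ^ j := by
    intro k
    fin_cases k
    · exact ⟨0, 1, by simp [Q]⟩
    · exact ⟨2, 0, by simp [Q]⟩
    · exact ⟨3, 0, by simp [Q, pow_succ, mul_assoc]⟩
    · exact ⟨4, 0, by simp [Q, pow_succ, mul_assoc]⟩
    · exact ⟨5, 0, by simp [Q, pow_succ, mul_assoc]⟩
    · refine ⟨1, 0, ?_⟩
      show y * (y ^ 4 * a) = a * y ^ (0 : ℤ)
      rw [← mul_assoc, ← pow_succ', hy, one_mul, zpow_zero, mul_one]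
    · exact ⟨7, 0, by simp [Q]⟩
    · exact ⟨8, 0, by simp [Q, pow_succ, mul_assoc]⟩
    · exact ⟨9, 0, by simp [Q, pow_succ, mul_assoc]⟩
    · exact ⟨10, 0, by simp [Q, pow_succ, mul_assoc]⟩
    · refine ⟨6, 0, ?_⟩
      show y * (y ^ 4 * B) = B * y ^ (0 : ℤ)
      rw [← mul_assoc, ← pow_succ', hy, one_mul, zpow_zero, mul_one]
    · exact ⟨11, -1, by show y * L = L * y ^ (-1 : ℤ); rw [eL', zpow_neg_one]⟩
  have hB3 : a * (y ^ 3 * a) = y * B * y := by rw [← mul_assoc, ← hy3, e3]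
  have h10 : a * (y ^ 4 * B) = y ^ 2 * B * y := by
    rw [← hy4]
    calc a * (y⁻¹ * B) = a * y⁻¹ * a * (y * (y * a)) := by rw [hB]; group
      _ = y * a * y * (y * (y * a)) := by rw [e4]
      _ = y * (a * (y * (y * y)) * a) := by group
      _ = y * (y * B * y) := by rw [hYY, e3]
      _ = y ^ 2 * B * y := by rw [pow_two]; group
  have stepA : ∀ k : Fin 12, ∃ k' : Fin 12, ∃ j : ℤ, a * Q k = Q k' * y ^ j := by
    intro k
    fin_cases k
    · exact ⟨1, 0, by simp [Q]⟩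
    · exact ⟨0, 0, by simp [Q, ha]⟩
    · refine ⟨5, -1, ?_⟩
      show a * (y * a) = y ^ 4 * a * y ^ (-1 : ℤ)
      rw [← mul_assoc, e1, zpow_neg_one, ← hy4]
    · refine ⟨6, 0, ?_⟩
      show a * (y ^ 2 * a) = B * y ^ (0 : ℤ)
      rw [zpow_zero, mul_one, hB, pow_two]; group
    · exact ⟨7, 1, by show a * (y ^ 3 * a) = y * B * y ^ (1 : ℤ); rw [hB3, zpow_one]⟩
    · refine ⟨2, 1, ?_⟩
      show a * (y ^ 4 * a) = y * a * y ^ (1 : ℤ)
      rw [← hy4, zpow_one, ← mul_assoc, e4]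
    · refine ⟨3, 0, ?_⟩
      show a * B = y ^ 2 * a * y ^ (0 : ℤ)
      rw [zpow_zero, mul_one, hB, ← mul_assoc, ← mul_assoc, ha, one_mul, pow_two]
    · refine ⟨4, -1, ?_⟩
      show a * (y * B) = y ^ 3 * a * y ^ (-1 : ℤ)
      rw [zpow_neg_one]
      calc a * (y * B) = a * y * a * (y * (y * a)) := by rw [hB]; group
        _ = y⁻¹ * a * y⁻¹ * (y * (y * a)) := by rw [e1]
        _ = y⁻¹ * (a * y * a) := by group
        _ = y⁻¹ * y⁻¹ * a * y⁻¹ := by rw [e1]; group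
        _ = y ^ 3 * a * y⁻¹ := by rw [hy3]
    · refine ⟨10, -1, ?_⟩
      show a * (y ^ 2 * B) = y ^ 4 * B * y ^ (-1 : ℤ)
      rw [zpow_neg_one, eq_mul_inv_iff_mul_eq, ← mul_left_cancel_iff (a := a), ← mul_assoc a, ← mul_assoc a, ha,
        one_mul, h10]
    · refine ⟨11, 0, ?_⟩
      show a * (y ^ 3 * B) = L * y ^ (0 : ℤ)
      rw [zpow_zero, mul_one, hL, hy3, mul_assoc]
    · refine ⟨8, 1, ?_⟩
      show a * (y ^ 4 * B) = y ^ 2 * B * y ^ (1 : ℤ)
      rw [zpow_one, h10]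
    · refine ⟨9, 0, ?_⟩
      show a * L = y ^ 3 * B * y ^ (0 : ℤ)
      rw [zpow_zero, mul_one, hL, ← mul_assoc a (a * (y⁻¹ * y⁻¹)), ← mul_assoc a a, ha, one_mul, hy3]
  let M : Subgroup G :=
    { carrier := {g | ∀ x ∈ S, g * x ∈ S}
      one_mem' := fun x hx => by rwa [one_mul]
      mul_mem' := fun {g h} hg hh x hx => by rw [mul_assoc]; exact hg _ (hh x hx)
      inv_mem' := fun {g} hg x hx => by
        have hp : ∀ n : ℕ, ∀ x ∈ S, g ^ n * x ∈ S := by
          intro n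
          induction n with
          | zero => intro x hx; rwa [pow_zero, one_mul]
          | succ n ih => intro x hx; rw [pow_succ, mul_assoc]; exact ih _ (hg x hx)
        rw [show g⁻¹ = g ^ (orderOf g - 1) from inv_eq_of_mul_eq_one_right (by
          rw [← pow_succ', Nat.sub_add_cancel (orderOf_pos g), pow_orderOf_eq_one])]
        exact hp _ x hx }
  have hM : ∀ g, (∀ k : Fin 12, ∃ k' : Fin 12, ∃ j : ℤ, g * Q k = Q k' * y ^ j) → g ∈ M := by
    intro g hg x hx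
    obtain ⟨k, j, rfl⟩ := (hS x).mp hx
    obtain ⟨k', j', e⟩ := hg k
    exact (hS _).mpr ⟨k', j' + j, by rw [← mul_assoc, e, mul_assoc, ← zpow_add]⟩
  have hle : closure ({a, y} : Set G) ≤ M := by
    rw [closure_le]
    rintro g (rfl | rfl)
    exacts [hM _ stepA, hM _ stepY]
  have hsub : ((closure ({a, y} : Set G) : Subgroup G) : Set G) ⊆ (S : Set G) := fun g hg => by
    have h := hle hg 1 ((hS 1).mpr ⟨0, 0, by simp [Q]⟩)
    rwa [mul_one] at h
  have h := Set.ncard_le_ncard hsub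
  rw [Set.ncard_coe_finset, ← Nat.card_coe_set_eq] at h
  exact h.trans (Finset.card_image_le.trans (by simp))

end Cfsg.Agent.Lib.Involution
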