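import Mathlib.Data.Real.Basic
import Mathlib.Tactic

/-!
# The diophantine part of the degree arithmetic
-/

set_option autoImplicit false

namespace Cfsg.Agent.Lib.Involution.Nine

theorem edge_eq {b G x1 x2 c1 c2 c' K1 K2 K : ℝ} (h1 : b * (c1 * x1 ^ 2) = G * K1)
    (h2 : b * (c2 * x2 ^ 2) = G * K2) (h : b * (c' * (x1 * x2)) = G * K) (hG : G ≠ 0) :
    c' ^ 2 * (K1 * K2) = c1 * c2 * K ^ 2 := by
  refine mul_left_cancel₀ (pow_ne_zero 2 hG) ?_
  calc G ^ 2 * (c' ^ 2 * (K1 * K2)) = c' ^ 2 * ((G * K1) * (G * K2)) := by ring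
    _ = c' ^ 2 * ((b * (c1 * x1 ^ 2)) * (b * (c2 * x2 ^ 2))) := by rw [h1, h2]
    _ = c1 * c2 * (b * (c' * (x1 * x2))) ^ 2 := by ring
    _ = c1 * c2 * (G * K) ^ 2 := by rw [h]
    _ = G ^ 2 * (c1 * c2 * K ^ 2) := by ring

/-- The final computation. -/
theorem degree_eq_one {G : ℝ} (hG : 0 < G) {b n p : ℤ} (hb : (9 : ℤ) ∣ b - 2) (hn : (9 : ℤ) ∣ n - 1)
    (hp : (9 : ℤ) ∣ p - 1) {R1 P1 Rn Pn Rp Pp : ℝ}
    (A1 : (b : ℝ) * (R1 ^ 2 + 8 * P1 ^ 2) = G * (8 * (1 + b)))
    (B1 : (b : ℝ) * (R1 ^ 2 - 6 * R1 * P1 + 11 * P1 ^ 2) = G * (1 + b))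
    (Bn : (b : ℝ) * (Rn ^ 2 - 6 * Rn * Pn + 11 * Pn ^ 2) = G * (n * (n + b)))
    (Cn : (b : ℝ) * (Rn ^ 2 + 2 * Pn ^ 2) = G * (2 * (n * (n + b))))
    (Cp : (b : ℝ) * (Rp ^ 2 + 2 * Pp ^ 2) = G * (2 * (p * (p + b))))
    (Ep : (b : ℝ) * (Rp ^ 2 + 6 * Rp * Pp + 11 * Pp ^ 2) = G * (p * (p + b)))
    (X1 : (b : ℝ) * (R1 * Rn - 3 * (R1 * Pn + Rn * P1) + 11 * (P1 * Pn)) = G * n)
    (X2 : (b : ℝ) * (Rn * Rp + 2 * (Pn * Pp)) = G * (2 * (n * p))) : p = 1 := by
  obtain ⟨i, hi⟩ := hb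
  obtain ⟨j, hj⟩ := hn
  obtain ⟨k, hk⟩ := hp
  have eb : b = 9 * i + 2 := by omega
  have en : n = 9 * j + 1 := by omega
  have ep : p = 9 * k + 1 := by omega
  have hb0 : (b : ℝ) ≠ 0 := by exact_mod_cast (show b ≠ 0 by omega)
  have hn0 : (n : ℝ) ≠ 0 := by exact_mod_cast (show n ≠ 0 by omega)
  have hp0 : (p : ℝ) ≠ 0 := by exact_mod_cast (show p ≠ 0 by omega)
  have u1 : ∃ w : ℤ, (1 + b) * (n + b) = 9 * (3 * w + 1) :=
    ⟨i + (i + j) + 3 * i * (i + j), by rw [eb, en]; ring⟩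
  have u2 : ∃ w : ℤ, (n + b) * (p + b) = 9 * (3 * w + 1) :=
    ⟨(i + j) + (i + k) + 3 * (i + j) * (i + k), by rw [eb, en, ep]; ring⟩
  have u3 : ∃ w : ℤ, n * p = 9 * w + 1 := ⟨j + k + 9 * j * k, by rw [en, ep]; ring⟩
  obtain ⟨w1, hw1⟩ := u1
  obtain ⟨w2, hw2⟩ := u2
  obtain ⟨w3, hw3⟩ := u3
  have f1 : (R1 - 4 * P1) * (7 * R1 - 20 * P1) = 0 :=
    mul_left_cancel₀ hb0 (by linear_combination 8 * B1 - A1)
  have fn : (Rn - 2 * Pn) * (Rn - 10 * Pn) = 0 :=
    mul_left_cancel₀ hb0 (by linear_combination 2 * Bn - Cn)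
  have fp : (Rp + 2 * Pp) * (Rp + 10 * Pp) = 0 :=
    mul_left_cancel₀ hb0 (by linear_combination 2 * Ep - Cp)
  have hG0 := hG.ne'
  rcases mul_eq_zero.mp f1 with h1 | h1 <;> rcases mul_eq_zero.mp fn with h2 | h2
  · have r1 : R1 = 4 * P1 := by linarith
    have rn : Rn = 2 * Pn := by linarith
    subst r1 rn
    have L1 := edge_eq (b := (b : ℝ)) (G := G) (x1 := P1) (x2 := Pn) (c1 := 3) (c2 := 3) (c' := 1) (K1 := 1 + (b : ℝ))
      (K2 := (n : ℝ) * (n + b)) (K := n) (by linear_combination B1) (by linear_combination Bn)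
      (by linear_combination X1) hG0
    have L1' : (1 + b) * (n + b) = 9 * n := by
      have : (1 + (b : ℝ)) * (n + b) = 9 * n := mul_left_cancel₀ hn0 (by linear_combination L1)
      exact_mod_cast this
    have hnb : n + b ≠ 0 := by omega
    rcases mul_eq_zero.mp fp with h3 | h3
    · have rp : Rp = -2 * Pp := by linarith
      subst rp
      have L2 := edge_eq (b := (b : ℝ)) (G := G) (x1 := Pn) (x2 := Pp) (c1 := 6) (c2 := 6) (c' := -2) (K1 := 2 * ((n : ℝ) * (n + b)))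
        (K2 := 2 * ((p : ℝ) * (p + b))) (K := 2 * ((n : ℝ) * p)) (by linear_combination Cn)
        (by linear_combination Cp) (by linear_combination X2) hG0
      have L2' : (n + b) * (p + b) = 9 * (n * p) := by
        have : ((n : ℝ) + b) * (p + b) = 9 * (n * p) :=
          mul_left_cancel₀ (mul_ne_zero hn0 hp0) (by linear_combination L2 / 16)
        exact_mod_cast this
      have : (n + b) * (b * (1 - p)) = 0 := by linear_combination L2' - p * L1'
      have := (mul_eq_zero.mp ((mul_eq_zero.mp this).resolve_left hnb)).resolve_left (by omega)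
      omega
    · have rp : Rp = -10 * Pp := by linarith
      subst rp
      have L2 := edge_eq (b := (b : ℝ)) (G := G) (x1 := Pn) (x2 := Pp) (c1 := 6) (c2 := 102) (c' := -18) (K1 := 2 * ((n : ℝ) * (n + b)))
        (K2 := 2 * ((p : ℝ) * (p + b))) (K := 2 * ((n : ℝ) * p)) (by linear_combination Cn)
        (by linear_combination Cp) (by linear_combination X2) hG0
      have L2' : 81 * ((n + b) * (p + b)) = 153 * (n * p) := by
        have : 81 * (((n : ℝ) + b) * (p + b)) = 153 * (n * p) :=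
          mul_left_cancel₀ (mul_ne_zero hn0 hp0) (by linear_combination L2 / 16)
        exact_mod_cast this
      omega
  · have r1 : R1 = 4 * P1 := by linarith
    have rn : Rn = 10 * Pn := by linarith
    subst r1 rn
    have L1 := edge_eq (b := (b : ℝ)) (G := G) (x1 := P1) (x2 := Pn) (c1 := 3) (c2 := 51) (c' := 9) (K1 := 1 + (b : ℝ))
      (K2 := (n : ℝ) * (n + b)) (K := n) (by linear_combination B1) (by linear_combination Bn)
      (by linear_combination X1) hG0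
    have L1' : 81 * ((1 + b) * (n + b)) = 153 * n := by
      have : 81 * ((1 + (b : ℝ)) * (n + b)) = 153 * n := mul_left_cancel₀ hn0 (by linear_combination L1)
      exact_mod_cast this
    omega
  · have r1 : R1 = 20 / 7 * P1 := by linarith
    have rn : Rn = 2 * Pn := by linarith
    subst r1 rn
    have L1 := edge_eq (b := (b : ℝ)) (G := G) (x1 := P1) (x2 := Pn) (c1 := 99 / 49) (c2 := 3) (c' := 15 / 7) (K1 := 1 + (b : ℝ))
      (K2 := (n : ℝ) * (n + b)) (K := n) (by linear_combination B1) (by linear_combination Bn)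
      (by linear_combination X1) hG0
    have L1' : 225 * ((1 + b) * (n + b)) = 297 * n := by
      have : 225 * ((1 + (b : ℝ)) * (n + b)) = 297 * n :=
        mul_left_cancel₀ hn0 (by linear_combination 49 * L1)
      exact_mod_cast this
    omega
  · have r1 : R1 = 20 / 7 * P1 := by linarith
    have rn : Rn = 10 * Pn := by linarith
    subst r1 rn
    have L1 := edge_eq (b := (b : ℝ)) (G := G) (x1 := P1) (x2 := Pn) (c1 := 99 / 49) (c2 := 51) (c' := 1) (K1 := 1 + (b : ℝ))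
      (K2 := (n : ℝ) * (n + b)) (K := n) (by linear_combination B1) (by linear_combination Bn)
      (by linear_combination X1) hG0
    have L1' : 49 * ((1 + b) * (n + b)) = 5049 * n := by
      have : 49 * ((1 + (b : ℝ)) * (n + b)) = 5049 * n :=
        mul_left_cancel₀ hn0 (by linear_combination 49 * L1)
      exact_mod_cast this
    omega

end Cfsg.Agent.Lib.Involution.Nine
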