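import Cfsg.Agent.Lib.Involution.NineVectors
import Cfsg.Agent.Lib.Involution.NineSolve

/-!
# Four vectors force a degree one
-/

set_option autoImplicit false
set_option maxHeartbeats 1000000

namespace Cfsg.Agent.Lib.Involution.Nine

universe u

variable {ι : Type u} [Fintype ι] {d : ι → ℕ} {υ π : ι → ℝ} (hd : ∀ i, 0 < d i)
include hd

/-- Four vectors force a degree one. -/
theorem exists_degree_one (o : ι) (ho : d o = 1) (a b c e : ι → ℤ) {G : ℝ} (hG : 0 < G)
    (va : Vec d υ π a (8 * G) 0 G) (vb : Vec d υ π b (11 / 2 * G) (3 / 2 * G) (G / 2))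
    (vc : Vec d υ π c (2 * G) 0 G) (ve : Vec d υ π e (11 / 2 * G) (-(3 / 2) * G) (G / 2))
    (haa : ∑ i, a i * a i = 4) (hbb : ∑ i, b i * b i = 4) (hcc : ∑ i, c i * c i = 4)
    (hee : ∑ i, e i * e i = 4) (hab : ∑ i, a i * b i = 2) (hac : ∑ i, a i * c i = 1)
    (hae : ∑ i, a i * e i = 2) (hbc : ∑ i, b i * c i = 2) (hce : ∑ i, c i * e i = 2)
    (hao : a o = 1) (hbo : b o = 1) (hco : c o = 0)
    (hcong : ∀ i, (9 : ℤ) ∣ (d i : ℤ) + 4 * (a i + b i + c i + e i)) :
    ∃ i, i ≠ o ∧ d i = 1 := by
  classical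
  have dA : (0 : ℝ) * 0 < 8 * G * G := by nlinarith [mul_pos hG hG]
  have dB : 3 / 2 * G * (3 / 2 * G) < 11 / 2 * G * (G / 2) := by nlinarith [mul_pos hG hG]
  have dC : (0 : ℝ) * 0 < 2 * G * G := by nlinarith [mul_pos hG hG]
  have dE : -(3 / 2) * G * (-(3 / 2) * G) < 11 / 2 * G * (G / 2) := by nlinarith [mul_pos hG hG]
  have sa := small_entries hd va (by linarith) dA (by omega)
  have sb := small_entries hd vb (by linarith) dB (by omega)
  have sc := small_entries hd vc (by linarith) dC (by omega)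
  have se := small_entries hd ve (by linarith) dE (by omega)
  have n1 : ∑ i, (a + -b + c) i * (a + -b + c) i = 6 := by
    have : ∀ i, (a + -b + c) i * (a + -b + c) i =
        a i * a i + b i * b i + c i * c i - 2 * (a i * b i) + 2 * (a i * c i) - 2 * (b i * c i) := fun i => by
      simp only [Pi.add_apply, Pi.neg_apply]; ring
    simp only [this, Finset.sum_add_distrib, Finset.sum_sub_distrib, ← Finset.mul_sum,
      haa, hbb, hcc, hab, hac, hbc]
    norm_num
  have n2 : ∑ i, (a + c + -e) i * (a + c + -e) i = 6 := by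
    have : ∀ i, (a + c + -e) i * (a + c + -e) i =
        a i * a i + c i * c i + e i * e i + 2 * (a i * c i) - 2 * (a i * e i) - 2 * (c i * e i) := fun i => by
      simp only [Pi.add_apply, Pi.neg_apply]; ring
    simp only [this, Finset.sum_add_distrib, Finset.sum_sub_distrib, ← Finset.mul_sum,
      haa, hcc, hee, hac, hae, hce]
    norm_num
  have s1 : ∀ i, a i - b i + c i = -1 ∨ a i - b i + c i = 0 ∨ a i - b i + c i = 1 := fun i => by
    have := small_entries hd ((va.add vb.neg).add vc) (by linarith) (by nlinarith [mul_pos hG hG]) n1.le i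
    simpa [sub_eq_add_neg] using this
  have s2 : ∀ i, a i + c i - e i = -1 ∨ a i + c i - e i = 0 ∨ a i + c i - e i = 1 := fun i => by
    have := small_entries hd ((va.add vc).add ve.neg) (by linarith) (by nlinarith [mul_pos hG hG]) n2.le i
    simpa [sub_eq_add_neg] using this
  have pos : ∀ x y : ℤ, (x = -1 ∨ x = 0 ∨ x = 1) → (y = -1 ∨ y = 0 ∨ y = 1) → 0 < x * y → x = y ∧ x ≠ 0 := by
    rintro x y (rfl | rfl | rfl) (rfl | rfl | rfl) h <;> first | (exfalso; omega) | exact ⟨rfl, by decide⟩
  have usq : ∀ x : ℤ, (x = -1 ∨ x = 0 ∨ x = 1) → x ≠ 0 → x * x = 1 := by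
    rintro x (rfl | rfl | rfl) h <;> first | rfl | exact absurd rfl h
  have uneg : ∀ x y : ℤ, (x = -1 ∨ x = 0 ∨ x = 1) → (y = -1 ∨ y = 0 ∨ y = 1) → x ≠ 0 → y ≠ 0 → x ≠ y →
      x * y < 0 := by
    rintro x y (rfl | rfl | rfl) (rfl | rfl | rfl) h h' h'' <;>
      first | decide | exact absurd rfl h | exact absurd rfl h' | exact absurd rfl h''
  -- the common constituent
  obtain ⟨W, hW0⟩ : ∃ i, 0 < a i * c i := by
    by_contra hc'
    push Not at hc'
    have := Finset.sum_nonpos (s := (Finset.univ : Finset ι)) (fun i _ => hc' i)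
    omega
  have key : ∀ i, 0 < a i * c i → b i = a i ∧ c i = a i ∧ e i = a i ∧ a i ≠ 0 := fun i hi => by
    obtain ⟨h1, h2⟩ := pos _ _ (sa i) (sc i) hi
    have := s1 i; have := s2 i; have := sb i; have := se i; have := sa i
    omega
  obtain ⟨hbW, hcW, heW, haW⟩ := key W hW0
  have hWo : W ≠ o := fun h => by rw [h, hco, hao] at hcW; omega
  have hW1 : a W * a W = 1 := usq _ (sa W) haW
  -- the constituent shared by `b` and `c`
  obtain ⟨n, hnW, hn0⟩ := exists_other hbc W (by rw [hbW, hcW]; omega)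
  obtain ⟨hbn, hbn0⟩ := pos _ _ (sb n) (sc n) hn0
  have hno : n ≠ o := fun h => by rw [h, hco, hbo] at hbn; omega
  have huniq : ∀ i, b i * c i ≠ 0 → i = W ∨ i = n := by
    intro i hi
    by_contra hne
    push Not at hne
    have hio : i ≠ o := fun h => hi (by rw [h, hco, mul_zero])
    have h0 := sum_four hbb hnW.symm hne.1.symm hWo hne.2.symm hno hio (by omega) hbn0
      (left_ne_zero_of_mul hi) (by omega)
    have h5 : ∑ j ∈ ({W, n, i, o} : Finset ι), b j * c j = 2 := by
      rw [← hbc]
      refine Finset.sum_subset (Finset.subset_univ _) fun j _ hj => ?_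
      simp only [Finset.mem_insert, Finset.mem_singleton, not_or] at hj
      rw [h0 j hj.1 hj.2.1 hj.2.2.1 hj.2.2.2, zero_mul]
    rw [Finset.sum_insert (by simp [hnW.symm, hne.1.symm, hWo]),
      Finset.sum_insert (by simp [hne.2.symm, hno]), Finset.sum_pair hio, hbW, hcW, hco, hW1,
      mul_zero, add_zero] at h5
    have : b n * c n = 1 := by
      rw [← hbn]; exact usq _ (sb n) hbn0
    omega
  have uac : ∀ i, 0 < a i * c i → i = W ∨ i = n := fun i hi => by
    obtain ⟨h1, h2, -, h4⟩ := key i hi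
    exact huniq i (by rw [h1, h2]; exact mul_ne_zero h4 h4)
  have noneg : ∀ x, x ≠ W → (a n * c n ≤ 0 ∨ x = n) → a x * c x < 0 → False := by
    intro x hxW hxn hx
    have := Finset.add_sum_erase Finset.univ (fun i => a i * c i) (Finset.mem_univ W)
    have hrest : ∑ i ∈ Finset.univ.erase W, a i * c i < 0 := by
      refine Finset.sum_neg' (fun i hi => ?_) ⟨x, Finset.mem_erase.mpr ⟨hxW, Finset.mem_univ _⟩, hx⟩
      by_contra hp
      push Not at hp
      rcases uac i hp with h | h
      · exact Finset.ne_of_mem_erase hi h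
      · subst h
        rcases hxn with h' | h'
        · omega
        · subst h'; omega
    rw [hcW, hW1, hac] at this
    omega
  -- shift
  set ρ := υ W / d W with hρ
  set σ := π W / d W with hσ
  have hdW : (d W : ℝ) ≠ 0 := Nat.cast_ne_zero.mpr (hd W).ne'
  set υ' : ι → ℝ := fun i => υ i - ρ * d i with hυ'
  set π' : ι → ℝ := fun i => π i - σ * d i with hπ'
  have zU : υ' W = 0 := by simp only [hυ', hρ]; field_simp; ring
  have zP : π' W = 0 := by simp only [hπ', hσ]; field_simp; ring
  have wa := va.shift hd ρ σ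
  have wb := vb.shift hd ρ σ
  have wc := vc.shift hd ρ σ
  have we := ve.shift hd ρ σ
  obtain ⟨hnb, Bn, -⟩ := vertex hd wb (by linarith) dB hbb hnW.symm (by omega) hbn0 zU zP
  obtain ⟨-, Cn, Cx⟩ := vertex hd wc (by linarith) dC hcc hnW.symm (by omega) (by omega) zU zP
  rw [hbW, hbn] at Bn hnb
  rw [hcW] at Cn Cx
  have hb0 : ((a W : ℤ) : ℝ) * d W ≠ 0 := mul_ne_zero (Int.cast_ne_zero.mpr haW) hdW
  -- `n` is not in `e`
  have hen : e n ≠ c n := by
    intro h
    obtain ⟨-, En, -⟩ := vertex hd we (by linarith) dE hee hnW.symm (by omega) (by omega) zU zP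
    rw [heW, h] at En
    generalize ((c n : ℤ) : ℝ) * υ' n = R at *
    generalize ((c n : ℤ) : ℝ) * π' n = P at *
    have hsum : R ^ 2 + 20 * P ^ 2 = 0 :=
      mul_left_cancel₀ (mul_ne_zero hb0 hG.ne') (by linear_combination 2 * Bn + 2 * En - Cn)
    have hR : R = 0 := by nlinarith [sq_nonneg R, sq_nonneg P]
    have hP : P = 0 := by nlinarith [sq_nonneg R, sq_nonneg P]
    rw [hR, hP] at Cn
    have hne : ((c n : ℤ) : ℝ) * d n * (((c n : ℤ) : ℝ) * d n + ((a W : ℤ) : ℝ) * d W) * (2 * G * G - 0 * 0) ≠ 0 :=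
      mul_ne_zero (mul_ne_zero (mul_ne_zero (Int.cast_ne_zero.mpr (by omega))
        (Nat.cast_ne_zero.mpr (hd n).ne')) hnb) (by nlinarith [mul_pos hG hG])
    exact hne (by rw [← Cn]; ring)
  have han : a n = 0 := by
    by_contra h
    have h1 : a n ≠ c n := fun h' => hen (by
      obtain ⟨-, hh2, hh3, -⟩ := key n (by rw [← h']; exact mul_self_pos.mpr h)
      omega)
    have := sa n; have := sc n
    have hneg : a n * c n < 0 := uneg _ _ (sa n) (sc n) h (by omega) h1
    exact noneg n hnW (Or.inr rfl) hneg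
  have hen0 : e n = 0 := by
    have := s2 n; have := se n; have := sc n
    omega
  -- the constituent shared by `c` and `e`
  obtain ⟨p, hpW, hp0⟩ := exists_other hce W (by rw [heW, hcW]; omega)
  obtain ⟨hcp, hcp0⟩ := pos _ _ (sc p) (se p) hp0
  have hpn : p ≠ n := fun h => by rw [h, hen0, mul_zero] at hp0; omega
  have hpo : p ≠ o := fun h => by rw [h, hco] at hcp0; exact hcp0 rfl
  have hap : a p = 0 := by
    by_contra h
    have : a p * c p < 0 := by
      rcases lt_trichotomy (a p * c p) 0 with hh | hh | hh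
      · exact hh
      · exact absurd hh (mul_ne_zero h hcp0)
      · rcases uac p hh with h' | h'
        · exact absurd h' hpW
        · exact absurd h' hpn
    exact noneg p hpW (Or.inl (by rw [han, zero_mul])) this
  have hbp : b p = 0 := by
    by_contra h
    rcases huniq p (mul_ne_zero h hcp0) with h' | h'
    · exact hpW h'
    · exact hpn h'
  refine ⟨p, hpo, ?_⟩
  -- the equations
  obtain ⟨-, A1, -⟩ := vertex hd wa (by linarith) dA haa hWo haW (by omega) zU zP
  obtain ⟨-, B1, Bx⟩ := vertex hd wb (by linarith) dB hbb hWo (by omega) (by omega) zU zP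
  obtain ⟨-, Ep, -⟩ := vertex hd we (by linarith) dE hee hpW.symm (by omega) (by omega) zU zP
  obtain ⟨-, Cp, -⟩ := vertex hd wc (by linarith) dC hcc hpW.symm (by omega) hcp0 zU zP
  have X1 := Bx n hnW hno hbn0
  have X2 := Cx p hpW hpn hcp0
  rw [hao, ho] at A1
  rw [hbW, hbo, ho, hbn] at X1
  rw [hbW, hbo, ho] at B1
  rw [heW, ← hcp] at Ep
  rw [hcW] at Cp
  push_cast at A1 B1 X1
  simp only [one_mul] at A1 B1 X1
  have hBn : (b n : ℝ) = c n := by exact_mod_cast hbn
  have hG0 := hG.ne'
  have hres := degree_eq_one hG (b := a W * d W) (n := c n * d n) (p := c p * d p)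
    (R1 := υ o - ρ * 1) (P1 := π o - σ * 1) (Rn := (c n : ℝ) * υ' n) (Pn := (c n : ℝ) * π' n)
    (Rp := (c p : ℝ) * υ' p) (Pp := (c p : ℝ) * π' p)
    (by
      have := hcong W
      rw [hbW, hcW, heW] at this
      obtain ⟨k, hk⟩ := this
      rcases sa W with h | h | h
      · exact ⟨-k - 2, by rw [h] at hk ⊢; linear_combination (-1 : ℤ) * hk⟩
      · exact absurd h haW
      · exact ⟨k - 2, by rw [h] at hk ⊢; linear_combination hk⟩)
    (by
      have := hcong n
      rw [han, hen0, hbn] at this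
      obtain ⟨k, hk⟩ := this
      rcases sc n with h | h | h
      · exact ⟨-k - 1, by rw [h] at hk ⊢; linear_combination (-1 : ℤ) * hk⟩
      · omega
      · exact ⟨k - 1, by rw [h] at hk ⊢; linear_combination hk⟩)
    (by
      have := hcong p
      rw [hap, hbp, ← hcp] at this
      obtain ⟨k, hk⟩ := this
      rcases sc p with h | h | h
      · exact ⟨-k - 1, by rw [h] at hk ⊢; linear_combination (-1 : ℤ) * hk⟩
      · omega
      · exact ⟨k - 1, by rw [h] at hk ⊢; linear_combination hk⟩)
    (mul_left_cancel₀ hG0 (by push_cast; linear_combination A1))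
    (mul_left_cancel₀ hG0 (by push_cast; linear_combination 2 * B1))
    (mul_left_cancel₀ hG0 (by push_cast; linear_combination 2 * Bn))
    (mul_left_cancel₀ hG0 (by push_cast; linear_combination Cn))
    (mul_left_cancel₀ hG0 (by push_cast; linear_combination Cp))
    (mul_left_cancel₀ hG0 (by push_cast; linear_combination 2 * Ep))
    (mul_left_cancel₀ hG0 (by push_cast; linear_combination 2 * X1))
    (mul_left_cancel₀ hG0 (by push_cast; linear_combination X2))
  have := hd p
  rcases sc p with h | h | h <;> rw [h] at hres <;> omega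

end Cfsg.Agent.Lib.Involution.Nine
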