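import Cfsg.Agent.Lib.Coprime.Abelian
import Mathlib.GroupTheory.Transfer
import Mathlib.GroupTheory.Sylow
import Mathlib.GroupTheory.PGroup

/-!
# An abelian `p`-subgroup whose element centralizers lie in its normalizer
-/

set_option autoImplicit false

open Subgroup

namespace Cfsg.Agent.Lib.Involution

universe u

variable {G : Type u} [Group G] [Finite G] {p : ℕ} [hp : Fact p.Prime]

/-- `H = N(T)`, `T` is the set of `p`-elements of `H`, and centralizers of non-identity elements of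
`T` lie in `H`. -/
structure PLocalTI (p : ℕ) (H T : Subgroup G) : Prop where
  le : T ≤ H
  pgroup : IsPGroup p T
  comm : IsMulCommutative T
  pmem : ∀ x ∈ H, (∃ k : ℕ, x ^ p ^ k = 1) → x ∈ T
  cent : ∀ t ∈ T, t ≠ 1 → centralizer ({t} : Set G) ≤ H
  norm : normalizer (T : Set G) = H

namespace PLocalTI

variable {H T : Subgroup G} (D : PLocalTI p H T)
include D

omit hp in
theorem exists_pow {t : G} (ht : t ∈ T) : ∃ k : ℕ, t ^ p ^ k = 1 := by
  obtain ⟨k, hk⟩ := D.pgroup ⟨t, ht⟩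
  exact ⟨k, by simpa using congrArg Subtype.val hk⟩

omit hp in
theorem control {t : G} (ht : t ∈ T) (ht1 : t ≠ 1) {g : G} (hg : g * t * g⁻¹ ∈ H) : g ∈ H := by
  obtain ⟨k, hk⟩ := D.exists_pow ht
  have hy : g * t * g⁻¹ ∈ T := D.pmem _ hg ⟨k, by rw [conj_pow, hk]; group⟩
  have hy1 : g * t * g⁻¹ ≠ 1 := fun e => ht1 (by simpa using e)
  have hle : T.map (MulAut.conj g).toMonoidHom ≤ T := by
    rintro _ ⟨s, hs, rfl⟩
    simp only [MulEquiv.coe_toMonoidHom, MulAut.conj_apply]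
    have hsc : g * s * g⁻¹ ∈ centralizer ({g * t * g⁻¹} : Set G) := by
      rw [mem_centralizer_singleton_iff]
      have := congrArg Subtype.val (D.comm.is_comm.comm ⟨s, hs⟩ ⟨t, ht⟩)
      simp only [Subgroup.coe_mul] at this
      calc g * s * g⁻¹ * (g * t * g⁻¹) = g * (s * t) * g⁻¹ := by group
        _ = g * (t * s) * g⁻¹ := by rw [this]
        _ = g * t * g⁻¹ * (g * s * g⁻¹) := by group
    obtain ⟨j, hj⟩ := D.exists_pow hs
    exact D.pmem _ (D.cent _ hy hy1 hsc) ⟨j, by rw [conj_pow, hj]; group⟩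
  have heq := eq_of_le_of_card_ge hle (by rw [card_map_of_injective (MulAut.conj g).injective])
  rw [← D.norm, mem_normalizer_iff]
  intro x
  constructor
  · intro hx; rw [← heq]; exact ⟨x, hx, rfl⟩
  · intro hx
    rw [← heq] at hx
    obtain ⟨y, hy, he⟩ := hx
    simp only [MulEquiv.coe_toMonoidHom, MulAut.conj_apply, mul_left_inj, mul_right_inj] at he
    exact he ▸ hy

theorem pgroup_le {Q : Subgroup G} (hQ : IsPGroup p Q) {t : G} (ht : t ∈ T) (ht1 : t ≠ 1)
    (htQ : t ∈ Q) : Q ≤ T := by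
  have htne : (⟨t, htQ⟩ : Q) ≠ 1 := fun e => ht1 (congrArg Subtype.val e)
  have : Nontrivial Q := ⟨⟨⟨t, htQ⟩, 1, htne⟩⟩
  have hZ := hQ.center_nontrivial
  obtain ⟨z, hz⟩ := exists_ne (1 : center Q)
  have hzc : ((z : Q) : G) ∈ centralizer ({t} : Set G) := by
    rw [mem_centralizer_singleton_iff]
    exact congrArg Subtype.val ((mem_center_iff.mp z.2) ⟨t, htQ⟩).symm
  have hpow : ∀ q ∈ Q, ∃ k : ℕ, q ^ p ^ k = 1 := fun q hq => by
    obtain ⟨k, hk⟩ := hQ ⟨q, hq⟩
    exact ⟨k, by simpa using congrArg Subtype.val hk⟩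
  have hzT := D.pmem _ (D.cent t ht ht1 hzc) (hpow _ (z : Q).2)
  have hz1 : ((z : Q) : G) ≠ 1 := fun e => hz (Subtype.ext (Subtype.ext e))
  intro q hq
  refine D.pmem _ (D.cent _ hzT hz1 ?_) (hpow q hq)
  rw [mem_centralizer_singleton_iff]
  exact congrArg Subtype.val (mem_center_iff.mp z.2 ⟨q, hq⟩)

theorem sup_eq_top {K : Subgroup G} [hK : K.Normal] {t : G} (ht : t ∈ T) (ht1 : t ≠ 1)
    (htK : t ∈ K) : K ⊔ H = ⊤ := by
  have hBp : IsPGroup p ((K ⊓ T).subgroupOf K) :=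
    (D.pgroup.to_le inf_le_right).of_equiv (subgroupOfEquivOfLe inf_le_left).symm
  obtain ⟨P, hP⟩ := hBp.exists_le_sylow
  have hPT : (P : Subgroup K).map K.subtype ≤ T :=
    D.pgroup_le (P.isPGroup'.map K.subtype) ht ht1
      ⟨⟨t, htK⟩, hP (mem_subgroupOf.mpr ⟨htK, ht⟩), rfl⟩
  refine top_unique ?_
  rw [← P.normalizer_sup_eq_top]
  refine sup_le (fun g hg => ?_) le_sup_left
  refine mem_sup_right (D.control ht ht1 (D.le (hPT ?_)))
  exact (mem_normalizer_iff.mp hg t).mp ⟨⟨t, htK⟩, hP (mem_subgroupOf.mpr ⟨htK, ht⟩), rfl⟩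

theorem eq_top_of_kernel {K : Subgroup G} [hK : K.Normal] (hnc : ¬ IsCyclic T) (hKH : K ⊓ H = T) :
    H = ⊤ := by
  haveI := D.comm
  have hTK : T ≤ K := hKH ▸ inf_le_left
  obtain ⟨t, ht, ht1⟩ := T.bot_or_exists_ne_one.resolve_left fun e => hnc (by rw [e]; infer_instance)
  obtain ⟨P, hP⟩ := (D.pgroup.of_equiv (subgroupOfEquivOfLe hTK).symm).exists_le_sylow
  have hPT : (P : Subgroup K) = T.subgroupOf K := by
    refine le_antisymm (fun x hx => mem_subgroupOf.mpr ?_) hP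
    exact D.pgroup_le (P.isPGroup'.map K.subtype) ht ht1
      ⟨⟨t, hTK ht⟩, hP (mem_subgroupOf.mpr ht), rfl⟩ ⟨x, hx, rfl⟩
  have hNP : normalizer ((P : Subgroup K) : Set K) ≤ centralizer ((P : Subgroup K) : Set K) := by
    intro x hx
    have hxT : (x : G) ∈ T := by
      rw [← hKH]
      refine ⟨x.2, D.control ht ht1 (D.le ?_)⟩
      have := (mem_normalizer_iff.mp hx ⟨t, hTK ht⟩).mp (hP (mem_subgroupOf.mpr ht))
      rw [hPT, mem_subgroupOf] at this
      simpa using this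
    rw [mem_centralizer_iff]
    intro y hy
    rw [SetLike.mem_coe, hPT, mem_subgroupOf] at hy
    have := congrArg Subtype.val (D.comm.is_comm.comm ⟨(y : G), hy⟩ ⟨(x : G), hxT⟩)
    simp only [Subgroup.coe_mul] at this
    exact Subtype.ext (by simpa using this)
  obtain ⟨M, hMn, hc, hpM'⟩ : ∃ M : Subgroup K, M.Normal ∧ IsComplement' M (P : Subgroup K) ∧
      ¬ p ∣ Nat.card M :=
    ⟨(MonoidHom.transferSylow P hNP).ker, MonoidHom.normal_ker _,
      MonoidHom.ker_transferSylow_isComplement' P hNP, MonoidHom.not_dvd_card_ker_transferSylow P hNP⟩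
  set M' : Subgroup G := M.map K.subtype with hM'def
  have hpM : ¬ p ∣ Nat.card M' := by
    rwa [card_map_of_injective K.subtype_injective]
  have hTN : T ≤ normalizer (M' : Set G) := fun s hs => by
    rw [mem_normalizer_iff]
    intro x
    constructor
    · rintro ⟨m, hm, rfl⟩
      exact mem_map.mpr ⟨⟨s, hTK hs⟩ * m * ⟨s, hTK hs⟩⁻¹, hMn.conj_mem m hm ⟨s, hTK hs⟩, rfl⟩
    · rintro ⟨m, hm, he⟩
      refine ⟨⟨s, hTK hs⟩⁻¹ * m * ⟨s, hTK hs⟩, ?_, ?_⟩
      · have := hMn.conj_mem m hm (⟨s, hTK hs⟩⁻¹)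
        rwa [inv_inv] at this
      · simp only [coe_subtype] at he
        simp [he, mul_assoc]
  have hcop : (Nat.card T).Coprime (Nat.card M') := by
    obtain ⟨n, hn⟩ := IsPGroup.iff_card.mp D.pgroup
    rw [hn]
    exact (hp.out.coprime_iff_not_dvd.mpr hpM).pow_left n
  have hM1 : M' = ⊥ := by
    rw [← Lib.Coprime.fixGen_eq hnc hTN hcop, eq_bot_iff]
    refine iSup₂_le fun s hs x hx => ?_
    have hxH : x ∈ H := D.cent s hs.1 hs.2 hx.2
    obtain ⟨m, hm, rfl⟩ := hx.1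
    have hxT : (m : G) ∈ T := hKH ▸ mem_inf.mpr ⟨m.2, hxH⟩
    have : m ∈ M ⊓ (P : Subgroup K) := ⟨hm, hPT ▸ mem_subgroupOf.mpr hxT⟩
    rw [hc.disjoint.eq_bot, mem_bot] at this
    simp [this]
  have hM0 : M = ⊥ := (map_eq_bot_iff_of_injective M K.subtype_injective).mp hM1
  rw [hM0, isComplement'_bot_left] at hc
  have hKT : K ≤ T := fun x hx => by
    have : (⟨x, hx⟩ : K) ∈ (P : Subgroup K) := hc ▸ mem_top _
    rwa [hPT, mem_subgroupOf] at this
  have h := D.sup_eq_top (K := K) ht ht1 (hTK ht)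
  rwa [sup_eq_right.mpr (hKT.trans D.le)] at h

end PLocalTI

end Cfsg.Agent.Lib.Involution
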