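import Cfsg.Agent.Lib.Involution.NineModel
import Cfsg.Agent.Lib.Involution.NineAlgebra
import Cfsg.Agent.Lib.Involution.StronglyThree

/-!
# A group with a `3`-local `Sym 3 ≀ 2` around a self-centralizing `3²` has a linear character
-/

set_option autoImplicit false
set_option maxHeartbeats 1000000

open scoped ComplexConjugate

namespace Cfsg.Agent.Lib.Involution.Nine

open Cfsg Cfsg.Agent.Lib.Char Cfsg.Agent.Lib.CharTools Subgroup

universe u

variable {G : Type u} [Group G] [Finite G] (f : Wq →* G) (hf : Function.Injective f)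
  {T : Subgroup G} (D : PLocalTI 3 f.range T) (hT : ∀ x : Wq, f x ∈ T ↔ InT x)

include hf D hT

theorem control_good {x : Wq} (hx : Good x) {g : G} (hg : g * f x * g⁻¹ ∈ f.range) : g ∈ f.range := by
  refine D.control (t := f (x * x)) ((hT _).mpr hx.2) (fun h => hx.1 (hf (h.trans (map_one f).symm))) ?_
  have : g * f (x * x) * g⁻¹ = g * f x * g⁻¹ * (g * f x * g⁻¹) := by rw [map_mul]; group
  rw [this]
  exact mul_mem hg hg

theorem mem_of_inverter {x y : G} (hx : x * x = 1) (hy : y * y = 1) {z : Wq} (hz : f z = x * y)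
    (hz2 : Good z) : x ∈ f.range ∧ y ∈ f.range := by
  have hm : x ∈ f.range := by
    refine control_good f hf D hT hz2 ⟨z⁻¹, ?_⟩
    rw [map_inv, hz, mul_inv_rev, inv_eq_of_mul_eq_one_right hx, inv_eq_of_mul_eq_one_right hy]
    calc y * x = x * x * y * x := by rw [hx, one_mul]
      _ = x * (x * y) * x := by group
  refine ⟨hm, ?_⟩
  have : y = x * (x * y) := by rw [← mul_assoc, hx, one_mul]
  rw [this]
  exact mul_mem hm ⟨z, hz⟩

theorem not_conj_reflection : ¬ IsConj (f r1) (f r2) := by
  haveI : Fact (Nat.Prime 3) := ⟨Nat.prime_three⟩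
  intro h
  obtain ⟨g, hg⟩ := isConj_iff.mp h
  let b : Wq := ⟨(1, Equiv.swap 0 1 * Equiv.swap 1 2), 1⟩
  let a : Wq := ⟨(Equiv.swap 0 1 * Equiv.swap 1 2, Equiv.swap 0 1 * Equiv.swap 1 2), 1⟩
  set C := centralizer ({f r2} : Set G) with hC
  have hb : g * f b * g⁻¹ ∈ C := by
    rw [hC, mem_centralizer_singleton_iff, ← hg]
    calc g * f b * g⁻¹ * (g * f r1 * g⁻¹) = g * f (b * r1) * g⁻¹ := by rw [map_mul]; group
      _ = g * f (r1 * b) * g⁻¹ := by rw [show b * r1 = r1 * b by decide +kernel]
      _ = g * f r1 * g⁻¹ * (g * f b * g⁻¹) := by rw [map_mul]; group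
  have ha : f a ∈ C := by
    rw [hC, mem_centralizer_singleton_iff, ← map_mul, ← map_mul, show a * r2 = r2 * a by decide +kernel]
  have hp : ∀ {c : G} (hc : c ∈ C), c ^ 3 = 1 → IsPGroup 3 (zpowers (⟨c, hc⟩ : C)) := by
    intro c hc h3 w
    refine ⟨1, Subtype.ext ?_⟩
    obtain ⟨i, hi⟩ := w.2
    rw [pow_one, SubgroupClass.coe_pow, ← hi, OneMemClass.coe_one, ← zpow_natCast, ← zpow_mul, mul_comm,
      zpow_mul, zpow_natCast, show (⟨c, hc⟩ : C) ^ 3 = 1 from Subtype.ext h3, one_zpow]
  obtain ⟨Q, hQ⟩ := (hp hb (by rw [conj_pow, ← map_pow, show b ^ 3 = 1 by decide +kernel, map_one]; group)).exists_le_sylow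
  obtain ⟨P, hP⟩ := (hp ha (by rw [← map_pow, show a ^ 3 = 1 by decide +kernel, map_one])).exists_le_sylow
  obtain ⟨c, hc⟩ := MulAction.exists_smul_eq C Q P
  have hmem : c * (⟨_, hb⟩ : C) * c⁻¹ ∈ (P : Subgroup C) := by
    rw [← hc]
    exact Subgroup.smul_mem_pointwise_smul _ (MulAut.conj c) _ (hQ (mem_zpowers _))
  have haT : f a ∈ T := (hT a).mpr (by decide +kernel)
  have hPT : (P : Subgroup C).map C.subtype ≤ T :=
    D.pgroup_le (P.isPGroup'.map C.subtype) haT
      (fun h => absurd (hf (h.trans (map_one f).symm)) (by decide +kernel)) ⟨_, hP (mem_zpowers _), rfl⟩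
  set w : C := c * (⟨_, hb⟩ : C) * c⁻¹
  have hwT : (w : G) ∈ T := hPT ⟨w, hmem, rfl⟩
  obtain ⟨v, hv⟩ := D.le hwT
  obtain ⟨k, hk⟩ : (c : G) * g ∈ f.range := by
    refine control_good f hf D hT (x := b) (by decide +kernel) ⟨v, ?_⟩
    rw [hv]; simp [w, mul_assoc]
  have hv' : v = k * b * k⁻¹ := hf (by rw [hv, map_mul, map_mul, map_inv, hk]; simp [w, mul_assoc])
  have hcomm : v * r2 = r2 * v := hf (by
    rw [map_mul, map_mul, hv]
    exact mem_centralizer_singleton_iff.mp w.2)
  have key : ∀ k : Wq, k * b * k⁻¹ * r2 ≠ r2 * (k * b * k⁻¹) := by decide +kernel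
  exact key k (hv' ▸ hcomm)

/-- The main theorem. -/
theorem exists_linear (hz : ¬ IsConj (f r2) (f rz)) : ∃ l : G →* ℂˣ, l ≠ 1 := by
  classical
  cases nonempty_fintype G
  haveI := Fintype.ofFinite f.range
  have h21 : ¬ IsConj (f r2) (f r1) := fun h => not_conj_reflection f hf D hT h.symm
  let e : Wq ≃* f.range := MonoidHom.ofInjective hf
  have hval : ∀ x : f.range, (x : G) = f (e.symm x) := fun x => by
    conv_lhs => rw [← e.apply_symm_apply x]
    rfl
  let φ : (Wq → ℤ) → f.range → ℂ := fun F x => (F (e.symm x) : ℂ)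
  have hsum : ∀ F : Wq → ℂ, ∑ x : f.range, F (e.symm x) = ∑ x : Wq, F x :=
    fun F => Fintype.sum_equiv e.symm.toEquiv _ _ fun x => rfl
  have hcard : (Nat.card f.range : ℂ) = 72 := by
    rw [← Nat.card_congr e.toEquiv, Nat.card_eq_fintype_card]
    exact_mod_cast (by decide +kernel : Fintype.card Wq = 72)
  have cast_sum : ∀ F : Wq → ℤ, ∑ x : Wq, (F x : ℂ) = ((∑ x : Wq, F x : ℤ) : ℂ) := fun F => by
    push_cast; rfl
  -- induced functions
  have happ : ∀ F : Wq → ℤ, (∀ g x, F (g * x * g⁻¹) = F x) → ∀ x : f.range, Good (e.symm x) →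
      indFun f.range (φ F) (x : G) = φ F x := by
    intro F hF x hx
    have hcf : IsClassFunction f.range (φ F) := fun g y => by simp [φ, hF]
    have hv : ∀ g : G, extendByZero f.range (φ F) (g⁻¹ * (x : G) * g) =
        if g ∈ f.range then φ F x else 0 := by
      intro g
      by_cases hg : g ∈ f.range
      · rw [if_pos hg]
        have := extendByZero_conj hcf (inv_mem hg) (x : G)
        rw [inv_inv, extendByZero_coe] at this
        exact this
      · rw [if_neg hg, extendByZero_not_mem]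
        intro hm
        have := inv_mem (control_good f hf D hT hx (g := g⁻¹) (by rwa [inv_inv, ← hval]))
        exact hg (by simpa using this)
    simp only [indFun, hv]
    rw [← Finset.sum_filter, Finset.sum_const, nsmul_eq_mul, ← Fintype.card_subtype,
      ← Nat.card_eq_fintype_card, ← mul_assoc]
    exact (congrArg (· * φ F x) (inv_mul_cancel₀ (card_ne_zero_complex f.range))).trans (one_mul _)
  have hzero : ∀ F : Wq → ℤ, (∀ x, F x ≠ 0 → Good x) → ∀ v : G, v * v = 1 →
      indFun f.range (φ F) v = 0 := by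
    intro F hF v hv
    refine indFun_apply_eq_zero v fun x hx hc => (hF (e.symm x) (by simpa [φ] using hx)).1 (hf ?_)
    obtain ⟨g, hg⟩ := isConj_iff.mp hc.symm
    rw [map_mul, map_one, ← hval, ← hg]
    calc g * v * g⁻¹ * (g * v * g⁻¹) = g * (v * v) * g⁻¹ := by group
      _ = 1 := by rw [hv]; group
  have hpair : ∀ F F' : Wq → ℤ, (∀ g x, F' (g * x * g⁻¹) = F' x) → (∀ x, F x ≠ 0 → Good x) →
      classInner (indFun f.range (φ F)) (indFun f.range (φ F')) =
        (72 : ℂ)⁻¹ * ((∑ x : Wq, F x * F' x : ℤ) : ℂ) := by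
    intro F F' hF' hF
    rw [classInner_indFun _ _ (isClassFunction_indFun _ _)]
    simp only [classInner, hcard]
    congr 1
    rw [← cast_sum, ← hsum]
    refine Finset.sum_congr rfl fun x _ => ?_
    by_cases h0 : F (e.symm x) = 0
    · simp [φ, h0]
    · rw [happ F' hF' x (hF _ h0)]; simp [φ]
  -- the classes of involutions
  let iU : G → ℂ := fun x => if IsConj x (f r1) ∨ IsConj x (f rz) then 1 else 0
  let iP : G → ℂ := fun x => classInd (f r2) x
  have hcU : IsClassFunction G iU := fun x g => by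
    have h := (isConj_iff.mpr ⟨g, rfl⟩ : IsConj x (g * x * g⁻¹))
    simp only [iU]
    exact if_congr (or_congr ⟨h.trans, h.symm.trans⟩ ⟨h.trans, h.symm.trans⟩) rfl rfl
  have hcP : IsClassFunction G iP := fun x g => classInd_conj _ x g
  have inv_conj : ∀ {p : Wq} {x : G}, p * p = 1 → IsConj x (f p) → x * x = 1 := by
    intro p x hp hx
    obtain ⟨g, hg⟩ := isConj_iff.mp hx.symm
    rw [← hg]
    calc g * f p * g⁻¹ * (g * f p * g⁻¹) = g * (f p * f p) * g⁻¹ := by group
      _ = 1 := by rw [← map_mul, hp, map_one]; group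
  have hsU : ∀ x, iU x ≠ 0 → x * x = 1 := by
    intro x hx
    simp only [iU, ne_eq, ite_eq_right_iff, one_ne_zero, imp_false, not_not] at hx
    rcases hx with h | h
    · exact inv_conj (by decide +kernel) h
    · exact inv_conj (by decide +kernel) h
  have hsP : ∀ x, iP x ≠ 0 → x * x = 1 := fun x hx =>
    inv_conj (by decide +kernel) (by_contra fun h => hx (classInd_of_not h))
  have hclass : ∀ p : Wq, p * p = 1 → p ≠ 1 →
      (p ∈ invU ∧ (IsConj (f p) (f r1) ∨ IsConj (f p) (f rz))) ∨ (p ∈ invP ∧ IsConj (f p) (f r2)) := by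
    intro p hp hp1
    by_cases hU : p ∈ invU
    · refine Or.inl ⟨hU, ?_⟩
      rcases invU_conj p hU with ⟨g, rfl⟩ | ⟨g, rfl⟩
      · exact Or.inl (f.map_isConj (isConj_iff.mpr ⟨g, rfl⟩)).symm
      · exact Or.inr (f.map_isConj (isConj_iff.mpr ⟨g, rfl⟩)).symm
    · have hP : p ∈ invP := by_contra fun h => hp1 (not_inv p hp hU h)
      obtain ⟨g, hg⟩ := invP_conj p hP
      exact Or.inr ⟨hP, (f.map_isConj (isConj_iff.mpr ⟨g, hg⟩)).symm⟩
  have hne1 : ∀ {p q : Wq}, q ≠ 1 → IsConj (f p) (f q) → p ≠ 1 := by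
    intro p q hq h hp
    rw [hp, map_one, isConj_one_right] at h
    exact hq (hf (h.trans (map_one f).symm))
  have hdisj : ∀ p, p ∈ invU → p ∉ invP := by
    intro p h h'
    simp only [invU, invP, Finset.mem_filter] at h h'
    exact h'.2.2 h.2.2.2
  have hindU : ∀ p : Wq, iU (f p) = if p ∈ invU then 1 else 0 := by
    intro p
    by_cases hU : p ∈ invU
    · rw [if_pos hU]
      have hp : p * p = 1 ∧ p ≠ 1 := by
        simp only [invU, Finset.mem_filter] at hU; exact ⟨hU.2.1, hU.2.2.1⟩
      rcases hclass p hp.1 hp.2 with ⟨-, h⟩ | ⟨h, -⟩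
      · simp only [iU]; rw [if_pos h]
      · exact absurd h (hdisj p hU)
    · rw [if_neg hU]
      simp only [iU]
      refine if_neg fun hc => ?_
      have hp : p * p = 1 := hf (by
        rw [map_mul, map_one]
        rcases hc with h | h <;> exact inv_conj (by decide +kernel) h)
      have hp1 : p ≠ 1 := by
        rcases hc with h | h <;> exact hne1 (by decide +kernel) h
      rcases hclass p hp hp1 with ⟨h, -⟩ | ⟨-, h⟩
      · exact hU h
      · rcases hc with h' | h'
        · exact h21 (h.symm.trans h')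
        · exact hz (h.symm.trans h')
  have hindP : ∀ p : Wq, iP (f p) = if p ∈ invP then 1 else 0 := by
    intro p
    by_cases hP : p ∈ invP
    · rw [if_pos hP]
      obtain ⟨g, hg⟩ := invP_conj p hP
      exact classInd_of (f.map_isConj (isConj_iff.mpr ⟨g, hg⟩)).symm
    · rw [if_neg hP]
      refine classInd_of_not fun hc => ?_
      rcases hclass p (hf (by rw [map_mul, map_one]; exact inv_conj (by decide +kernel) hc))
        (hne1 (by decide +kernel) hc) with ⟨-, h | h⟩ | ⟨h, -⟩
      · exact h21 (hc.symm.trans h)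
      · exact hz (hc.symm.trans h)
      · exact hP h
  -- pairs
  have hweight : ∀ (A B : G → ℂ) (SA SB : Finset Wq), IsClassFunction G A → IsClassFunction G B →
      (∀ x, A x ≠ 0 → x * x = 1) → (∀ x, B x ≠ 0 → x * x = 1) →
      (∀ p, A (f p) = if p ∈ SA then 1 else 0) → (∀ p, B (f p) = if p ∈ SB then 1 else 0) →
      ∀ F : Wq → ℤ, (∀ x, F x ≠ 0 → Good x) →
      ∑ x : G, ∑ y : G, A x * B y * indFun f.range (φ F) (x * y) =
        (Nat.card G : ℂ) / 72 * ((∑ x ∈ SA, ∑ y ∈ SB, F (x * y) : ℤ) : ℂ) := by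
    intro A B SA SB hA hB sA sB iA iB F hF
    set E := extendByZero f.range (φ F) with hE
    have step : ∑ x : G, ∑ y : G, A x * B y * indFun f.range (φ F) (x * y) = (72 : ℂ)⁻¹ *
        ∑ z : G, ∑ x : G, ∑ y : G, A x * B y * E (z⁻¹ * (x * y) * z) := by
      simp only [indFun, hcard, Finset.mul_sum]
      conv_rhs => rw [Finset.sum_comm]
      refine Finset.sum_congr rfl fun x _ => ?_
      conv_rhs => rw [Finset.sum_comm]
      refine Finset.sum_congr rfl fun y _ => Finset.sum_congr rfl fun z _ => ?_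
      rw [hE]; ring
    have step2 : ∀ z : G, ∑ x : G, ∑ y : G, A x * B y * E (z⁻¹ * (x * y) * z) =
        ∑ x : G, ∑ y : G, A x * B y * E (x * y) := by
      intro z
      refine Fintype.sum_equiv (MulAut.conj z⁻¹).toEquiv _ _ fun x =>
        Fintype.sum_equiv (MulAut.conj z⁻¹).toEquiv _ _ fun y => ?_
      simp only [MulEquiv.toEquiv_eq_coe, MulEquiv.coe_toEquiv, MulAut.conj_apply, hA x z⁻¹, hB y z⁻¹]
      congr 2; group
    have step3 : ∑ x : G, ∑ y : G, A x * B y * E (x * y) =
        ((∑ x ∈ SA, ∑ y ∈ SB, F (x * y) : ℤ) : ℂ) := by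
      have hmem : ∀ x y : G, A x * B y * E (x * y) ≠ 0 → x ∈ f.range ∧ y ∈ f.range := by
        intro x y hne
        simp only [ne_eq, mul_eq_zero, not_or] at hne
        by_cases hm : x * y ∈ f.range
        · rw [hE, extendByZero_mem _ _ hm] at hne
          exact mem_of_inverter f hf D hT (sA x hne.1.1) (sB y hne.1.2) (hval ⟨x * y, hm⟩).symm
            (hF _ (by simpa [φ] using hne.2))
        · exact absurd (extendByZero_not_mem _ _ hm) hne.2
      have h1 : ∑ x : Wq, ∑ y : Wq, A (f x) * B (f y) * (F (x * y) : ℂ) =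
          ∑ x : G, ∑ y : G, A x * B y * E (x * y) := by
        refine Fintype.sum_of_injective f hf _ _ (fun x hx => ?_) fun p => ?_
        · exact Finset.sum_eq_zero fun y _ => by_contra fun h => hx (hmem x y h).1
        · refine Fintype.sum_of_injective f hf _ _ (fun y hy => ?_) fun q => ?_
          · exact by_contra fun h => hy (hmem _ y h).2
          · rw [hE, ← map_mul, show f (p * q) = ((e (p * q) : f.range) : G) from rfl, extendByZero_coe]
            simp [φ]
      rw [← h1]
      simp only [iA, iB, ite_mul, one_mul, zero_mul, Finset.sum_ite_irrel, Finset.sum_const_zero,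
        Finset.sum_ite_mem, Finset.univ_inter]
      push_cast; rfl
    rw [step, Finset.sum_congr rfl (fun z _ => step2 z), step3, Finset.sum_const, Finset.card_univ,
      nsmul_eq_mul, ← Nat.card_eq_fintype_card]
    ring
  -- the irreducible characters
  let d : IrrCharacter G → ℕ := fun χ => charDegree (χ : G → ℂ)
  let υ : IrrCharacter G → ℝ := fun χ => (∑ x : G, iU x * (χ : G → ℂ) x).re
  let π : IrrCharacter G → ℝ := fun χ => (∑ x : G, iP x * (χ : G → ℂ) x).re
  have hd : ∀ χ, 0 < d χ := fun χ => charDegree_pos χ.2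
  have hreal : ∀ (A : G → ℂ), (∀ x, conj (A x) = A x) → (∀ x, A x ≠ 0 → x * x = 1) →
      ∀ χ : IrrCharacter G, (((∑ x : G, A x * (χ : G → ℂ) x).re : ℝ) : ℂ) = ∑ x : G, A x * (χ : G → ℂ) x := by
    intro A hA sA χ
    refine Complex.conj_eq_iff_re.mp ?_
    rw [map_sum]
    refine Finset.sum_congr rfl fun x _ => ?_
    by_cases h : A x = 0
    · simp [h]
    · rw [map_mul, hA, ← char_inv (isCharacter_of_isIrr χ.2), inv_eq_of_mul_eq_one_right (sA x h)]
  have hrU : ∀ χ, (υ χ : ℂ) = ∑ x : G, iU x * (χ : G → ℂ) x :=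
    hreal iU (fun x => by simp only [iU]; split_ifs <;> simp) hsU
  have hrP : ∀ χ, (π χ : ℂ) = ∑ x : G, iP x * (χ : G → ℂ) x :=
    hreal iP (fun x => by
      by_cases h : IsConj x (f r2)
      · simp only [iP]; rw [classInd_of h, map_one]
      · simp only [iP]; rw [classInd_of_not h, map_zero]) hsP
  have hdd : ∀ χ : IrrCharacter G, (χ : G → ℂ) 1 = (d χ : ℂ) := fun χ =>
    apply_one_eq_charDegree (isCharacter_of_isIrr χ.2)
  let o : IrrCharacter G := ⟨fun _ => 1, isIrrCharacter_one⟩
  -- the four vectors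
  have hchar : ∀ {A : Type} [Fintype A] [DecidableEq A] (π' : Wq →* Equiv.Perm A),
      IsCharacter f.range (fun x => (fx π' (e.symm x) : ℂ)) := by
    intro A _ _ π'
    have := isCharacter_comp (CharSmallPerm.isCharacter_fp (G := Equiv.Perm A) (α := A))
      (π'.comp e.symm.toMonoidHom)
    convert this using 1
    funext x; simp [fx]
  have hlin : ∀ l : Wq →* ℤˣ, IsCharacter f.range (fun x => (ev l (e.symm x) : ℂ)) := by
    intro l
    have := isCharacter_of_isIrr (isIrrCharacter_linear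
      (((Units.map (Int.castRingHom ℂ).toMonoidHom).comp l).comp e.symm.toMonoidHom))
    convert this using 1
    funext x; simp [ev]
  have hrv : IsCharacter f.range (fun x => (rv (e.symm x) : ℂ)) := hlin SemidirectProduct.rightHom
  have hone : IsCharacter f.range (fun _ => (1 : ℂ)) := isCharacter_one
  have gind : ∀ F : Wq → ℤ, (∃ P Q : f.range → ℂ, IsCharacter f.range P ∧ IsCharacter f.range Q ∧
      φ F = P - Q) → IsGeneralizedCharacter G (indFun f.range (φ F)) := by
    rintro F ⟨P, Q, hP, hQ, h⟩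
    exact ⟨_, _, isCharacter_indFun _ hP, isCharacter_indFun _ hQ, by rw [h, indFun_sub]⟩
  have gA : IsGeneralizedCharacter G (indFun f.range (φ fd)) :=
    gind fd ⟨_, _, isCharacter_add (hchar Q4) (hchar Q2), hchar P6, funext fun x => by
      simp only [φ, (decomp _).1, Int.cast_sub, Int.cast_add, Pi.sub_apply, Pi.add_apply]⟩
  have gB : IsGeneralizedCharacter G (indFun f.range (φ fd')) :=
    gind fd' ⟨_, _, isCharacter_add (isCharacter_add (isCharacter_add (isCharacter_add hone hone)
      (hlin ePlus)) (hchar Q4)) (hchar P6),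
      isCharacter_add (isCharacter_add (hchar P9) (hchar Q2)) (hchar Q2), funext fun x => by
      simp only [φ, (decomp _).2.1, Int.cast_sub, Int.cast_add, Int.cast_one, Pi.sub_apply, Pi.add_apply]⟩
  have gC : IsGeneralizedCharacter G (indFun f.range (φ f1)) :=
    gind f1 ⟨_, _, isCharacter_add (isCharacter_add (isCharacter_add (isCharacter_add (hchar Q4) (hchar Q4))
      (hlin ePlus)) (isCharacter_mul hrv (hlin ePlus))) (hchar P6),
      isCharacter_add (isCharacter_add (hchar R12) (hchar Q2)) (hchar Q2), funext fun x => by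
      simp only [φ, (decomp _).2.2.1, Int.cast_sub, Int.cast_add, Int.cast_mul, Pi.sub_apply, Pi.add_apply,
        Pi.mul_apply]⟩
  have gE : IsGeneralizedCharacter G (indFun f.range (φ f4)) :=
    gind f4 ⟨_, _, isCharacter_add (isCharacter_add (isCharacter_add (isCharacter_add hrv hrv)
      (isCharacter_mul hrv (hlin ePlus))) (hchar Q4)) (hchar P6),
      isCharacter_add (isCharacter_add (isCharacter_mul hrv (hchar P9)) (hchar Q2)) (hchar Q2),
      funext fun x => by
      simp only [φ, (decomp _).2.2.2, Int.cast_sub, Int.cast_add, Int.cast_mul, Pi.sub_apply, Pi.add_apply,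
        Pi.mul_apply]⟩
  have good : ∀ x, (fd x ≠ 0 → Good x) ∧ (fd' x ≠ 0 → Good x) ∧ (f1 x ≠ 0 → Good x) ∧ (f4 x ≠ 0 → Good x) :=
    fun x => ⟨fun h => good_of_ne x (Or.inl h), fun h => good_of_ne x (Or.inr (Or.inl h)),
      fun h => good_of_ne x (Or.inr (Or.inr (Or.inl h))), fun h => good_of_ne x (Or.inr (Or.inr (Or.inr h)))⟩
  choose za hza using generalized_classInner_int gA
  choose zb hzb using generalized_classInner_int gB
  choose zc hzc using generalized_classInner_int gC
  choose ze hze using generalized_classInner_int gE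
  have hVec : ∀ (F : Wq → ℤ) (z : IrrCharacter G → ℤ),
      (∀ χ : IrrCharacter G, classInner (indFun f.range (φ F)) (χ : G → ℂ) = (z χ : ℂ)) →
      (∀ x, F x ≠ 0 → Good x) →
      ∀ k11 k12 k22 : ℤ, ∑ x ∈ invU, ∑ y ∈ invU, F (x * y) = k11 → ∑ x ∈ invU, ∑ y ∈ invP, F (x * y) = k12 →
      ∑ x ∈ invP, ∑ y ∈ invP, F (x * y) = k22 →
      Vec d υ π z ((Nat.card G : ℝ) / 72 * k11) ((Nat.card G : ℝ) / 72 * k12) ((Nat.card G : ℝ) / 72 * k22) := by
    intro F z hz' hF k11 k12 k22 h11 h12 h22
    set τ := indFun f.range (φ F) with hτ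
    have hexp : ∀ g, τ g = ∑ χ : IrrCharacter G, (z χ : ℂ) * (χ : G → ℂ) g := fun g => by
      have := congrFun (eq_sum_classInner_smul (φ := τ) (isClassFunction_indFun _ _)) g
      simpa [Finset.sum_apply, hz'] using this
    have hlin' : ∀ (A : G → ℂ) (ρ : IrrCharacter G → ℝ), (∀ χ, (ρ χ : ℂ) = ∑ x : G, A x * (χ : G → ℂ) x) →
        ((∑ χ : IrrCharacter G, (z χ : ℝ) * ρ χ : ℝ) : ℂ) = ∑ x : G, A x * τ x := by
      intro A ρ hρ
      push_cast
      simp only [hρ, hexp, Finset.mul_sum]
      rw [Finset.sum_comm]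
      exact Finset.sum_congr rfl fun x _ => Finset.sum_congr rfl fun χ _ => by ring
    have hvan : ∀ A : G → ℂ, (∀ x, A x ≠ 0 → x * x = 1) → ∑ x : G, A x * τ x = 0 := by
      intro A hA
      refine Finset.sum_eq_zero fun x _ => ?_
      by_cases h : A x = 0
      · rw [h, zero_mul]
      · rw [hτ, hzero F hF x (hA x h), mul_zero]
    have hform : ∀ (A B : G → ℂ) (ρ σ : IrrCharacter G → ℝ), IsClassFunction G A → IsClassFunction G B →
        (∀ χ, (ρ χ : ℂ) = ∑ x : G, A x * (χ : G → ℂ) x) → (∀ χ, (σ χ : ℂ) = ∑ x : G, B x * (χ : G → ℂ) x) →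
        ((form d z ρ σ : ℝ) : ℂ) = ∑ x : G, ∑ y : G, A x * B y * τ (x * y) := by
      intro A B ρ σ hA hB hρ hσ
      simp only [form]
      push_cast
      simp only [hρ, hσ, ← hdd]
      calc ∑ χ : IrrCharacter G, (z χ : ℂ) *
            ((∑ x : G, A x * (χ : G → ℂ) x) * (∑ y : G, B y * (χ : G → ℂ) y) / (χ : G → ℂ) 1)
          = ∑ χ : IrrCharacter G, (z χ : ℂ) * ∑ x : G, ∑ y : G, A x * B y * (χ : G → ℂ) (x * y) :=
            Finset.sum_congr rfl fun χ _ => by rw [sum_pair_mul χ.2 hA hB]
        _ = _ := by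
            simp only [hexp, Finset.mul_sum]
            rw [Finset.sum_comm]
            refine Finset.sum_congr rfl fun x _ => ?_
            rw [Finset.sum_comm]
            exact Finset.sum_congr rfl fun y _ => Finset.sum_congr rfl fun χ _ => by ring
    refine ⟨Complex.ofReal_injective ?_, Complex.ofReal_injective ?_, Complex.ofReal_injective ?_,
      Complex.ofReal_injective ?_, Complex.ofReal_injective ?_, Complex.ofReal_injective ?_⟩
    · rw [Complex.ofReal_zero, ← hzero F hF 1 (one_mul 1), ← hτ, hexp]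
      push_cast
      simp only [hdd]
    · rw [Complex.ofReal_zero, hlin' iU υ hrU, hvan iU hsU]
    · rw [Complex.ofReal_zero, hlin' iP π hrP, hvan iP hsP]
    · rw [hform iU iU υ υ hcU hcU hrU hrU, hτ, hweight iU iU invU invU hcU hcU hsU hsU hindU hindU F hF, h11]
      push_cast; ring
    · rw [hform iU iP υ π hcU hcP hrU hrP, hτ, hweight iU iP invU invP hcU hcP hsU hsP hindU hindP F hF, h12]
      push_cast; ring
    · rw [hform iP iP π π hcP hcP hrP hrP, hτ, hweight iP iP invP invP hcP hcP hsP hsP hindP hindP F hF, h22]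
      push_cast; ring
  have va := hVec fd za hza (fun x => (good x).1) _ _ _ pair_fd.1 pair_fd.2.1 pair_fd.2.2
  have vb := hVec fd' zb hzb (fun x => (good x).2.1) _ _ _ pair_fd'.1 pair_fd'.2.1 pair_fd'.2.2
  have vc := hVec f1 zc hzc (fun x => (good x).2.2.1) _ _ _ pair_f1.1 pair_f1.2.1 pair_f1.2.2
  have ve := hVec f4 ze hze (fun x => (good x).2.2.2) _ _ _ pair_f4.1 pair_f4.2.1 pair_f4.2.2
  have hinner : ∀ (F F' : Wq → ℤ) (z z' : IrrCharacter G → ℤ),
      (∀ χ : IrrCharacter G, classInner (indFun f.range (φ F)) (χ : G → ℂ) = (z χ : ℂ)) →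
      (∀ χ : IrrCharacter G, classInner (indFun f.range (φ F')) (χ : G → ℂ) = (z' χ : ℂ)) →
      (∀ g x, F' (g * x * g⁻¹) = F' x) → (∀ x, F x ≠ 0 → Good x) →
      ∀ k : ℤ, ∑ x : Wq, F x * F' x = 72 * k → ∑ χ : IrrCharacter G, z χ * z' χ = k := by
    intro F F' z z' hz1 hz2 hF' hF k hk
    have h3 := classInner_eq_sum (φ := indFun f.range (φ F)) (ψ := indFun f.range (φ F'))
      (isClassFunction_indFun _ _)
    rw [hpair F F' hF' hF, hk] at h3
    simp only [hz1, hz2, map_intCast] at h3
    have h4 : ((∑ χ : IrrCharacter G, z χ * z' χ : ℤ) : ℂ) = (k : ℂ) := by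
      push_cast at h3 ⊢
      rw [← h3, ← mul_assoc, inv_mul_cancel₀ (by norm_num : (72 : ℂ) ≠ 0), one_mul]
    exact_mod_cast h4
  have htriv : ∀ (F : Wq → ℤ) (z : IrrCharacter G → ℤ),
      (∀ χ : IrrCharacter G, classInner (indFun f.range (φ F)) (χ : G → ℂ) = (z χ : ℂ)) →
      ∀ k : ℤ, ∑ x : Wq, F x = 72 * k → z o = k := by
    intro F z hz1 k hk
    have h := hz1 o
    rw [classInner_indFun _ _ (isClassFunction_of_isIrr o.2)] at h
    simp only [classInner, hcard, o, map_one, mul_one, φ] at h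
    rw [hsum (fun x => (F x : ℂ)), cast_sum, hk] at h
    push_cast at h
    rw [← mul_assoc, inv_mul_cancel₀ (by norm_num : (72 : ℂ) ≠ 0), one_mul] at h
    exact_mod_cast h.symm
  have hcong : ∀ χ, (9 : ℤ) ∣ (d χ : ℤ) + 4 * (za χ + zb χ + zc χ + ze χ) := by
    intro χ
    have hsumT : (Finset.univ.filter fun x : G => x ∈ T) = (Finset.univ.filter InT).map ⟨f, hf⟩ := by
      ext x
      simp only [Finset.mem_filter, Finset.mem_univ, true_and, Finset.mem_map, Function.Embedding.coeFn_mk]
      exact ⟨fun hx => by obtain ⟨p, rfl⟩ := D.le hx; exact ⟨p, (hT p).mp hx, rfl⟩,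
        by rintro ⟨p, hp, rfl⟩; exact (hT p).mpr hp⟩
    have hT9 : (Nat.card T : ℂ) = 9 := by
      rw [Nat.card_eq_fintype_card, Fintype.card_subtype, hsumT, Finset.card_map]
      exact_mod_cast (by decide +kernel : (Finset.univ.filter InT).card = 9)
    obtain ⟨m, hm⟩ := exists_nat_sum_subgroup (isCharacter_of_isIrr χ.2) T
    rw [hsumT, Finset.sum_map, hT9] at hm
    simp only [Function.Embedding.coeFn_mk] at hm
    have hres : ∀ (F : Wq → ℤ), classInner (indFun f.range (φ F)) (χ : G → ℂ) =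
        (72 : ℂ)⁻¹ * ∑ p : Wq, (F p : ℂ) * conj ((χ : G → ℂ) (f p)) := by
      intro F
      rw [classInner_indFun _ _ (isClassFunction_of_isIrr χ.2)]
      simp only [classInner, hcard]
      congr 1
      rw [← hsum]
      exact Finset.sum_congr rfl fun x _ => by rw [← hval]
    have h1 : ((za χ + zb χ + zc χ + ze χ : ℤ) : ℂ) =
        (72 : ℂ)⁻¹ * ∑ p ∈ (Finset.univ.filter InT).erase 1, 18 * conj ((χ : G → ℂ) (f p)) := by
      push_cast
      rw [← hza, ← hzb, ← hzc, ← hze, hres, hres, hres, hres, ← mul_add, ← mul_add, ← mul_add,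
        ← Finset.sum_add_distrib, ← Finset.sum_add_distrib, ← Finset.sum_add_distrib]
      congr 1
      rw [← Finset.sum_subset (Finset.subset_univ ((Finset.univ.filter InT).erase 1)) fun p _ hp => ?_]
      · refine Finset.sum_congr rfl fun p hp => ?_
        simp only [Finset.mem_erase, Finset.mem_filter, Finset.mem_univ, true_and] at hp
        have := sum_all p
        rw [if_pos ⟨hp.2, hp.1⟩] at this
        rw [← add_mul, ← add_mul, ← add_mul]
        congr 1
        exact_mod_cast this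
      · simp only [Finset.mem_erase, Finset.mem_filter, Finset.mem_univ, true_and] at hp
        have := sum_all p
        rw [if_neg (fun h => hp ⟨h.2, h.1⟩)] at this
        rw [← add_mul, ← add_mul, ← add_mul]
        rw [show (fd p : ℂ) + fd' p + f1 p + f4 p = 0 by exact_mod_cast this, zero_mul]
    have h2 := Finset.add_sum_erase (Finset.univ.filter InT)
      (fun p => conj ((χ : G → ℂ) (f p))) (a := 1) (by decide +kernel)
    rw [← map_sum, ← map_sum, hm, map_one, hdd, map_natCast, map_mul, map_natCast, Complex.conj_ofNat, map_sum] at h2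
    rw [← Finset.mul_sum] at h1
    have h4 : ((d χ : ℤ) + 4 * (za χ + zb χ + zc χ + ze χ) : ℤ) = 9 * (m : ℤ) := by
      have : ((((d χ : ℤ) + 4 * (za χ + zb χ + zc χ + ze χ) : ℤ)) : ℂ) = ((9 * (m : ℤ) : ℤ) : ℂ) := by
        rw [Int.cast_add, Int.cast_mul, h1]
        push_cast
        linear_combination h2
      exact_mod_cast this
    exact ⟨m, h4⟩
  obtain ⟨χ, hne, hχ⟩ := exists_degree_one hd o
    (by have := hdd o; simp only [o] at this; exact_mod_cast this.symm) za zb zc ze
    (G := (Nat.card G : ℝ)) (by exact_mod_cast Nat.card_pos)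
    (by convert va using 1 <;> push_cast <;> ring) (by convert vb using 1 <;> push_cast <;> ring)
    (by convert vc using 1 <;> push_cast <;> ring) (by convert ve using 1 <;> push_cast <;> ring)
    (hinner fd fd za za hza hza (fun g x => (conj_invariant g x).1) (fun x => (good x).1) 4 (by rw [inner_same.1]; rfl))
    (hinner fd' fd' zb zb hzb hzb (fun g x => (conj_invariant g x).2.1) (fun x => (good x).2.1) 4 (by rw [inner_same.2.1]; rfl))
    (hinner f1 f1 zc zc hzc hzc (fun g x => (conj_invariant g x).2.2.1) (fun x => (good x).2.2.1) 4 (by rw [inner_same.2.2.1]; rfl))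
    (hinner f4 f4 ze ze hze hze (fun g x => (conj_invariant g x).2.2.2) (fun x => (good x).2.2.2) 4 (by rw [inner_same.2.2.2]; rfl))
    (hinner fd fd' za zb hza hzb (fun g x => (conj_invariant g x).2.1) (fun x => (good x).1) 2 (by rw [inner_cross.1]; rfl))
    (hinner fd f1 za zc hza hzc (fun g x => (conj_invariant g x).2.2.1) (fun x => (good x).1) 1 (by rw [inner_cross.2.1]; rfl))
    (hinner fd f4 za ze hza hze (fun g x => (conj_invariant g x).2.2.2) (fun x => (good x).1) 2 (by rw [inner_cross.2.2.1]; rfl))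
    (hinner fd' f1 zb zc hzb hzc (fun g x => (conj_invariant g x).2.2.1) (fun x => (good x).2.1) 2 (by rw [inner_cross.2.2.2.1]; rfl))
    (hinner f1 f4 zc ze hzc hze (fun g x => (conj_invariant g x).2.2.2) (fun x => (good x).2.2.1) 2 (by rw [inner_cross.2.2.2.2]; rfl))
    (htriv fd za hza 1 (by rw [inner_one.1]; rfl)) (htriv fd' zb hzb 1 (by rw [inner_one.2.1]; rfl))
    (htriv f1 zc hzc 0 (by rw [inner_one.2.2]; rfl)) hcong
  obtain ⟨l, hl⟩ := exists_hom_of_degree_one (isCharacter_of_isIrr χ.2) (by rw [hdd, hχ, Nat.cast_one])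
  refine ⟨l, fun h => hne (Subtype.ext (funext fun g => ?_))⟩
  simp [hl, h, o]

end Cfsg.Agent.Lib.Involution.Nine
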