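import Cfsg.Agent.Lib.Involution.WeightZero
import Mathlib.GroupTheory.SemidirectProduct

/-!
# The model `Sym 3 ≀ 2` and its four exceptional class functions
-/

set_option autoImplicit false
set_option maxHeartbeats 1000000

namespace Cfsg.Agent.Lib.Involution.Nine

open Cfsg Cfsg.Agent.Lib.Char

/-- The base of the model. -/
abbrev Base : Type := Equiv.Perm (Fin 3) × Equiv.Perm (Fin 3)

/-- The exchange of the two coordinates. -/
def twist : ℤˣ →* MulAut Base where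
  toFun u := if u = 1 then 1 else MulEquiv.prodComm
  map_one' := rfl
  map_mul' u v := by
    rcases Int.units_eq_one_or u with rfl | rfl <;> rcases Int.units_eq_one_or v with rfl | rfl <;>
      ext1 x <;> rfl

/-- The model. -/
abbrev Wq : Type := Base ⋊[twist] ℤˣ

instance : Fintype Wq := Fintype.ofEquiv _ SemidirectProduct.equivProd.symm

/-- Equality componentwise, so that the kernel can decide it. -/
instance (priority := high) decEqWq : DecidableEq Wq := fun x y =>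
  decidable_of_iff (x.left = y.left ∧ x.right = y.right) SemidirectProduct.ext_iff.symm

abbrev r1 : Wq := ⟨(Equiv.swap 0 1, 1), 1⟩
abbrev rz : Wq := ⟨(Equiv.swap 0 1, Equiv.swap 0 1), 1⟩
abbrev r2 : Wq := ⟨1, -1⟩

/-- The sign as an integer. -/
abbrev sg (s : Equiv.Perm (Fin 3)) : ℤ := ((Equiv.Perm.sign s : ℤˣ) : ℤ)

/-- The character `δ` of degree two. -/
def dl (s : Equiv.Perm (Fin 3)) : ℤ := (CharSmallPerm.fp (Fin 3) s : ℤ) - 1

def fd (x : Wq) : ℤ :=
  if x.right = 1 then supportFun x.left.1 + supportFun x.left.2 else 0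

def fd' (x : Wq) : ℤ :=
  if x.right = 1 then 1 + sg x.left.1 * sg x.left.2 + (sg x.left.1 + sg x.left.2) - dl x.left.1 * dl x.left.2
  else 1 + sg x.left.1 * sg x.left.2 - dl (x.left.1 * x.left.2)

def f1 (x : Wq) : ℤ :=
  if x.right = 1 then sg x.left.1 * supportFun x.left.2 + sg x.left.2 * supportFun x.left.1 else 0

def f4 (x : Wq) : ℤ := (x.right : ℤ) * fd' x

/-- The elements of order `3` and `6`. -/
def Good (x : Wq) : Prop :=
  x * x ≠ 1 ∧ (x * x).right = 1 ∧ Equiv.Perm.sign (x * x).left.1 = 1 ∧ Equiv.Perm.sign (x * x).left.2 = 1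

/-- Membership in the Sylow `3`-subgroup. -/
def InT (x : Wq) : Prop :=
  x.right = 1 ∧ Equiv.Perm.sign x.left.1 = 1 ∧ Equiv.Perm.sign x.left.2 = 1

instance : DecidablePred Good := fun x => by unfold Good; infer_instance
instance : DecidablePred InT := fun x => by unfold InT; infer_instance

theorem good_of_ne : ∀ x : Wq, fd x ≠ 0 ∨ fd' x ≠ 0 ∨ f1 x ≠ 0 ∨ f4 x ≠ 0 → Good x := by decide +kernel

theorem sum_all : ∀ x : Wq, fd x + fd' x + f1 x + f4 x = if InT x ∧ x ≠ 1 then 18 else 0 := by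
  decide +kernel

theorem conj_invariant : ∀ g x : Wq, fd (g * x * g⁻¹) = fd x ∧ fd' (g * x * g⁻¹) = fd' x ∧
    f1 (g * x * g⁻¹) = f1 x ∧ f4 (g * x * g⁻¹) = f4 x := by decide +kernel

/-- The involutions in the base. -/
def invU : Finset Wq := Finset.univ.filter fun x => x * x = 1 ∧ x ≠ 1 ∧ x.right = 1
/-- The involutions outside the base. -/
def invP : Finset Wq := Finset.univ.filter fun x => x * x = 1 ∧ x.right ≠ 1

theorem invU_conj : ∀ x ∈ invU, (∃ g : Wq, g * r1 * g⁻¹ = x) ∨ ∃ g : Wq, g * rz * g⁻¹ = x := by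
  decide +kernel

theorem invP_conj : ∀ x ∈ invP, ∃ g : Wq, g * r2 * g⁻¹ = x := by decide +kernel

theorem not_inv : ∀ x : Wq, x * x = 1 → x ∉ invU → x ∉ invP → x = 1 := by decide +kernel

theorem pair_fd : ∑ x ∈ invU, ∑ y ∈ invU, fd (x * y) = 576 ∧ ∑ x ∈ invU, ∑ y ∈ invP, fd (x * y) = 0 ∧
    ∑ x ∈ invP, ∑ y ∈ invP, fd (x * y) = 72 := by decide +kernel
theorem pair_fd' : ∑ x ∈ invU, ∑ y ∈ invU, fd' (x * y) = 396 ∧ ∑ x ∈ invU, ∑ y ∈ invP, fd' (x * y) = 108 ∧
    ∑ x ∈ invP, ∑ y ∈ invP, fd' (x * y) = 36 := by decide +kernel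
theorem pair_f1 : ∑ x ∈ invU, ∑ y ∈ invU, f1 (x * y) = 144 ∧ ∑ x ∈ invU, ∑ y ∈ invP, f1 (x * y) = 0 ∧
    ∑ x ∈ invP, ∑ y ∈ invP, f1 (x * y) = 72 := by decide +kernel
theorem pair_f4 : ∑ x ∈ invU, ∑ y ∈ invU, f4 (x * y) = 396 ∧ ∑ x ∈ invU, ∑ y ∈ invP, f4 (x * y) = -108 ∧
    ∑ x ∈ invP, ∑ y ∈ invP, f4 (x * y) = 36 := by decide +kernel

theorem inner_same : ∑ x : Wq, fd x * fd x = 288 ∧ ∑ x : Wq, fd' x * fd' x = 288 ∧
    ∑ x : Wq, f1 x * f1 x = 288 ∧ ∑ x : Wq, f4 x * f4 x = 288 := by decide +kernel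
theorem inner_cross : ∑ x : Wq, fd x * fd' x = 144 ∧ ∑ x : Wq, fd x * f1 x = 72 ∧
    ∑ x : Wq, fd x * f4 x = 144 ∧ ∑ x : Wq, fd' x * f1 x = 144 ∧ ∑ x : Wq, f1 x * f4 x = 144 := by
  decide +kernel
theorem inner_one : ∑ x : Wq, fd x = 72 ∧ ∑ x : Wq, fd' x = 72 ∧ ∑ x : Wq, f1 x = 0 := by decide +kernel

/-! ### The underlying permutation representations -/

/-- The regular action of `ℤˣ`. -/
def regZ : ℤˣ →* Equiv.Perm ℤˣ := MulAction.toPermHom ℤˣ ℤˣ

/-- The product of two actions. -/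
def pairPerm {A B : Type} : Equiv.Perm A × Equiv.Perm B →* Equiv.Perm (A × B) where
  toFun p := p.1.prodCongr p.2
  map_one' := rfl
  map_mul' _ _ := rfl

/-- Exchanging two copies. -/
def swapSum (A : Type) : ℤˣ →* Equiv.Perm (A ⊕ A) where
  toFun u := if u = 1 then 1 else Equiv.sumComm A A
  map_one' := rfl
  map_mul' u v := by
    rcases Int.units_eq_one_or u with rfl | rfl <;> rcases Int.units_eq_one_or v with rfl | rfl <;>
      ext x <;> cases x <;> rfl

/-- The imprimitive action on two copies of `A`. -/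
def imprim {A : Type} (g : Base →* Equiv.Perm A) : Wq →* Equiv.Perm (A ⊕ A) :=
  SemidirectProduct.lift
    ((Equiv.Perm.sumCongrHom A A).comp (g.prod (g.comp (MulEquiv.prodComm : Base ≃* Base).toMonoidHom)))
    (swapSum A) fun u => by
      rcases Int.units_eq_one_or u with rfl | rfl <;> ext x y <;> cases y <;> rfl

/-- The six points. -/
def P6 : Wq →* Equiv.Perm (Fin 3 ⊕ Fin 3) := imprim (MonoidHom.fst _ _)

/-- The four points. -/
def Q4 : Wq →* Equiv.Perm (ℤˣ ⊕ ℤˣ) := imprim ((regZ.comp Equiv.Perm.sign).comp (MonoidHom.fst _ _))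

/-- The twelve points. -/
def R12 : Wq →* Equiv.Perm ((ℤˣ × Fin 3) ⊕ (ℤˣ × Fin 3)) :=
  imprim (pairPerm.comp (((regZ.comp Equiv.Perm.sign).comp (MonoidHom.fst _ _)).prod (MonoidHom.snd _ _)))

/-- The two points. -/
def Q2 : Wq →* Equiv.Perm ℤˣ := regZ.comp SemidirectProduct.rightHom

/-- Exchanging the factors of a square. -/
def swapProd : ℤˣ →* Equiv.Perm (Fin 3 × Fin 3) where
  toFun u := if u = 1 then 1 else Equiv.prodComm (Fin 3) (Fin 3)
  map_one' := rfl
  map_mul' u v := by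
    rcases Int.units_eq_one_or u with rfl | rfl <;> rcases Int.units_eq_one_or v with rfl | rfl <;>
      ext x <;> rfl

/-- The nine points. -/
def P9 : Wq →* Equiv.Perm (Fin 3 × Fin 3) :=
  SemidirectProduct.lift pairPerm swapProd fun u => by
    rcases Int.units_eq_one_or u with rfl | rfl <;> ext x y <;> rfl

/-- The linear character which is trivial on the exchange. -/
def ePlus : Wq →* ℤˣ :=
  SemidirectProduct.lift
    ((Equiv.Perm.sign.comp (MonoidHom.fst _ _)) * (Equiv.Perm.sign.comp (MonoidHom.snd _ _))) 1 fun u => by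
      rcases Int.units_eq_one_or u with rfl | rfl <;> refine MonoidHom.ext fun x => ?_
      · simp
      · show Equiv.Perm.sign x.2 * Equiv.Perm.sign x.1 = (MulAut.conj (1 : ℤˣ)) _
        simp [mul_comm]

/-- The fixed point count of a representation. -/
def fx {A : Type} [Fintype A] [DecidableEq A] (π : Wq →* Equiv.Perm A) (x : Wq) : ℤ :=
  (CharSmallPerm.fp A (π x) : ℤ)

abbrev ev (l : Wq →* ℤˣ) (x : Wq) : ℤ := ((l x : ℤˣ) : ℤ)
abbrev rv (x : Wq) : ℤ := (x.right : ℤ)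

theorem decomp : ∀ x : Wq,
    fd x = (fx Q4 x + fx Q2 x) - fx P6 x ∧
    fd' x = (1 + 1 + ev ePlus x + fx Q4 x + fx P6 x) - (fx P9 x + fx Q2 x + fx Q2 x) ∧
    f1 x = (fx Q4 x + fx Q4 x + ev ePlus x + rv x * ev ePlus x + fx P6 x) - (fx R12 x + fx Q2 x + fx Q2 x) ∧
    f4 x = (rv x + rv x + rv x * ev ePlus x + fx Q4 x + fx P6 x) - (rv x * fx P9 x + fx Q2 x + fx Q2 x) := by
  decide +kernel

end Cfsg.Agent.Lib.Involution.Nine
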