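import Mathlib
import Cfsg.Prelude
import Cfsg.Agent.S0111

/-!
Groups with an involution `t`, central in a Sylow 2-subgroup, whose centraliser is the product of a
group of order two and the symmetric group of degree four, in which a Sylow 2-subgroup is the
centraliser of its derived subgroup: fusion of involutions and the transfer argument (helper3).
-/

set_option autoImplicit false
set_option maxRecDepth 4000

namespace Cfsg.Agent.Lib.Involution.TwoSymFour

open Equiv

/-- The model of the centraliser. -/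
abbrev P : Type := Multiplicative (ZMod 2) × Perm (Fin 4)

/-- The direct factor of order two. -/
def z0 : P := (Multiplicative.ofAdd 1, 1)

/-- The double transposition. -/
def w0 : Perm (Fin 4) := swap 0 1 * swap 2 3

/-- The double transposition in the model. -/
def W : P := (1, w0)

/-- A transposition with prescribed first coordinate. -/
def A (i : Multiplicative (ZMod 2)) : P := (i, swap 0 1)

/-- Membership in the standard Sylow subgroup of the model. -/
def D (x : P) : Prop := x.2 * w0 = w0 * x.2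

instance decD (x : P) : Decidable (D x) := by unfold D; infer_instance

theorem central_inv : ∀ x : P, (∀ y, x * y = y * x) → x = 1 ∨ x = z0 := by decide +kernel

theorem W_comm : ∀ x : P, D x → x * W = W * x := by decide +kernel

theorem D_of_comm : ∀ x : P, x * W = W * x → D x := by decide +kernel

theorem commutator_D : ∀ x : P, D x → ∀ y : P, D y → x * y * x⁻¹ * y⁻¹ = 1 ∨ x * y * x⁻¹ * y⁻¹ = W := by
  decide +kernel

theorem commutator_W : ∃ x : P, D x ∧ ∃ y : P, D y ∧ x * y * x⁻¹ * y⁻¹ = W := by decide +kernel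

theorem involutions : ∀ x : P, x * x = 1 → x = 1 ∨ x = z0 ∨ (∃ c : P, c * x * c⁻¹ = W) ∨
    (∃ c : P, c * x * c⁻¹ = z0 * W) ∨ ∃ i, ∃ c : P, c * x * c⁻¹ = A i := by decide +kernel

theorem cent_A : ∀ i, ∀ x : P, x * A i = A i * x →
    x = 1 ∨ x = z0 ∨ x = W ∨ x = z0 * W ∨ ∃ j, ∃ c : P, c * x * c⁻¹ = A j := by decide +kernel

theorem commutator_conj : ∀ x y : P, (x * y * x⁻¹ * y⁻¹) * (x * y * x⁻¹ * y⁻¹) = 1 → x * y * x⁻¹ * y⁻¹ ≠ 1 →
    ∃ c : P, c * (x * y * x⁻¹ * y⁻¹) * c⁻¹ = W := by decide +kernel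

theorem A_comm : ∀ i, W * A i = A i * W := by decide +kernel

theorem A_ne : ∀ i, A i ≠ z0 ∧ A i ≠ 1 := by decide +kernel

theorem basics : z0 * z0 = 1 ∧ W * W = 1 ∧ z0 ≠ 1 ∧ W ≠ 1 ∧ z0 * W ≠ 1 ∧ z0 * W ≠ W ∧ D z0 ∧ D W ∧
    (∀ x : P, x * z0 = z0 * x) := by decide +kernel

/-- The character whose kernel omits the conjugates of the direct factor. -/
def chi (k : Multiplicative (ZMod 2)) : P →* Multiplicative (ZMod 2) :=
  MonoidHom.mk' (fun x => x.1 * (if Perm.sign x.2 = 1 then 1 else k)) (by revert k; decide +kernel)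

theorem chi_z0 : ∀ k, chi k z0 ≠ 1 := by decide +kernel

theorem chi_W : ∀ k, chi k W = 1 := by decide +kernel

set_option synthInstance.maxSize 2000 in
set_option synthInstance.maxHeartbeats 400000 in
theorem chi_zero_aux : ∀ k : Multiplicative (ZMod 2), ∀ x : P, x * x = 1 →
    x.1 * (if Perm.sign x.2 = 1 then 1 else k) = 1 → x = 1 ∨ (∃ c : P, c * x * c⁻¹ = W) ∨
    ∃ c : P, c * x * c⁻¹ = A k := by decide +kernel

theorem chi_zero (k : Multiplicative (ZMod 2)) (x : P) (h1 : x * x = 1) (h2 : chi k x = 1) :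
    x = 1 ∨ (∃ c : P, c * x * c⁻¹ = W) ∨ ∃ c : P, c * x * c⁻¹ = A k :=
  chi_zero_aux k x h1 h2

section Fusion

universe u

variable {G : Type u} [Group G] [Finite G]

/-- The data: an embedding of the model onto the centraliser of the image of the direct factor,
such that the image of the standard Sylow subgroup is a Sylow subgroup and equals the centraliser
of the image of the double transposition. -/
structure Data (ι : P →* G) : Prop where
  inj : Function.Injective ι
  range_eq : ∀ g : G, g * ι z0 = ι z0 * g ↔ g ∈ ι.range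
  cent_W : ∀ g : G, g * ι W = ι W * g ↔ ∃ x, D x ∧ ι x = g

variable {ι : P →* G}

omit [Finite G] in
theorem conj_eq_iff (g a b : G) : g * a * g⁻¹ = b ↔ a = g⁻¹ * b * g := by
  constructor <;> rintro rfl <;> group

omit [Finite G] in
/-- An element moving one element to another conjugates the centralisers. -/
theorem comm_conj {g a b v : G} (h : g * a * g⁻¹ = b) (hv : v * a = a * v) :
    (g * v * g⁻¹) * b = b * (g * v * g⁻¹) := by
  subst h
  calc g * v * g⁻¹ * (g * a * g⁻¹) = g * (v * a) * g⁻¹ := by group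
    _ = g * (a * v) * g⁻¹ := by rw [hv]
    _ = g * a * g⁻¹ * (g * v * g⁻¹) := by group

/-- The double transposition is not conjugate to the direct factor. -/
theorem W_not_conj_z0 (h : Data ι) (g : G) : g * ι W * g⁻¹ ≠ ι z0 := by
  intro hg
  have hsub : ∀ x : P, ∃ y : P, D y ∧ ι y = g⁻¹ * ι x * g := by
    intro x
    refine (h.cent_W _).1 ?_
    have := comm_conj (g := g⁻¹) (a := ι z0) (b := ι W) (v := ι x)
      (by rw [conj_eq_iff, inv_inv, hg]) ((h.range_eq _).2 ⟨x, rfl⟩)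
    rwa [inv_inv] at this
  choose f hfD hf using hsub
  have hfi : Function.Injective (fun x => (⟨f x, hfD x⟩ : {y : P // D y})) := by
    intro x y hxy
    have : g⁻¹ * ι x * g = g⁻¹ * ι y * g := by
      rw [← hf x, ← hf y]; exact congrArg ι (congrArg Subtype.val hxy)
    exact h.inj (mul_left_cancel (mul_right_cancel this))
  have := Nat.card_le_card_of_injective _ hfi
  have h16 : Nat.card {y : P // D y} = 16 := by rw [Nat.card_eq_fintype_card]; decide +kernel
  have h48 : Nat.card P = 48 := by rw [Nat.card_eq_fintype_card]; decide +kernel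
  omega

/-- An element normalising the standard Sylow subgroup fixes the image of the double transposition,
hence lies in that subgroup. -/
theorem mem_of_normalizes (h : Data ι) {g : G} (hg : ∀ x, D x → ∃ y, D y ∧ g * ι x * g⁻¹ = ι y) :
    ∃ x, D x ∧ ι x = g := by
  refine (h.cent_W g).1 ?_
  obtain ⟨x, hx, y, hy, hxy⟩ := commutator_W
  obtain ⟨x', hx', ex⟩ := hg x hx
  obtain ⟨y', hy', ey⟩ := hg y hy
  have e : g * ι W * g⁻¹ = ι (x' * y' * x'⁻¹ * y'⁻¹) := by
    rw [← hxy]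
    simp only [map_mul, map_inv, ← ex, ← ey]
    group
  rcases commutator_D x' hx' y' hy' with h1 | h1
  · exfalso
    rw [h1, map_one, conj_eq_one_iff, ← map_one ι] at e
    exact basics.2.2.2.1 (h.inj e)
  · rw [h1, mul_inv_eq_iff_eq_mul] at e
    exact e

/-- The product of the two central involutions is not conjugate to the double transposition. -/
theorem z0W_not_conj_W (h : Data ι) (g : G) : g * ι (z0 * W) * g⁻¹ ≠ ι W := by
  intro hg
  obtain ⟨-, -, -, -, -, hne, hz, -, hzc⟩ := basics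
  have hsub : ∀ x, D x → ∃ y, D y ∧ g * ι x * g⁻¹ = ι y := by
    intro x hx
    obtain ⟨y, hy, e⟩ := (h.cent_W _).1 (comm_conj hg (v := ι x) (by
      rw [← map_mul, ← map_mul]; congr 1
      rw [← mul_assoc, hzc, mul_assoc, W_comm x hx, mul_assoc]))
    exact ⟨y, hy, e.symm⟩
  obtain ⟨y, hy, rfl⟩ := mem_of_normalizes h hsub
  apply hne
  apply h.inj
  rw [← hg, ← map_inv, ← map_mul, ← map_mul]
  congr 1
  rw [eq_mul_inv_iff_mul_eq, ← mul_assoc y, hzc y, mul_assoc z0 y, W_comm y hy, mul_assoc]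

/-- The product of the two central involutions is not conjugate to the direct factor. -/
theorem z0W_not_conj_z0 (h : Data ι) (n : G) : n * ι (z0 * W) * n⁻¹ ≠ ι z0 := by
  intro hn
  obtain ⟨-, hWW, -, hW1, -, -, -, -, hzc⟩ := basics
  have hsub : ∀ y, D y → ∃ y' : P, n * ι y * n⁻¹ = ι y' := by
    intro y hy
    obtain ⟨y', e⟩ := (h.range_eq _).1 (comm_conj hn (v := ι y) (by
      rw [← map_mul, ← map_mul]; congr 1
      rw [← mul_assoc, hzc, mul_assoc, W_comm y hy, mul_assoc]))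
    exact ⟨y', e.symm⟩
  obtain ⟨x, hx, y, hy, hxy⟩ := commutator_W
  obtain ⟨x', ex⟩ := hsub x hx
  obtain ⟨y', ey⟩ := hsub y hy
  have e : n * ι W * n⁻¹ = ι (x' * y' * x'⁻¹ * y'⁻¹) := by
    rw [← hxy]
    simp only [map_mul, map_inv, ← ex, ← ey]
    group
  have h1 : x' * y' * x'⁻¹ * y'⁻¹ ≠ 1 := by
    intro e1
    rw [e1, map_one, conj_eq_one_iff, ← map_one ι] at e
    exact hW1 (h.inj e)
  have h2 : (x' * y' * x'⁻¹ * y'⁻¹) * (x' * y' * x'⁻¹ * y'⁻¹) = 1 := h.inj (by
    rw [map_mul, ← e, map_one]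
    calc n * ι W * n⁻¹ * (n * ι W * n⁻¹) = n * (ι W * ι W) * n⁻¹ := by group
      _ = 1 := by rw [← map_mul, hWW, map_one, mul_one, mul_inv_cancel])
  obtain ⟨c, hc⟩ := commutator_conj x' y' h2 h1
  have hm : (ι c * n) * ι W * (ι c * n)⁻¹ = ι W := by
    calc (ι c * n) * ι W * (ι c * n)⁻¹ = ι c * (n * ι W * n⁻¹) * (ι c)⁻¹ := by group
      _ = _ := by rw [e, ← map_inv, ← map_mul, ← map_mul, hc]
  obtain ⟨d, hd, hdn⟩ := (h.cent_W (ι c * n)).1 (mul_inv_eq_iff_eq_mul.1 hm)
  have h3 : (ι c * n) * ι (z0 * W) * (ι c * n)⁻¹ = ι z0 := by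
    calc (ι c * n) * ι (z0 * W) * (ι c * n)⁻¹ = ι c * (n * ι (z0 * W) * n⁻¹) * (ι c)⁻¹ := by group
      _ = _ := by rw [hn, ← map_inv, ← map_mul, ← map_mul, hzc, mul_inv_cancel_right]
  rw [← hdn, ← map_inv, ← map_mul, ← map_mul] at h3
  have h4 := h.inj h3
  rw [← mul_assoc, hzc, mul_assoc (z0 : P), W_comm d hd, ← mul_assoc, mul_inv_cancel_right] at h4
  exact hW1 (mul_left_cancel (h4.trans (mul_one z0).symm))

/-- The direct factor cannot be fused to transpositions with both first coordinates. -/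
theorem not_both (h : Data ι) {i : Multiplicative (ZMod 2)} {g : G} (hg : g * ι z0 * g⁻¹ = ι (A i))
    (hall : ∀ j, ∃ k : G, k * ι z0 * k⁻¹ = ι (A j)) : False := by
  obtain ⟨hzz, -, hz1, -, -, -, -, hWD, hzc⟩ := basics
  -- the other conjugate lies in the centraliser
  obtain ⟨x, hx⟩ : g⁻¹ * ι z0 * g ∈ ι.range := by
    refine (h.range_eq _).1 ?_
    have := comm_conj (g := g⁻¹) (a := ι (A i)) (b := ι z0) (v := ι z0)
      (by rw [conj_eq_iff, inv_inv, hg]) (by rw [← map_mul, ← map_mul, hzc])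
    rwa [inv_inv] at this
  have hxx : x * x = 1 := h.inj (by
    rw [map_mul, hx, map_one]
    calc g⁻¹ * ι z0 * g * (g⁻¹ * ι z0 * g) = g⁻¹ * (ι z0 * ι z0) * g := by group
      _ = 1 := by rw [← map_mul, hzz, map_one, mul_one, inv_mul_cancel])
  obtain ⟨j, c, hc⟩ : ∃ j, ∃ c : P, c * x * c⁻¹ = A j := by
    rcases involutions x hxx with h1 | h1 | ⟨c, h1⟩ | ⟨c, h1⟩ | h1
    · exfalso
      rw [h1, map_one] at hx
      apply hz1; apply h.inj
      rw [map_one, show ι z0 = g * (g⁻¹ * ι z0 * g) * g⁻¹ by group, ← hx, mul_one, mul_inv_cancel]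
    · exfalso
      rw [h1] at hx
      refine (A_ne i).1 (h.inj ?_)
      rw [← hg]; nth_rewrite 1 [hx]; group
    · exfalso
      refine W_not_conj_z0 h (g * (ι c)⁻¹) ?_
      rw [← h1, map_mul, map_mul, hx, map_inv]; group
    · exfalso
      refine z0W_not_conj_z0 h (g * (ι c)⁻¹) ?_
      rw [← h1, map_mul, map_mul, hx, map_inv]; group
    · exact h1
  set g' := g * (ι c)⁻¹ with hg'
  have h1 : g' * ι z0 * g'⁻¹ = ι (A i) := by
    rw [← hg, hg', mul_inv_rev, inv_inv, ← map_inv]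
    calc g * ι c⁻¹ * ι z0 * (ι c * g⁻¹) = g * (ι c⁻¹ * ι z0 * ι c) * g⁻¹ := by group
      _ = _ := by rw [← map_mul, ← map_mul, hzc c⁻¹, mul_assoc z0, inv_mul_cancel, mul_one]
  have h2 : g'⁻¹ * ι z0 * g' = ι (A j) := by
    rw [← hc, hg', mul_inv_rev, inv_inv, map_mul, map_mul, hx, map_inv]; group
  -- the image of the double transposition
  have hWz : ι W * ι z0 = ι z0 * ι W := by rw [← map_mul, ← map_mul, hzc]
  have hWA : ι W * ι (A i) = ι (A i) * ι W := by rw [← map_mul, ← map_mul, A_comm]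
  have hvA : (g'⁻¹ * ι W * g'⁻¹⁻¹) * ι (A j) = ι (A j) * (g'⁻¹ * ι W * g'⁻¹⁻¹) :=
    comm_conj (by rw [inv_inv, h2]) hWz
  have hvz : (g'⁻¹ * ι W * g'⁻¹⁻¹) * ι z0 = ι z0 * (g'⁻¹ * ι W * g'⁻¹⁻¹) :=
    comm_conj (by rw [conj_eq_iff, inv_inv, h1]) hWA
  obtain ⟨v, hv⟩ := (h.range_eq _).1 hvz
  rw [inv_inv] at hv hvA
  rw [← hv, ← map_mul, ← map_mul] at hvA
  rcases cent_A j v (h.inj hvA) with e | e | e | e | ⟨l, d, e⟩
  · rw [e, map_one] at hv
    apply basics.2.2.2.1; apply h.inj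
    rw [map_one, show ι W = g' * (g'⁻¹ * ι W * g') * g'⁻¹ by group, ← hv, mul_one, mul_inv_cancel]
  · rw [e] at hv
    exact W_not_conj_z0 h g'⁻¹ (by rw [inv_inv, hv])
  · rw [e] at hv
    obtain ⟨y, hy, hyg⟩ := (h.cent_W g').1 (by
      calc g' * ι W = g' * (g'⁻¹ * ι W * g') := by rw [← hv]
        _ = ι W * g' := by group)
    apply (A_ne i).1; apply h.inj
    rw [← h1, ← hyg, ← map_inv, ← map_mul, ← map_mul, hzc, mul_inv_cancel_right]
  · rw [e] at hv
    exact z0W_not_conj_W h g' (by rw [hv]; group)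
  · obtain ⟨k, hk⟩ := hall l
    refine W_not_conj_z0 h (k⁻¹ * ι d * g'⁻¹) ?_
    calc k⁻¹ * ι d * g'⁻¹ * ι W * (k⁻¹ * ι d * g'⁻¹)⁻¹ = k⁻¹ * (ι d * (g'⁻¹ * ι W * g') * (ι d)⁻¹) * k := by
          group
      _ = k⁻¹ * ι (A l) * k := by rw [← hv, ← e, map_mul, map_mul, map_inv]
      _ = ι z0 := by rw [← hk]; group

/-- Some transposition in the centraliser is not fused to the direct factor, and there is a normal
subgroup of index two avoiding the direct factor. -/
theorem exists_index_two (h : Data ι) (hsyl : ∃ T : Sylow 2 G, ∀ g : G, g ∈ (T : Subgroup G) ↔ ∃ x, D x ∧ ι x = g) :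
    ∃ M : Subgroup G, M.Normal ∧ M.index = 2 ∧ ι z0 ∉ M := by
  classical
  obtain ⟨T, hT⟩ := hsyl
  obtain ⟨hzz, hWW, hz1, hW1, hzW1, -, hzD, hWD, hzc⟩ := basics
  obtain ⟨k, hk⟩ : ∃ k, ∀ g : G, g * ι z0 * g⁻¹ ≠ ι (A k) := by
    by_contra hcon
    push_neg at hcon
    obtain ⟨g, hg⟩ := hcon 1
    exact not_both h hg hcon
  let R : Subgroup G := ((chi k).ker.map ι) ⊓ (T : Subgroup G)
  have hzT : ι z0 ∈ (T : Subgroup G) := (hT _).2 ⟨z0, hzD, rfl⟩
  have hzR : ι z0 ∉ R := by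
    rintro ⟨⟨x, hx, hxz⟩, -⟩
    exact chi_z0 k (h.inj hxz ▸ hx)
  have hRi : R.relIndex (T : Subgroup G) = 2 := by
    rw [Subgroup.relIndex, Subgroup.index_eq_two_iff]
    refine ⟨⟨ι z0, hzT⟩, fun g => ?_⟩
    obtain ⟨x, hxD, hx⟩ := (hT _).1 g.2
    have hmem : ∀ y : P, D y → (ι y ∈ R ↔ chi k y = 1) := by
      refine fun y hy => ⟨?_, fun hc => ⟨⟨y, hc, rfl⟩, (hT _).2 ⟨y, hy, rfl⟩⟩⟩
      rintro ⟨⟨y', hy', e⟩, -⟩
      exact h.inj e ▸ hy'
    simp only [Subgroup.mem_subgroupOf, Subgroup.coe_mul]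
    rw [← hx, ← map_mul, hmem _ hxD, hmem _ (by
      show (x * z0).2 * w0 = w0 * (x * z0).2
      rw [Prod.snd_mul, show z0.2 = 1 from rfl, mul_one]; exact hxD), map_mul]
    have h2 : ∀ a : Multiplicative (ZMod 2), ∀ b, b ≠ 1 → Xor (a * b = 1) (a = 1) := by decide +kernel
    exact h2 _ _ (chi_z0 k)
  have ho : orderOf (ι z0) = 2 := orderOf_eq_prime (by rw [sq, ← map_mul, hzz, map_one])
    (fun e => hz1 (h.inj (e.trans (map_one ι).symm)))
  rcases S0111.result T R inf_le_right hRi (ι z0) ho hzT hzR with h1 | ⟨g, hg⟩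
  · exact h1
  · exfalso
    obtain ⟨⟨x, hxk, hx⟩, -⟩ := hg
    have hxx : x * x = 1 := h.inj (by
      rw [map_mul, hx, map_one]
      calc g * ι z0 * g⁻¹ * (g * ι z0 * g⁻¹) = g * (ι z0 * ι z0) * g⁻¹ := by group
        _ = 1 := by rw [← map_mul, hzz, map_one, mul_one, mul_inv_cancel])
    rcases chi_zero k x hxx hxk with e | ⟨c, e⟩ | ⟨c, e⟩
    · rw [e, map_one, eq_comm, conj_eq_one_iff, ← map_one ι] at hx
      exact hz1 (h.inj hx)
    · refine W_not_conj_z0 h (g⁻¹ * (ι c)⁻¹) ?_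
      rw [← e, map_mul, map_mul, hx, map_inv]; group
    · refine hk (ι c * g) ?_
      rw [← e, map_mul, map_mul, hx, map_inv]; group

end Fusion

end Cfsg.Agent.Lib.Involution.TwoSymFour
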