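import Cfsg.Agent.Lib.Involution.SquareChar
import Cfsg.Agent.Lib.Involution.StronglyThree

/-!
# A strongly embedded `Sym 3 × Sym 3` containing an elementary abelian Sylow `3`-subgroup
-/

set_option autoImplicit false

open scoped ComplexConjugate

namespace Cfsg.Agent.Lib.Involution.SThreeSquare

open Cfsg Cfsg.Agent.Lib.Char Cfsg.Agent.Lib.CharTools Subgroup

universe u

/-- The model. -/
abbrev Sq : Type := Equiv.Perm (Fin 3) × Equiv.Perm (Fin 3)

abbrev p1 : Sq := (Equiv.swap 0 1, 1)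
abbrev p2 : Sq := (1, Equiv.swap 0 1)
abbrev pw : Sq := (Equiv.swap 0 1, Equiv.swap 0 1)
abbrev c2 : Sq := (1, Equiv.swap 0 2 * Equiv.swap 0 1 * Equiv.swap 0 2 * Equiv.swap 0 1)

/-- The sign as an integer. -/
abbrev isgn (s : Equiv.Perm (Fin 3)) : ℤ := ((Equiv.Perm.sign s : ℤˣ) : ℤ)

def fA (x : Sq) : ℤ := supportFun x.1
def fB (x : Sq) : ℤ := supportFun x.1 * isgn x.2
def fC (x : Sq) : ℤ := supportFun x.2
/-- The indicator of the involutions moving the first coordinate. -/
def indU (x : Sq) : ℤ := if x * x = 1 ∧ x.1 ≠ 1 then 1 else 0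

theorem classes_one : ∀ a b : Equiv.Perm (Fin 3), a * a = 1 → b * b = 1 → a ≠ 1 →
    ∃ c d : Equiv.Perm (Fin 3), c * Equiv.swap 0 1 * c⁻¹ = a ∧ (b = 1 ∨ d * Equiv.swap 0 1 * d⁻¹ = b) := by
  decide

theorem exists_conj_of_first_ne {x : Sq} (hx : x * x = 1) (h1 : x.1 ≠ 1) :
    IsConj p1 x ∨ IsConj pw x := by
  obtain ⟨c, d, hc, hd⟩ := classes_one x.1 x.2 (congrArg Prod.fst hx) (congrArg Prod.snd hx) h1
  rcases hd with hd | hd
  · exact Or.inl (isConj_iff.mpr ⟨(c, 1), Prod.ext (by simpa [p1] using hc) (by simp [p1, hd])⟩)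
  · exact Or.inr (isConj_iff.mpr ⟨(c, d), Prod.ext (by simpa [pw] using hc) (by simpa [pw] using hd)⟩)

theorem sq_of_three : ∀ a : Equiv.Perm (Fin 3), a ^ 3 = 1 → a ≠ 1 →
    a * a ≠ 1 ∧ Equiv.Perm.sign a = 1 := by decide

theorem sign_square : ∀ a : Equiv.Perm (Fin 3), Equiv.Perm.sign (a * a) = 1 := by decide

theorem fst_three {x : Sq} (h : fA x ≠ 0) : x.1 * x.1 ≠ 1 ∧ Equiv.Perm.sign x.1 = 1 := by
  obtain ⟨h3, h1⟩ := (supportFun_ne_zero x.1).mp h
  exact sq_of_three _ h3 h1

theorem fB_ne {x : Sq} (h : fB x ≠ 0) : fA x ≠ 0 := fun e => h (by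
  simp only [fA] at e; simp [fB, e])

theorem fC_ne {x : Sq} (h : fC x ≠ 0) : x.2 * x.2 ≠ 1 := by
  obtain ⟨h3, h1⟩ := (supportFun_ne_zero x.2).mp h
  exact (sq_of_three _ h3 h1).1

theorem weightA : ∑ x : Sq, ∑ y : Sq, indU x * indU y * fA (x * y) = 288 := by decide +kernel
theorem weightB : ∑ x : Sq, ∑ y : Sq, indU x * indU y * fB (x * y) = 72 := by decide +kernel
theorem weightC : ∑ x : Sq, ∑ y : Sq, indU x * indU y * fC (x * y) = 162 := by decide +kernel
theorem normA : ∑ x : Sq, fA x * fA x = 108 := by decide +kernel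
theorem normB : ∑ x : Sq, fB x * fB x = 108 := by decide +kernel
theorem normC : ∑ x : Sq, fC x * fC x = 108 := by decide +kernel
theorem meanA : ∑ x : Sq, fA x * 1 = 36 := by decide +kernel
theorem meanB : ∑ x : Sq, fB x * 1 = 0 := by decide +kernel
theorem meanC : ∑ x : Sq, fC x * 1 = 36 := by decide +kernel
theorem signA : ∑ x : Sq, fA x * isgn x.1 = 36 := by decide +kernel
theorem crossBC : ∑ x : Sq, fB x * fC x = 36 := by decide +kernel

variable {G : Type u} [Group G] [Finite G] (f : Sq →* G) (hf : Function.Injective f)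
  {T : Subgroup G} (D : PLocalTI 3 f.range T)
  (hT : ∀ x : Sq, f x ∈ T ↔ Equiv.Perm.sign x.1 = 1 ∧ Equiv.Perm.sign x.2 = 1)

include hf D hT

theorem control_sq {x : Sq} (hx : x * x ≠ 1) {g : G} (hg : g * f x * g⁻¹ ∈ f.range) : g ∈ f.range := by
  refine D.control (t := f (x * x)) ((hT _).mpr ⟨sign_square _, sign_square _⟩)
    (fun h => hx (hf (h.trans (map_one f).symm))) ?_
  have : g * f (x * x) * g⁻¹ = g * f x * g⁻¹ * (g * f x * g⁻¹) := by rw [map_mul]; group
  rw [this]
  exact mul_mem hg hg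

theorem mem_of_inverter {x y : G} (hx : x * x = 1) (hy : y * y = 1) {z : Sq} (hz : f z = x * y)
    (hz2 : z * z ≠ 1) : x ∈ f.range ∧ y ∈ f.range := by
  have hm : x ∈ f.range := by
    refine control_sq f hf D hT hz2 ⟨z⁻¹, ?_⟩
    rw [map_inv, hz, mul_inv_rev, inv_eq_of_mul_eq_one_right hx, inv_eq_of_mul_eq_one_right hy]
    calc y * x = x * x * y * x := by rw [hx, one_mul]
      _ = x * (x * y) * x := by group
  refine ⟨hm, ?_⟩
  have : y = x * (x * y) := by rw [← mul_assoc, hx, one_mul]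
  rw [this]
  exact mul_mem hm ⟨z, hz⟩

theorem not_conj : ¬ IsConj (f p1) (f p2) := by
  haveI : Fact (Nat.Prime 3) := ⟨Nat.prime_three⟩
  intro h
  obtain ⟨g, hg⟩ := isConj_iff.mp h
  set C := centralizer ({f p2} : Set G) with hC
  have hb : g * f c2 * g⁻¹ ∈ C := by
    rw [hC, mem_centralizer_singleton_iff, ← hg]
    calc g * f c2 * g⁻¹ * (g * f p1 * g⁻¹) = g * f (c2 * p1) * g⁻¹ := by rw [map_mul]; group
      _ = g * f (p1 * c2) * g⁻¹ := by rw [show c2 * p1 = p1 * c2 by decide]
      _ = g * f p1 * g⁻¹ * (g * f c2 * g⁻¹) := by rw [map_mul]; group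
  let a : Sq := (Equiv.swap 0 1 * Equiv.swap 1 2, 1)
  have ha : f a ∈ C := by
    rw [hC, mem_centralizer_singleton_iff, ← map_mul, ← map_mul, show a * p2 = p2 * a by decide]
  have hp : ∀ {c : G} (hc : c ∈ C), c ^ 3 = 1 → IsPGroup 3 (zpowers (⟨c, hc⟩ : C)) := by
    intro c hc h3 w
    refine ⟨1, Subtype.ext ?_⟩
    obtain ⟨i, hi⟩ := w.2
    rw [pow_one, SubgroupClass.coe_pow, ← hi, OneMemClass.coe_one, ← zpow_natCast, ← zpow_mul, mul_comm,
      zpow_mul, zpow_natCast, show (⟨c, hc⟩ : C) ^ 3 = 1 from Subtype.ext h3, one_zpow]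
  obtain ⟨Q, hQ⟩ := (hp hb (by rw [conj_pow, ← map_pow, show c2 ^ 3 = 1 by decide, map_one]; group)).exists_le_sylow
  obtain ⟨P, hP⟩ := (hp ha (by rw [← map_pow, show a ^ 3 = 1 by decide, map_one])).exists_le_sylow
  obtain ⟨c, hc⟩ := MulAction.exists_smul_eq C Q P
  have hmem : c * (⟨_, hb⟩ : C) * c⁻¹ ∈ (P : Subgroup C) := by
    rw [← hc]
    exact Subgroup.smul_mem_pointwise_smul _ (MulAut.conj c) _ (hQ (mem_zpowers _))
  have haT : f a ∈ T := (hT a).mpr (by decide)
  have hPT : (P : Subgroup C).map C.subtype ≤ T :=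
    D.pgroup_le (P.isPGroup'.map C.subtype) haT (fun h => by
      have := hf (h.trans (map_one f).symm); revert this; decide) ⟨_, hP (mem_zpowers _), rfl⟩
  set w : C := c * (⟨_, hb⟩ : C) * c⁻¹
  have hwT : (w : G) ∈ T := hPT ⟨w, hmem, rfl⟩
  obtain ⟨v, hv⟩ := D.le hwT
  have hcg : (c : G) * g ∈ f.range := by
    refine control_sq f hf D hT (x := c2) (by decide) ⟨v, ?_⟩
    rw [hv]; simp [w, mul_assoc]
  obtain ⟨k, hk⟩ := hcg
  have hv' : v = k * c2 * k⁻¹ := hf (by rw [hv, map_mul, map_mul, map_inv, hk]; simp [w, mul_assoc])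
  have hcomm : v * p2 = p2 * v := hf (by
    rw [map_mul, map_mul, hv]
    exact mem_centralizer_singleton_iff.mp w.2)
  rw [← hv, hT] at hwT
  have e1 : v.1 = 1 := by rw [hv']; simp [c2]
  have e2 : v.2 = 1 := by
    have key : ∀ b : Equiv.Perm (Fin 3), b * Equiv.swap 0 1 = Equiv.swap 0 1 * b →
        Equiv.Perm.sign b = 1 → b = 1 := by decide
    exact key _ (congrArg Prod.snd hcomm) hwT.2
  have : c2 = k⁻¹ * v * k := by rw [hv']; group
  rw [show v = 1 from Prod.ext e1 e2, mul_one, inv_mul_cancel] at this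
  revert this; decide

/-- A linear character extending the sign of the first coordinate. -/
theorem exists_lift (h21 : ¬ IsConj (f p2) (f p1)) (h2w : ¬ IsConj (f p2) (f pw)) :
    ∃ l : G →* ℂˣ, ∀ x : Sq, (l (f x) : ℂ) = (isgn x.1 : ℂ) := by
  classical
  haveI : Fact (Nat.Prime 3) := ⟨Nat.prime_three⟩
  cases nonempty_fintype G
  haveI := Fintype.ofFinite f.range
  let e : Sq ≃* f.range := MonoidHom.ofInjective hf
  let π : f.range →* Equiv.Perm (Fin 3) := (MonoidHom.fst _ _).comp e.symm.toMonoidHom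
  have hval : ∀ x : f.range, (x : G) = f (e.symm x) := fun x => by
    conv_lhs => rw [← e.apply_symm_apply x]
    rfl
  have hsq : ∀ x : f.range, orderOf (π x) = 3 → e.symm x * e.symm x ≠ 1 := by
    intro x hx h
    have h2 := congrArg Prod.fst h
    have := orderOf_dvd_of_pow_eq_one (show π x ^ 2 = 1 by rw [pow_two]; exact h2)
    rw [hx] at this; norm_num at this
  have hu2 : f p2 * f p2 = 1 := by rw [← map_mul, show p2 * p2 = 1 by decide, map_one]
  have hinv : ∀ v : G, IsConj v (f p2) → v * v = 1 := fun v hv => by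
    obtain ⟨g, hg⟩ := isConj_iff.mp hv.symm
    rw [← hg]
    calc g * f p2 * g⁻¹ * (g * f p2 * g⁻¹) = g * (f p2 * f p2) * g⁻¹ := by group
      _ = 1 := by rw [hu2]; group
  have hfirst : ∀ p : Sq, IsConj (f p) (f p2) → p.1 = 1 := by
    intro p hp
    by_contra h1
    have hpp : p * p = 1 := hf (by rw [map_mul, map_one]; exact hinv _ hp)
    rcases exists_conj_of_first_ne hpp h1 with h | h
    · exact h21 ((f.map_isConj h).trans hp).symm
    · exact h2w ((f.map_isConj h).trans hp).symm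
  obtain ⟨l, -, hl⟩ := exists_sign_lift π
    (fun s => ⟨e (s, 1), by simp [π]⟩)
    (fun x hx g hg => control_sq f hf D hT (hsq x hx) (hval x ▸ hg))
    (f p2)
    (fun x hx hc => hsq x hx (hf (by rw [map_mul, map_one, ← hval]; exact hinv _ hc)))
    (fun x y h hx hy h3 => by
      obtain ⟨⟨p, hp⟩, ⟨q, hq⟩⟩ := mem_of_inverter f hf D hT (hinv x hx) (hinv y hy)
        (hval ⟨x * y, h⟩).symm (hsq _ h3)
      subst hp hq
      have : π ⟨f p * f q, h⟩ = p.1 * q.1 := by
        show (e.symm ⟨f p * f q, h⟩).1 = _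
        rw [show (⟨f p * f q, h⟩ : f.range) = e (p * q) from Subtype.ext (map_mul f p q).symm,
          e.symm_apply_apply]; rfl
      rw [this, hfirst p hx, hfirst q hy, mul_one, orderOf_one] at h3
      omega)
    (fun K hK hu => by
      refine D.sup_eq_top (t := f c2) ((hT _).mpr (by decide))
        (fun h => by have := hf (h.trans (map_one f).symm); revert this; decide) ?_
      have : c2 = ((1, Equiv.swap 0 2) : Sq) * p2 * ((1, Equiv.swap 0 2) : Sq)⁻¹ * p2 := by decide
      rw [this, map_mul, map_mul, map_mul, map_inv]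
      exact mul_mem (hK.conj_mem _ hu _) hu)
  refine ⟨l, fun x => ?_⟩
  have := hl (e x)
  rw [show ((e x : f.range) : G) = f x from rfl] at this
  rw [this]
  simp [π]

omit hf D hT in
theorem cast_sum (F : Sq → ℤ) : ∑ x : Sq, (F x : ℂ) = ((∑ x : Sq, F x : ℤ) : ℂ) := by push_cast; rfl

/-- The fused case is impossible. -/
theorem not_fused (h2w : ¬ IsConj (f p2) (f pw)) (h1w : IsConj (f p1) (f pw)) : False := by
  classical
  cases nonempty_fintype G
  haveI := Fintype.ofFinite f.range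
  have h12 := not_conj f hf D hT
  obtain ⟨l, hl⟩ := exists_lift f hf D hT (fun h => h12 h.symm) h2w
  set u := f p1 with hu
  let e : Sq ≃* f.range := MonoidHom.ofInjective hf
  have hval : ∀ x : f.range, (x : G) = f (e.symm x) := fun x => by
    conv_lhs => rw [← e.apply_symm_apply x]
    rfl
  let φ : (Sq → ℤ) → f.range → ℂ := fun F x => (F (e.symm x) : ℂ)
  have hsum : ∀ F : Sq → ℂ, ∑ x : f.range, F (e.symm x) = ∑ x : Sq, F x :=
    fun F => Fintype.sum_equiv e.symm.toEquiv _ _ fun x => rfl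
  have hcard : (Nat.card f.range : ℂ) = 36 := by
    rw [← Nat.card_congr e.toEquiv, Nat.card_eq_fintype_card]
    norm_num [Fintype.card_prod, Fintype.card_perm, Fintype.card_fin, Nat.factorial]
  have hu2 : u * u = 1 := by rw [hu, ← map_mul, show p1 * p1 = 1 by decide, map_one]
  have hinv : ∀ v : G, IsConj v u → v * v = 1 := fun v hv => by
    obtain ⟨g, hg⟩ := isConj_iff.mp hv.symm
    rw [← hg]
    calc g * u * g⁻¹ * (g * u * g⁻¹) = g * (u * u) * g⁻¹ := by group
      _ = 1 := by rw [hu2]; group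
  have hind : ∀ p : Sq, classInd u (f p) = (indU p : ℂ) := by
    intro p
    by_cases hp : p * p = 1 ∧ p.1 ≠ 1
    · rw [indU, if_pos hp, Int.cast_one, classInd_of]
      rcases exists_conj_of_first_ne hp.1 hp.2 with h | h
      · exact (f.map_isConj h).symm
      · exact (f.map_isConj h).symm.trans h1w.symm
    · rw [indU, if_neg hp, Int.cast_zero, classInd_of_not]
      intro hc
      have hpp : p * p = 1 := hf (by rw [map_mul, map_one]; exact hinv _ hc)
      have h1 : p.1 = 1 := by_contra fun h => hp ⟨hpp, h⟩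
      have key : ∀ b : Equiv.Perm (Fin 3), b * b = 1 → b ≠ 1 →
          ∃ d : Equiv.Perm (Fin 3), d * Equiv.swap 0 1 * d⁻¹ = b := by decide
      by_cases h2 : p.2 = 1
      · rw [show p = 1 from Prod.ext h1 h2, map_one, isConj_one_right] at hc
        have := hf (hc.trans (map_one f).symm); revert this; decide
      · obtain ⟨d, hd⟩ := key p.2 (congrArg Prod.snd hpp) h2
        have : IsConj p2 p := isConj_iff.mpr ⟨(1, d), Prod.ext (by simp [p2, h1]) (by simpa [p2] using hd)⟩
        exact h12 ((f.map_isConj this).trans hc).symm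
  -- class functions and their induced functions
  have hcf : ∀ F : Sq → ℤ, (∀ g x, F (g * x * g⁻¹) = F x) → IsClassFunction f.range (φ F) :=
    fun F hF g x => by simp [φ, hF]
  have happ : ∀ F : Sq → ℤ, (∀ g x, F (g * x * g⁻¹) = F x) → ∀ x : f.range, e.symm x * e.symm x ≠ 1 →
      indFun f.range (φ F) (x : G) = φ F x := by
    intro F hF x hx
    have hv : ∀ g : G, extendByZero f.range (φ F) (g⁻¹ * (x : G) * g) =
        if g ∈ f.range then φ F x else 0 := by
      intro g
      by_cases hg : g ∈ f.range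
      · rw [if_pos hg]
        have := extendByZero_conj (hcf F hF) (inv_mem hg) (x : G)
        rw [inv_inv, extendByZero_coe] at this
        exact this
      · rw [if_neg hg, extendByZero_not_mem]
        intro hm
        have := inv_mem (control_sq f hf D hT hx (g := g⁻¹) (by rwa [inv_inv, ← hval]))
        exact hg (by simpa using this)
    simp only [indFun, hv]
    rw [← Finset.sum_filter, Finset.sum_const, nsmul_eq_mul, ← Fintype.card_subtype,
      ← Nat.card_eq_fintype_card, ← mul_assoc]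
    exact (congrArg (· * φ F x) (inv_mul_cancel₀ (card_ne_zero_complex f.range))).trans (one_mul _)
  have hzero : ∀ F : Sq → ℤ, (∀ x, F x ≠ 0 → x * x ≠ 1) → ∀ v : G, v * v = 1 →
      indFun f.range (φ F) v = 0 := by
    intro F hF v hv
    refine indFun_apply_eq_zero v fun x hx hc => hF (e.symm x) (by simpa [φ] using hx) (hf ?_)
    obtain ⟨g, hg⟩ := isConj_iff.mp hc.symm
    rw [map_mul, map_one, ← hval, ← hg]
    calc g * v * g⁻¹ * (g * v * g⁻¹) = g * (v * v) * g⁻¹ := by group
      _ = 1 := by rw [hv]; group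
  have hpair : ∀ F F' : Sq → ℤ, (∀ g x, F' (g * x * g⁻¹) = F' x) → (∀ x, F x ≠ 0 → x * x ≠ 1) →
      classInner (indFun f.range (φ F)) (indFun f.range (φ F')) =
        (36 : ℂ)⁻¹ * ((∑ x : Sq, F x * F' x : ℤ) : ℂ) := by
    intro F F' hF' hF
    rw [classInner_indFun _ _ (isClassFunction_indFun _ _)]
    simp only [classInner, hcard]
    congr 1
    rw [← cast_sum, ← hsum]
    refine Finset.sum_congr rfl fun x _ => ?_
    by_cases h0 : F (e.symm x) = 0
    · simp [φ, h0]
    · rw [happ F' hF' x (hF _ h0)]; simp [φ]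
  have hlin : ∀ (F : Sq → ℤ) (χ : G → ℂ) (F' : Sq → ℤ), IsClassFunction G χ →
      (∀ x, χ (f x) = (F' x : ℂ)) →
      classInner (indFun f.range (φ F)) χ = (36 : ℂ)⁻¹ * ((∑ x : Sq, F x * F' x : ℤ) : ℂ) := by
    intro F χ F' hχ hv
    rw [classInner_indFun _ _ hχ]
    simp only [classInner, hcard]
    congr 1
    rw [← cast_sum, ← hsum]
    refine Finset.sum_congr rfl fun x _ => ?_
    rw [show χ (x : G) = _ from (congrArg χ (hval x)).trans (hv _)]
    simp [φ]
  have hweight : ∀ F : Sq → ℤ, (∀ x, F x ≠ 0 → x * x ≠ 1) →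
      pairWeight u (indFun f.range (φ F)) = (Nat.card G : ℂ) / 36 *
        ((∑ x : Sq, ∑ y : Sq, indU x * indU y * F (x * y) : ℤ) : ℂ) := by
    intro F hF
    set E := extendByZero f.range (φ F) with hE
    have step : pairWeight u (indFun f.range (φ F)) = (36 : ℂ)⁻¹ *
        ∑ z : G, ∑ x : G, ∑ y : G, classInd u x * classInd u y * E (z⁻¹ * (x * y) * z) := by
      simp only [pairWeight, indFun, hcard, Finset.mul_sum]
      conv_rhs => rw [Finset.sum_comm]
      refine Finset.sum_congr rfl fun x _ => ?_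
      conv_rhs => rw [Finset.sum_comm]
      refine Finset.sum_congr rfl fun y _ => Finset.sum_congr rfl fun z _ => ?_
      rw [hE]; ring
    have step2 : ∀ z : G, ∑ x : G, ∑ y : G, classInd u x * classInd u y * E (z⁻¹ * (x * y) * z) =
        ∑ x : G, ∑ y : G, classInd u x * classInd u y * E (x * y) := by
      intro z
      refine Fintype.sum_equiv (MulAut.conj z⁻¹).toEquiv _ _ fun x =>
        Fintype.sum_equiv (MulAut.conj z⁻¹).toEquiv _ _ fun y => ?_
      simp only [MulEquiv.toEquiv_eq_coe, MulEquiv.coe_toEquiv, MulAut.conj_apply, classInd_conj]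
      congr 2; group
    have step3 : ∑ x : G, ∑ y : G, classInd u x * classInd u y * E (x * y) =
        ((∑ x : Sq, ∑ y : Sq, indU x * indU y * F (x * y) : ℤ) : ℂ) := by
      have hmem : ∀ x y : G, classInd u x * classInd u y * E (x * y) ≠ 0 → x ∈ f.range ∧ y ∈ f.range := by
        intro x y hne
        simp only [ne_eq, mul_eq_zero, not_or] at hne
        have hx : IsConj x u := by_contra fun h => hne.1.1 (classInd_of_not h)
        have hy : IsConj y u := by_contra fun h => hne.1.2 (classInd_of_not h)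
        by_cases hm : x * y ∈ f.range
        · rw [hE, extendByZero_mem _ _ hm] at hne
          exact mem_of_inverter f hf D hT (hinv x hx) (hinv y hy) (hval ⟨x * y, hm⟩).symm
            (hF _ (by simpa [φ] using hne.2))
        · exact absurd (extendByZero_not_mem _ _ hm) hne.2
      push_cast
      symm
      refine Fintype.sum_of_injective f hf _ _ (fun x hx => ?_) fun p => ?_
      · exact Finset.sum_eq_zero fun y _ => by_contra fun h => hx (hmem x y h).1
      · refine Fintype.sum_of_injective f hf _ _ (fun y hy => ?_) fun q => ?_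
        · exact by_contra fun h => hy (hmem _ y h).2
        · rw [hind, hind, hE, ← map_mul, show f (p * q) = ((e (p * q) : f.range) : G) from rfl,
            extendByZero_coe]
          simp [φ]
    rw [step, Finset.sum_congr rfl (fun z _ => step2 z), step3, Finset.sum_const, Finset.card_univ,
      nsmul_eq_mul, ← Nat.card_eq_fintype_card]
    ring
  have hconj : ∀ (s a : Equiv.Perm (Fin 3)), supportFun (s * a * s⁻¹) = supportFun a ∧
      isgn (s * a * s⁻¹) = isgn a := by decide +kernel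
  have hAc : ∀ g x, fA (g * x * g⁻¹) = fA x := fun g x => (hconj g.1 x.1).1
  have hBc : ∀ g x, fB (g * x * g⁻¹) = fB x := fun g x => by
    simp only [fB, Prod.fst_mul, Prod.snd_mul, Prod.fst_inv, Prod.snd_inv, (hconj g.1 x.1).1, (hconj g.2 x.2).2]
  have hCc : ∀ g x, fC (g * x * g⁻¹) = fC x := fun g x => (hconj g.2 x.2).1
  have sA : ∀ x, fA x ≠ 0 → x * x ≠ 1 := fun x h h' => (fst_three h).1 (congrArg Prod.fst h')
  have sB : ∀ x, fB x ≠ 0 → x * x ≠ 1 := fun x h => sA x (fB_ne h)
  have sC : ∀ x, fC x ≠ 0 → x * x ≠ 1 := fun x h h' => fC_ne h (congrArg Prod.snd h')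
  -- generalized characters
  let lS : Equiv.Perm (Fin 3) →* ℂˣ := (Units.map (Int.castRingHom ℂ).toMonoidHom).comp Equiv.Perm.sign
  let π₁ : f.range →* Equiv.Perm (Fin 3) := (MonoidHom.fst _ _).comp e.symm.toMonoidHom
  let π₂ : f.range →* Equiv.Perm (Fin 3) := (MonoidHom.snd _ _).comp e.symm.toMonoidHom
  have hlc : ∀ π : f.range →* Equiv.Perm (Fin 3), IsCharacter f.range (fun x => ((lS.comp π) x : ℂ)) :=
    fun π => isCharacter_of_isIrr (isIrrCharacter_linear _)
  have hfp : ∀ π : f.range →* Equiv.Perm (Fin 3),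
      IsCharacter f.range (fun x => (CharSmallPerm.fp (Fin 3) (π x) : ℂ)) := fun π =>
    isCharacter_comp (CharSmallPerm.isCharacter_fp (G := Equiv.Perm (Fin 3)) (α := Fin 3)) π
  have gind : ∀ F : Sq → ℤ, (∃ P Q : f.range → ℂ, IsCharacter f.range P ∧ IsCharacter f.range Q ∧
      φ F = P - Q) → IsGeneralizedCharacter G (indFun f.range (φ F)) := by
    rintro F ⟨P, Q, hP, hQ, h⟩
    exact ⟨_, _, isCharacter_indFun _ hP, isCharacter_indFun _ hQ, by rw [h, indFun_sub]⟩
  have gA := gind fA ⟨_, _, isCharacter_add (isCharacter_add isCharacter_one isCharacter_one) (hlc π₁),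
    hfp π₁, funext fun x => by simp [φ, fA, supportFun, lS, π₁]; ring⟩
  have gC := gind fC ⟨_, _, isCharacter_add (isCharacter_add isCharacter_one isCharacter_one) (hlc π₂),
    hfp π₂, funext fun x => by simp [φ, fC, supportFun, lS, π₂]; ring⟩
  have gB := gind fB ⟨_, _, isCharacter_add (isCharacter_add (hlc π₂) (hlc π₂))
    (isCharacter_mul (hlc π₁) (hlc π₂)), isCharacter_mul (hfp π₁) (hlc π₂),
    funext fun x => by simp [φ, fB, supportFun, lS, π₁, π₂, isgn]; ring⟩
  refine square_contradiction l u hu2 (by rw [hu, hl]; norm_num [p1, isgn])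
    gA (hzero fA sA 1 (one_mul 1)) (hzero fA sA u hu2) ?_ ?_ ?_
    gB (hzero fB sB 1 (one_mul 1)) (hzero fB sB u hu2) ?_ ?_ ?_
    gC (hzero fC sC 1 (one_mul 1)) (hzero fC sC u hu2) ?_ ?_ ?_ ?_ ?_ ?_
  · rw [hpair fA fA hAc sA, normA]; norm_num
  · rw [hlin fA _ (fun _ => 1) (fun _ _ => rfl) (fun _ => by simp), meanA]; norm_num
  · rw [hlin fA _ (fun x => isgn x.1)
      (isClassFunction_of_isIrr (isIrrCharacter_linear l)) hl, signA]; norm_num
  · rw [hpair fB fB hBc sB, normB]; norm_num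
  · rw [hlin fB _ (fun _ => 1) (fun _ _ => rfl) (fun _ => by simp), meanB]; norm_num
  · intro g
    simp only [indFun, Finset.mul_sum]
    refine Finset.sum_congr rfl fun z _ => ?_
    by_cases hm : z⁻¹ * g * z ∈ f.range
    · rw [extendByZero_mem _ _ hm]
      by_cases h0 : φ fB ⟨_, hm⟩ = 0
      · rw [h0]; simp
      · have h1 := (fst_three (fB_ne (by simpa [φ] using h0 : fB (e.symm ⟨_, hm⟩) ≠ 0))).2
        have h2 : (l g : ℂ) = 1 := by
          have := hl (e.symm ⟨_, hm⟩)
          rw [← hval, map_mul, map_mul, map_inv, mul_comm ((l z)⁻¹) (l g), inv_mul_cancel_right] at this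
          rw [this]; simp [isgn, h1]
        rw [h2, one_mul]
    · rw [extendByZero_not_mem _ _ hm]; simp
  · rw [hpair fC fC hCc sC, normC]; norm_num
  · rw [hlin fC _ (fun _ => 1) (fun _ _ => rfl) (fun _ => by simp), meanC]; norm_num
  · rw [hpair fB fC hCc sB, crossBC]; norm_num
  · rw [hweight fA sA, weightA]; push_cast; ring
  · rw [hweight fB sB, weightB]; push_cast; ring
  · rw [hweight fC sC, weightC]; push_cast; ring

omit hf D hT in
theorem swap_apply (x : Sq) :
    (f.comp (MulEquiv.prodComm : Sq ≃* Sq).toMonoidHom) x = f (x.2, x.1) := rfl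

theorem range_eq_top_of (h2w : ¬ IsConj (f p2) (f pw)) : f.range = ⊤ := by
  classical
  haveI : Fact (Nat.Prime 3) := ⟨Nat.prime_three⟩
  have h12 := not_conj f hf D hT
  by_cases h1w : IsConj (f p1) (f pw)
  · exact (not_fused f hf D hT h2w h1w).elim
  set f' := f.comp (MulEquiv.prodComm : Sq ≃* Sq).toMonoidHom with hf'
  have hr : f'.range = f.range := by
    rw [hf', MonoidHom.range_comp, MonoidHom.range_eq_top.mpr
      (show Function.Surjective (MulEquiv.prodComm : Sq ≃* Sq).toMonoidHom from MulEquiv.surjective _),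
      ← MonoidHom.range_eq_map]
  obtain ⟨l, hl⟩ := exists_lift f hf D hT (fun h => h12 h.symm) h2w
  obtain ⟨l', hl'⟩ := exists_lift f' (hf.comp (MulEquiv.injective _)) (hr.symm ▸ D)
    (fun x => by rw [hf', swap_apply, hT]; exact and_comm) h12 h1w
  refine D.eq_top_of_kernel (K := l.ker ⊓ l'.ker) ?_ ?_
  · intro hc
    obtain ⟨g, hg⟩ := hc.exists_generator
    obtain ⟨v, hv⟩ := D.le g.2
    have key : ∀ v : Sq, (∀ n : ℕ, n < 3 → v ^ n ≠ ((Equiv.swap 0 1 * Equiv.swap 1 2, 1) : Sq)) ∨
        (∀ n : ℕ, n < 3 → v ^ n ≠ c2) ∨ v ^ 3 ≠ 1 := by decide +kernel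
    have hsign : ∀ a : Equiv.Perm (Fin 3), Equiv.Perm.sign a = 1 → a ^ 3 = 1 := by decide
    have hgT := g.2
    rw [← hv, hT] at hgT
    have h3 : v ^ 3 = 1 := Prod.ext (hsign _ hgT.1) (hsign _ hgT.2)
    have hgen : ∀ w : Sq, f w ∈ T → ∃ n : ℕ, n < 3 ∧ v ^ n = w := by
      intro w hw
      obtain ⟨i, hi⟩ := hg ⟨f w, hw⟩
      have hi' : v ^ i = w := hf (by
        have := congrArg Subtype.val hi
        rw [map_zpow, hv]; simpa using this)
      refine ⟨(i % 3).toNat, by omega, ?_⟩
      rw [← hi', ← zpow_natCast, Int.toNat_of_nonneg (Int.emod_nonneg _ (by norm_num)),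
        zpow_eq_zpow_emod i (n := 3) (by exact_mod_cast h3)]
    rcases key v with h | h | h
    · obtain ⟨n, hn, e⟩ := hgen _ ((hT (Equiv.swap 0 1 * Equiv.swap 1 2, 1)).mpr (by decide))
      exact h n hn e
    · obtain ⟨n, hn, e⟩ := hgen c2 ((hT c2).mpr (by decide))
      exact h n hn e
    · exact h h3
  · ext g
    simp only [mem_inf, MonoidHom.mem_ker]
    constructor
    · rintro ⟨⟨h1, h2⟩, x, rfl⟩
      have e1 := hl x; rw [h1] at e1
      have e2 := hl' (x.2, x.1); rw [hf', swap_apply] at e2; rw [show (((x.2, x.1) : Sq).2, ((x.2, x.1) : Sq).1) = x from rfl, h2] at e2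
      refine (hT x).mpr ⟨Units.ext ?_, Units.ext ?_⟩ <;> rw [Units.val_one]
      · exact_mod_cast (by simpa [isgn] using e1.symm : (((Equiv.Perm.sign x.1 : ℤˣ) : ℤ) : ℂ) = 1)
      · exact_mod_cast (by simpa [isgn] using e2.symm : (((Equiv.Perm.sign x.2 : ℤˣ) : ℤ) : ℂ) = 1)
    · intro hg
      obtain ⟨x, rfl⟩ := D.le hg
      obtain ⟨s1, s2⟩ := (hT x).mp hg
      refine ⟨⟨Units.ext ?_, Units.ext ?_⟩, x, rfl⟩
      · rw [hl]; simp [isgn, s1]
      · have := hl' (x.2, x.1)
        rw [hf', swap_apply] at this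
        rw [this]; simp [isgn, s2]

/-- The main theorem. -/
theorem range_eq_top : f.range = ⊤ := by
  classical
  by_cases h2w : IsConj (f p2) (f pw)
  · set f' := f.comp (MulEquiv.prodComm : Sq ≃* Sq).toMonoidHom with hf'
    have hr : f'.range = f.range := by
      rw [hf', MonoidHom.range_comp, MonoidHom.range_eq_top.mpr
        (show Function.Surjective (MulEquiv.prodComm : Sq ≃* Sq).toMonoidHom from MulEquiv.surjective _),
        ← MonoidHom.range_eq_map]
    rw [← hr]
    exact range_eq_top_of f' (hf.comp (MulEquiv.injective _)) (hr.symm ▸ D)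
      (fun x => by rw [hf', swap_apply, hT]; exact and_comm)
      (fun h => not_conj f hf D hT (h.trans h2w.symm))
  · exact range_eq_top_of f hf D hT h2w

end Cfsg.Agent.Lib.Involution.SThreeSquare
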