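import Mathlib.Algebra.BigOperators.Group.Finset.Basic
import Mathlib.Algebra.Order.BigOperators.Group.Finset
import Mathlib.Algebra.BigOperators.Ring.Finset
import Mathlib.Data.Real.Basic
import Mathlib.Tactic

/-!
# Integer vectors with prescribed quadratic forms: the degree arithmetic for the self-centralizing `3²` with automizer `D₈`

Four integer vectors on the irreducible characters, with prescribed quadratic forms in two
class sums, force a character of degree one.
-/

set_option autoImplicit false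

namespace Cfsg.Agent.Lib.Involution.Nine

universe u

variable {ι : Type u} [Fintype ι]

/-- The weighted bilinear form. -/
noncomputable def form (d : ι → ℕ) (z : ι → ℤ) (F H : ι → ℝ) : ℝ := ∑ i, (z i : ℝ) * (F i * H i / d i)

/-- An integer vector with linear relations and prescribed Gram matrix. -/
structure Vec (d : ι → ℕ) (υ π : ι → ℝ) (z : ι → ℤ) (g11 g12 g22 : ℝ) : Prop where
  deg : ∑ i, (z i : ℝ) * d i = 0
  sumU : ∑ i, (z i : ℝ) * υ i = 0
  sumP : ∑ i, (z i : ℝ) * π i = 0
  gram11 : form d z υ υ = g11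
  gram12 : form d z υ π = g12
  gram22 : form d z π π = g22

variable {d : ι → ℕ} {υ π : ι → ℝ}

theorem Vec.add {z w : ι → ℤ} {a b c a' b' c' : ℝ} (h : Vec d υ π z a b c) (h' : Vec d υ π w a' b' c') :
    Vec d υ π (z + w) (a + a') (b + b') (c + c') := by
  have e : ∀ F : ι → ℝ, ∑ i, ((z + w) i : ℝ) * F i = ∑ i, (z i : ℝ) * F i + ∑ i, (w i : ℝ) * F i := fun F => by
    rw [← Finset.sum_add_distrib]
    exact Finset.sum_congr rfl fun i _ => by simp only [Pi.add_apply, Int.cast_add]; ring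
  exact ⟨by rw [e, h.deg, h'.deg, add_zero], by rw [e, h.sumU, h'.sumU, add_zero],
    by rw [e, h.sumP, h'.sumP, add_zero],
    by rw [← h.gram11, ← h'.gram11]; exact e fun i => υ i * υ i / d i,
    by rw [← h.gram12, ← h'.gram12]; exact e fun i => υ i * π i / d i,
    by rw [← h.gram22, ← h'.gram22]; exact e fun i => π i * π i / d i⟩

theorem Vec.neg {z : ι → ℤ} {a b c : ℝ} (h : Vec d υ π z a b c) :
    Vec d υ π (-z) (-a) (-b) (-c) := by
  have e : ∀ F : ι → ℝ, ∑ i, ((-z) i : ℝ) * F i = -∑ i, (z i : ℝ) * F i := fun F => by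
    rw [← Finset.sum_neg_distrib]
    exact Finset.sum_congr rfl fun i _ => by simp only [Pi.neg_apply, Int.cast_neg]; ring
  exact ⟨by rw [e, h.deg, neg_zero], by rw [e, h.sumU, neg_zero], by rw [e, h.sumP, neg_zero],
    by rw [← h.gram11]; exact e fun i => υ i * υ i / d i,
    by rw [← h.gram12]; exact e fun i => υ i * π i / d i,
    by rw [← h.gram22]; exact e fun i => π i * π i / d i⟩

/-- Shifting the two class sums by multiples of the degree changes nothing. -/
theorem Vec.shift (hd : ∀ i, 0 < d i) {z : ι → ℤ} {a b c : ℝ} (h : Vec d υ π z a b c) (ρ σ : ℝ) :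
    Vec d (fun i => υ i - ρ * d i) (fun i => π i - σ * d i) z a b c := by
  have e : ∀ (F : ι → ℝ) (r : ℝ), ∑ i, (z i : ℝ) * (F i - r * d i) = ∑ i, (z i : ℝ) * F i := fun F r => by
    have : r * ∑ i, (z i : ℝ) * d i = 0 := by rw [h.deg, mul_zero]
    rw [Finset.mul_sum] at this
    rw [← sub_zero (∑ i, (z i : ℝ) * F i), ← this, ← Finset.sum_sub_distrib]
    exact Finset.sum_congr rfl fun i _ => by ring
  have q : ∀ (F H : ι → ℝ) (r s : ℝ), ∑ i, (z i : ℝ) * F i = 0 → ∑ i, (z i : ℝ) * H i = 0 →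
      form d z (fun i => F i - r * d i) (fun i => H i - s * d i) = form d z F H := by
    intro F H r s hF hH
    have h1 : r * ∑ i, (z i : ℝ) * H i = 0 := by rw [hH, mul_zero]
    have h2 : s * ∑ i, (z i : ℝ) * F i = 0 := by rw [hF, mul_zero]
    have h3 : r * s * ∑ i, (z i : ℝ) * d i = 0 := by rw [h.deg, mul_zero]
    rw [Finset.mul_sum] at h1 h2 h3
    have key : form d z (fun i => F i - r * d i) (fun i => H i - s * d i) =
        form d z F H - ∑ i, r * ((z i : ℝ) * H i) - ∑ i, s * ((z i : ℝ) * F i) + ∑ i, r * s * ((z i : ℝ) * d i) := by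
      simp only [form, ← Finset.sum_sub_distrib, ← Finset.sum_add_distrib]
      refine Finset.sum_congr rfl fun i _ => ?_
      have : (d i : ℝ) ≠ 0 := Nat.cast_ne_zero.mpr (hd i).ne'
      field_simp
      ring
    rw [key, h1, h2, h3]; ring
  exact ⟨h.deg, by rw [e]; exact h.sumU, by rw [e]; exact h.sumP,
    by rw [q _ _ _ _ h.sumU h.sumU]; exact h.gram11, by rw [q _ _ _ _ h.sumU h.sumP]; exact h.gram12,
    by rw [q _ _ _ _ h.sumP h.sumP]; exact h.gram22⟩

variable (hd : ∀ i, 0 < d i)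
include hd

/-- A definite form needs three positive coefficients. -/
theorem exists_third_pos {z : ι → ℤ} {a b c : ℝ} (h : Vec d υ π z a b c) (ha : 0 < a)
    (hdet : b * b < a * c) (X Y : ι) : ∃ i, i ≠ X ∧ i ≠ Y ∧ 0 < z i := by
  by_contra hc
  push Not at hc
  obtain ⟨s, t, r, hst, hX, hY⟩ : ∃ s t r : ℝ, (s ≠ 0 ∨ t ≠ 0) ∧
      s * υ X + t * π X + r * d X = 0 ∧ s * υ Y + t * π Y + r * d Y = 0 := by
    by_cases hs : π X * d Y - π Y * d X ≠ 0 ∨ υ Y * d X - υ X * d Y ≠ 0
    · exact ⟨_, _, υ X * π Y - υ Y * π X, hs, by ring, by ring⟩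
    · push Not at hs
      have hX0 : (d X : ℝ) ≠ 0 := Nat.cast_ne_zero.mpr (hd X).ne'
      refine ⟨1, 0, -(υ X / d X), Or.inl one_ne_zero, by field_simp; ring, ?_⟩
      field_simp
      linear_combination hs.2
  have hpos : 0 < s * s * a + 2 * s * t * b + t * t * c := by
    have h1 : a * (s * s * a + 2 * s * t * b + t * t * c) = (s * a + t * b) ^ 2 + t ^ 2 * (a * c - b * b) := by ring
    by_contra hn
    push Not at hn
    have h2 : (s * a + t * b) ^ 2 + t ^ 2 * (a * c - b * b) ≤ 0 :=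
      h1 ▸ mul_nonpos_of_nonneg_of_nonpos ha.le hn
    have h4 : t ^ 2 * (a * c - b * b) ≤ 0 := le_trans (le_add_of_nonneg_left (sq_nonneg _)) h2
    have ht : t = 0 := by
      by_contra ht
      exact absurd h4 (not_le.mpr (mul_pos (pow_two_pos_of_ne_zero ht) (by linarith)))
    subst ht
    have h5 : (s * a) ^ 2 ≤ 0 := by simpa using h2
    have : s * a = 0 := by nlinarith [sq_nonneg (s * a)]
    rcases hst with hs | hs
    · exact hs ((mul_eq_zero.mp this).resolve_right ha.ne')
    · exact hs rfl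
  have hval : form d z (fun i => s * υ i + t * π i + r * d i) (fun i => s * υ i + t * π i + r * d i) =
      s * s * a + 2 * s * t * b + t * t * c := by
    have key : form d z (fun i => s * υ i + t * π i + r * d i) (fun i => s * υ i + t * π i + r * d i) =
        s * s * form d z υ υ + 2 * s * t * form d z υ π + t * t * form d z π π +
          2 * r * s * ∑ i, (z i : ℝ) * υ i + 2 * r * t * ∑ i, (z i : ℝ) * π i +
          r * r * ∑ i, (z i : ℝ) * d i := by
      simp only [form, Finset.mul_sum, ← Finset.sum_add_distrib]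
      refine Finset.sum_congr rfl fun i _ => ?_
      have : (d i : ℝ) ≠ 0 := Nat.cast_ne_zero.mpr (hd i).ne'
      field_simp
      ring
    rw [key, h.gram11, h.gram12, h.gram22, h.sumU, h.sumP, h.deg]; ring
  have hle : form d z (fun i => s * υ i + t * π i + r * d i) (fun i => s * υ i + t * π i + r * d i) ≤ 0 := by
    refine Finset.sum_nonpos fun i _ => ?_
    by_cases hiX : i = X
    · subst hiX; simp [hX]
    by_cases hiY : i = Y
    · subst hiY; simp [hY]
    exact mul_nonpos_of_nonpos_of_nonneg (by exact_mod_cast hc i hiX hiY)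
      (div_nonneg (mul_self_nonneg _) (Nat.cast_nonneg _))
  linarith

/-- Vectors of norm at most six with a definite form have small entries. -/
theorem small_entries {z : ι → ℤ} {a b c : ℝ} (h : Vec d υ π z a b c) (ha : 0 < a)
    (hdet : b * b < a * c) (hn : ∑ i, z i * z i ≤ 6) (i : ι) : z i = -1 ∨ z i = 0 ∨ z i = 1 := by
  classical
  obtain ⟨P1, -, -, h1⟩ := exists_third_pos hd h ha hdet i i
  obtain ⟨P2, h21, -, h2⟩ := exists_third_pos hd h ha hdet P1 P1
  obtain ⟨P3, h31, h32, h3⟩ := exists_third_pos hd h ha hdet P1 P2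
  obtain ⟨N, hN⟩ : ∃ N, z N < 0 := by
    by_contra hc
    push Not at hc
    have := h.deg
    have hp : 0 < ∑ j, (z j : ℝ) * d j := Finset.sum_pos'
      (fun j _ => mul_nonneg (by exact_mod_cast hc j) (Nat.cast_nonneg _))
      ⟨P1, Finset.mem_univ _, mul_pos (by exact_mod_cast h1) (by exact_mod_cast hd P1)⟩
    linarith
  have e1 : N ≠ P1 := fun e => by subst e; omega
  have e2 : N ≠ P2 := fun e => by subst e; omega
  have e3 : N ≠ P3 := fun e => by subst e; omega
  have hsq : ∀ j, z j ≠ 0 → 1 ≤ z j * z j := fun j hj => by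
    have := mul_self_pos.mpr hj; omega
  by_contra hz
  push Not at hz
  have h4 : 4 ≤ z i * z i := by
    rcases (show z i ≤ -2 ∨ 2 ≤ z i by omega) with h' | h' <;> nlinarith
  have hsub : ∀ T : Finset ι, ∑ j ∈ T, z j * z j ≤ 6 := fun T =>
    le_trans (Finset.sum_le_sum_of_subset_of_nonneg (Finset.subset_univ T) fun j _ _ => mul_self_nonneg _) hn
  have k1 := hsq P1 h1.ne'
  have k2 := hsq P2 h2.ne'
  have k3 := hsq P3 h3.ne'
  have k4 := hsq N hN.ne
  by_cases hi : i = P1 ∨ i = P2 ∨ i = P3 ∨ i = N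
  · have := hsub {P1, P2, P3, N}
    rw [Finset.sum_insert (by simp [h21.symm, h31.symm, e1.symm]),
      Finset.sum_insert (by simp [h32.symm, e2.symm]), Finset.sum_pair e3.symm] at this
    rcases hi with rfl | rfl | rfl | rfl <;> omega
  · push Not at hi
    have := hsub {i, P1, P2, P3, N}
    rw [Finset.sum_insert (by simp [hi.1, hi.2.1, hi.2.2.1, hi.2.2.2]),
      Finset.sum_insert (by simp [h21.symm, h31.symm, e1.symm]),
      Finset.sum_insert (by simp [h32.symm, e2.symm]), Finset.sum_pair e3.symm] at this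
    omega

omit hd in
theorem exists_other {z w : ι → ℤ} {k : ℤ} (h : ∑ i, z i * w i = k) (W : ι)
    (hk : z W * w W < k) : ∃ i, i ≠ W ∧ 0 < z i * w i := by
  classical
  by_contra hc
  push Not at hc
  have := Finset.add_sum_erase (Finset.univ) (fun i => z i * w i) (Finset.mem_univ W)
  have h2 : ∑ i ∈ Finset.univ.erase W, z i * w i ≤ 0 :=
    Finset.sum_nonpos fun i hi => hc i (Finset.ne_of_mem_erase hi)
  omega

omit hd in
/-- Sums against a vector of norm four with four known non-zero entries. -/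
theorem sum_four {z : ι → ℤ} (hn : ∑ i, z i * z i = 4) {p q r s : ι} (hpq : p ≠ q) (hpr : p ≠ r)
    (hps : p ≠ s) (hqr : q ≠ r) (hqs : q ≠ s) (hrs : r ≠ s)
    (hp : z p ≠ 0) (hq : z q ≠ 0) (hr : z r ≠ 0) (hs : z s ≠ 0) :
    ∀ i, i ≠ p → i ≠ q → i ≠ r → i ≠ s → z i = 0 := by
  classical
  intro i h1 h2 h3 h4
  by_contra hi
  have hsq : ∀ j, z j ≠ 0 → 1 ≤ z j * z j := fun j hj => by
    have := mul_self_pos.mpr hj; omega
  have h5 : ∑ j ∈ ({i, p, q, r, s} : Finset ι), z j * z j ≤ 4 :=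
    hn ▸ Finset.sum_le_sum_of_subset_of_nonneg (Finset.subset_univ _) fun j _ _ => mul_self_nonneg _
  rw [Finset.sum_insert (by simp [h1, h2, h3, h4]), Finset.sum_insert (by simp [hpq, hpr, hps]),
    Finset.sum_insert (by simp [hqr, hqs]), Finset.sum_pair hrs] at h5
  have := hsq i hi; have := hsq p hp; have := hsq q hq; have := hsq r hr; have := hsq s hs
  omega

/-- The quadratic identities at the constituents of a vector of norm four. -/
theorem vertex {z : ι → ℤ} {a b c : ℝ} (h : Vec d υ π z a b c) (ha : 0 < a) (hdet : b * b < a * c)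
    (hn : ∑ i, z i * z i = 4) {W x : ι} (hWx : W ≠ x) (hW : z W ≠ 0) (hx : z x ≠ 0)
    (hυW : υ W = 0) (hπW : π W = 0) :
    (z x : ℝ) * d x + (z W : ℝ) * d W ≠ 0 ∧
    (z W : ℝ) * d W * (c * ((z x : ℝ) * υ x) ^ 2 - 2 * b * ((z x : ℝ) * υ x) * ((z x : ℝ) * π x) +
        a * ((z x : ℝ) * π x) ^ 2) =
      (z x : ℝ) * d x * ((z x : ℝ) * d x + (z W : ℝ) * d W) * (a * c - b * b) ∧
    ∀ y, y ≠ W → y ≠ x → z y ≠ 0 →
      (z W : ℝ) * d W * (c * (((z x : ℝ) * υ x) * ((z y : ℝ) * υ y)) -
          b * (((z x : ℝ) * υ x) * ((z y : ℝ) * π y) + ((z x : ℝ) * π x) * ((z y : ℝ) * υ y)) +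
          a * (((z x : ℝ) * π x) * ((z y : ℝ) * π y))) =
        (z x : ℝ) * d x * ((z y : ℝ) * d y) * (a * c - b * b) := by
  classical
  have hs : ∀ j, z j = -1 ∨ z j = 0 ∨ z j = 1 := fun j => small_entries hd h ha hdet (by omega) j
  -- the generic computation
  have main : ∀ y w, y ≠ W → y ≠ x → w ≠ W → w ≠ x → y ≠ w → z y ≠ 0 → z w ≠ 0 →
      ((z x : ℝ) * d x + (z W : ℝ) * d W ≠ 0 ∧
      (z W : ℝ) * d W * (c * ((z x : ℝ) * υ x) ^ 2 - 2 * b * ((z x : ℝ) * υ x) * ((z x : ℝ) * π x) +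
          a * ((z x : ℝ) * π x) ^ 2) =
        (z x : ℝ) * d x * ((z x : ℝ) * d x + (z W : ℝ) * d W) * (a * c - b * b) ∧
      (z W : ℝ) * d W * (c * (((z x : ℝ) * υ x) * ((z y : ℝ) * υ y)) -
          b * (((z x : ℝ) * υ x) * ((z y : ℝ) * π y) + ((z x : ℝ) * π x) * ((z y : ℝ) * υ y)) +
          a * (((z x : ℝ) * π x) * ((z y : ℝ) * π y))) =
        (z x : ℝ) * d x * ((z y : ℝ) * d y) * (a * c - b * b)) := by
    intro y w hyW hyx hwW hwx hyw hy hw
    have h0 := sum_four hn hWx hyW.symm hwW.symm hyx.symm hwx.symm hyw hW hx hy hw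
    have hS : ∀ F : ι → ℝ, ∑ i, (z i : ℝ) * F i = (z W : ℝ) * F W + ((z x : ℝ) * F x + ((z y : ℝ) * F y + (z w : ℝ) * F w)) := by
      intro F
      rw [← Finset.sum_subset (Finset.subset_univ ({W, x, y, w} : Finset ι)) (fun i _ hi => by
        simp only [Finset.mem_insert, Finset.mem_singleton, not_or] at hi
        rw [h0 i hi.1 hi.2.1 hi.2.2.1 hi.2.2.2]; simp)]
      rw [Finset.sum_insert (by simp [hWx, hyW.symm, hwW.symm]),
        Finset.sum_insert (by simp [hyx.symm, hwx.symm]), Finset.sum_pair hyw]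
    have hne : ∀ j, z j ≠ 0 → (z j : ℝ) * d j ≠ 0 := fun j hj =>
      mul_ne_zero (Int.cast_ne_zero.mpr hj) (Nat.cast_ne_zero.mpr (hd j).ne')
    have hsq : ∀ (j : ι) (F H : ι → ℝ), z j ≠ 0 →
        (z j : ℝ) * (F j * H j / d j) = ((z j : ℝ) * F j) * ((z j : ℝ) * H j) / ((z j : ℝ) * d j) := by
      intro j F H hj
      rcases hs j with e | e | e
      · rw [e]; push_cast; field_simp
      · exact absurd e hj
      · rw [e]; push_cast; ring
    have e1 := h.deg
    have e2 := h.sumU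
    have e3 := h.sumP
    have e4 := h.gram11
    have e5 := h.gram12
    have e6 := h.gram22
    simp only [form] at e4 e5 e6
    rw [hS] at e1 e2 e3
    rw [hS, hsq W _ _ hW, hsq x _ _ hx, hsq y _ _ hy, hsq w _ _ hw] at e4 e5 e6
    simp only [hυW, hπW, mul_zero, zero_mul, zero_div, zero_add] at e2 e3 e4 e5 e6
    have nW := hne W hW
    have nx := hne x hx
    have ny := hne y hy
    have nw := hne w hw
    refine ⟨fun h0' => ?_, ?_⟩
    · -- otherwise only two coefficients are positive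
      have hpos : ∀ j, 0 < z j → 0 < (z j : ℝ) * d j := fun j hj =>
        mul_pos (by exact_mod_cast hj) (by exact_mod_cast hd j)
      have hneg : ∀ j, z j < 0 → (z j : ℝ) * d j < 0 := fun j hj =>
        mul_neg_of_neg_of_pos (by exact_mod_cast hj) (by exact_mod_cast hd j)
      have hyw0 : (z y : ℝ) * d y + (z w : ℝ) * d w = 0 := by linarith
      have opp : ∀ p q, z p ≠ 0 → z q ≠ 0 → (z p : ℝ) * d p + (z q : ℝ) * d q = 0 →
          ¬ (0 < z p ∧ 0 < z q) := fun p q _ _ hpq ⟨hp, hq⟩ => by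
        have := hpos p hp; have := hpos q hq; linarith
      have k1 : ¬ (0 < z x ∧ 0 < z W) := opp x W hx hW h0'
      have k2 : ¬ (0 < z y ∧ 0 < z w) := opp y w hy hw hyw0
      let A := if 0 < z x then x else W
      let B := if 0 < z y then y else w
      obtain ⟨i, hiA, hiB, hi⟩ := exists_third_pos hd h ha hdet A B
      by_cases e : i = W ∨ i = x ∨ i = y ∨ i = w
      · rcases e with rfl | rfl | rfl | rfl
        · exact hiA (by simp only [A]; rw [if_neg (fun hh => k1 ⟨hh, hi⟩)])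
        · exact hiA (by simp only [A]; rw [if_pos hi])
        · exact hiB (by simp only [B]; rw [if_pos hi])
        · exact hiB (by simp only [B]; rw [if_neg (fun hh => k2 ⟨hh, hi⟩)])
      · push Not at e
        rw [h0 i e.1 e.2.1 e.2.2.1 e.2.2.2] at hi
        exact lt_irrefl _ hi
    · have hw' : (z w : ℝ) * d w = -((z W : ℝ) * d W + (z x : ℝ) * d x + (z y : ℝ) * d y) := by linarith
      have hvw : (z w : ℝ) * υ w = -((z x : ℝ) * υ x + (z y : ℝ) * υ y) := by linarith
      have hpw : (z w : ℝ) * π w = -((z x : ℝ) * π x + (z y : ℝ) * π y) := by linarith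
      rw [hw', hvw] at e4
      rw [hw', hvw, hpw] at e5
      rw [hw', hpw] at e6
      rw [hw'] at nw
      generalize (z W : ℝ) * d W = B at *
      generalize (z x : ℝ) * d x = X at *
      generalize (z y : ℝ) * d y = Y at *
      generalize (z x : ℝ) * υ x = V1 at *
      generalize (z x : ℝ) * π x = Q1 at *
      generalize (z y : ℝ) * υ y = V2 at *
      generalize (z y : ℝ) * π y = Q2 at *
      subst e4 e5 e6
      have nw' : B + X + Y ≠ 0 := fun e => nw (by rw [e, neg_zero])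
      constructor <;> · field_simp; ring
  -- two further constituents exist
  have hex : ∀ T : Finset ι, T.card ≤ 3 → ∃ j, j ∉ T ∧ z j ≠ 0 := by
    intro T hT
    by_contra hc
    push Not at hc
    have h4 : ∑ j ∈ T, z j * z j = 4 := by
      rw [← hn]; exact Finset.sum_subset (Finset.subset_univ T) fun j _ hj => by rw [hc j hj, mul_zero]
    have h5 : ∑ j ∈ T, z j * z j ≤ ∑ j ∈ T, 1 := Finset.sum_le_sum fun j _ => by
      rcases hs j with e | e | e <;> rw [e] <;> norm_num
    rw [h4, Finset.sum_const, nsmul_eq_mul, mul_one] at h5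
    have : (T.card : ℤ) ≤ 3 := by exact_mod_cast hT
    omega
  have hget : ∀ y, y ≠ W → y ≠ x → ∃ w, w ≠ W ∧ w ≠ x ∧ y ≠ w ∧ z w ≠ 0 := by
    intro y _ _
    obtain ⟨w, hwT, hw⟩ := hex {W, x, y} Finset.card_le_three
    simp only [Finset.mem_insert, Finset.mem_singleton, not_or] at hwT
    exact ⟨w, hwT.1, hwT.2.1, Ne.symm hwT.2.2, hw⟩
  obtain ⟨y, hyT, hy⟩ := hex {W, x} ((Finset.card_le_two).trans (by norm_num))
  simp only [Finset.mem_insert, Finset.mem_singleton, not_or] at hyT
  obtain ⟨w, h1, h2, h3, hw⟩ := hget y hyT.1 hyT.2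
  obtain ⟨m1, m2, -⟩ := main y w hyT.1 hyT.2 h1 h2 h3 hy hw
  refine ⟨m1, m2, fun y' hy'W hy'x hy' => ?_⟩
  obtain ⟨w', g1, g2, g3, hw'⟩ := hget y' hy'W hy'x
  exact (main y' w' hy'W hy'x g1 g2 g3 hy' hw').2.2

end Cfsg.Agent.Lib.Involution.Nine
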