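import Cfsg.Agent.Lib.Involution.WeightZero
import Mathlib.RingTheory.IntegralClosure.IntegrallyClosed
import Mathlib.RingTheory.Int.Basic

/-!
# The arithmetic contradiction for a fused direct product of two copies of `Sym 3`

Three virtual characters of norm three with prescribed class-multiplication weights at an
involution cannot coexist.
-/

set_option autoImplicit false

open scoped ComplexConjugate

namespace Cfsg.Agent.Lib.Involution

open Cfsg Cfsg.Agent.Lib.Char Cfsg.Agent.Lib.CharTools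

universe u

variable {G : Type u} [Group G] [Fintype G]

/-- The sum of `τ` over the products of two conjugates of `u`. -/
noncomputable def pairWeight (u : G) (τ : G → ℂ) : ℂ :=
  ∑ x : G, ∑ y : G, classInd u x * classInd u y * τ (x * y)

theorem pairWeight_irr (u : G) (χ : IrrCharacter G) :
    pairWeight u (χ : G → ℂ) = ((Subgroup.centralizer ({u} : Set G)).index : ℂ) *
      ((Subgroup.centralizer ({u} : Set G)).index : ℂ) * ((χ : G → ℂ) u * (χ : G → ℂ) u) / (χ : G → ℂ) 1 :=
  sum_classes_mul χ.2 u u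

/-- A virtual character of norm three containing the trivial character once. -/
theorem three_terms {τ : G → ℂ} (hgen : IsGeneralizedCharacter G τ) (h1 : τ 1 = 0)
    (hn : classInner τ τ = 3) (ht : classInner τ (fun _ : G => (1 : ℂ)) = 1) (u : G) (hu : τ u = 0) :
    ∃ a b : IrrCharacter G, (a : G → ℂ) ≠ (fun _ => 1) ∧ (b : G → ℂ) ≠ (fun _ => 1) ∧ a ≠ b ∧
      τ = (fun _ => (1 : ℂ)) + ((a : G → ℂ) - (b : G → ℂ)) ∧
      (b : G → ℂ) 1 = (a : G → ℂ) 1 + 1 ∧ (b : G → ℂ) u = (a : G → ℂ) u + 1 ∧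
      pairWeight u τ * ((a : G → ℂ) 1 * ((a : G → ℂ) 1 + 1)) =
        ((Subgroup.centralizer ({u} : Set G)).index : ℂ) * ((Subgroup.centralizer ({u} : Set G)).index : ℂ) *
          ((a : G → ℂ) 1 - (a : G → ℂ) u) ^ 2 := by
  classical
  have h11 : classInner (fun _ : G => (1 : ℂ)) (fun _ : G => (1 : ℂ)) = 1 :=
    classInner_irr_self isIrrCharacter_one
  have ht' : classInner (fun _ : G => (1 : ℂ)) τ = 1 := by rw [classInner_conj_symm, ht, map_one]
  set σ : G → ℂ := τ - fun _ => (1 : ℂ) with hσ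
  have hσg : IsGeneralizedCharacter G σ := by
    obtain ⟨P, Q, hP, hQ, hPQ⟩ := hgen
    exact ⟨P, Q + fun _ => (1 : ℂ), hP, isCharacter_add hQ isCharacter_one, by rw [hσ, hPQ, sub_sub]⟩
  have hσ2 : classInner σ σ = 2 := by
    rw [hσ, classInner_sub_left, classInner_sub_right, classInner_sub_right, hn, ht, ht', h11]
    norm_num
  obtain ⟨a, b, hab, hσab⟩ := exists_eq_sub_of_norm_two' hσg (by simp [hσ, h1]) hσ2
  have hσt : classInner σ (fun _ : G => (1 : ℂ)) = 0 := by
    rw [hσ, classInner_sub_left, ht, h11, sub_self]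
  have ha : (a : G → ℂ) ≠ fun _ => 1 := by
    intro ha
    have hb : (b : G → ℂ) ≠ fun _ => 1 := fun hb => hab (Subtype.ext (ha.trans hb.symm))
    rw [hσab, classInner_sub_left, ha, h11, classInner_irr_ne b.2 isIrrCharacter_one hb] at hσt
    norm_num at hσt
  have hb : (b : G → ℂ) ≠ fun _ => 1 := by
    intro hb
    rw [hσab, classInner_sub_left, hb, h11, classInner_irr_ne a.2 isIrrCharacter_one ha] at hσt
    norm_num at hσt
  have hτab : τ = (fun _ => (1 : ℂ)) + ((a : G → ℂ) - (b : G → ℂ)) := by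
    rw [← hσab, hσ, add_sub_cancel]
  have e1 : (b : G → ℂ) 1 = (a : G → ℂ) 1 + 1 := by
    have := congrFun hτab 1; simp only [Pi.add_apply, Pi.sub_apply, h1] at this; linear_combination this
  have eu : (b : G → ℂ) u = (a : G → ℂ) u + 1 := by
    have := congrFun hτab u; simp only [Pi.add_apply, Pi.sub_apply, hu] at this; linear_combination this
  refine ⟨a, b, ha, hb, hab, hτab, e1, eu, ?_⟩
  have e : pairWeight u τ = pairWeight u ((⟨_, isIrrCharacter_one⟩ : IrrCharacter G) : G → ℂ) +
      pairWeight u (a : G → ℂ) - pairWeight u (b : G → ℂ) := by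
    simp only [pairWeight, ← Finset.sum_add_distrib, ← Finset.sum_sub_distrib]
    refine Finset.sum_congr rfl fun x _ => Finset.sum_congr rfl fun y _ => ?_
    rw [hτab]
    simp only [Pi.add_apply, Pi.sub_apply]
    ring
  have hA := irr_degree_ne_zero a.2
  have hB := irr_degree_ne_zero b.2
  rw [e1] at hB
  rw [e, pairWeight_irr, pairWeight_irr, pairWeight_irr, e1, eu]
  field_simp
  ring

theorem not_isIntegral_half (m : ℤ) (hm : Odd m) : ¬ IsIntegral ℤ ((m : ℂ) / 2) := by
  intro h
  have h' : IsIntegral ℤ ((m : ℚ) / 2) := by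
    refine (isIntegral_algHom_iff ((algebraMap ℚ ℂ).toIntAlgHom) (algebraMap ℚ ℂ).injective).mp ?_
    simpa using h
  obtain ⟨k, hk⟩ := IsIntegrallyClosed.isIntegral_iff.mp h'
  simp only [eq_intCast] at hk
  have : (2 * k : ℤ) = m := by
    have : (2 * k : ℚ) = m := by rw [hk]; ring
    exact_mod_cast this
  obtain ⟨j, hj⟩ := hm
  omega

/-- The contradiction. -/
theorem square_contradiction {A B C : G → ℂ} (l : G →* ℂˣ) (u : G) (hu2 : u * u = 1)
    (hlu : (l u : ℂ) = -1)
    (hA : IsGeneralizedCharacter G A) (hA1 : A 1 = 0) (hAu : A u = 0) (hAn : classInner A A = 3)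
    (hAt : classInner A (fun _ : G => (1 : ℂ)) = 1) (hAl : classInner A (fun g : G => (l g : ℂ)) = 1)
    (hB : IsGeneralizedCharacter G B) (hB1 : B 1 = 0) (hBu : B u = 0) (hBn : classInner B B = 3)
    (hBt : classInner B (fun _ : G => (1 : ℂ)) = 0) (hBl : ∀ g, (l g : ℂ) * B g = B g)
    (hC : IsGeneralizedCharacter G C) (hC1 : C 1 = 0) (hCu : C u = 0) (hCn : classInner C C = 3)
    (hCt : classInner C (fun _ : G => (1 : ℂ)) = 1) (hBC : classInner B C = 1)
    (wA : pairWeight u A = 8 * (Nat.card G : ℂ)) (wB : pairWeight u B = 2 * (Nat.card G : ℂ))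
    (wC : 2 * pairWeight u C = 9 * (Nat.card G : ℂ)) : False := by
  classical
  set i : ℂ := ((Subgroup.centralizer ({u} : Set G)).index : ℂ) with hi
  have hi0 : i ≠ 0 := by rw [hi]; exact_mod_cast Subgroup.index_ne_zero_of_finite
  have hg0 : (Nat.card G : ℂ) ≠ 0 := card_ne_zero_complex G
  set E : IrrCharacter G := ⟨fun g => (l g : ℂ), isIrrCharacter_linear l⟩ with hE
  -- `A` gives the size of the class of `u`
  have hii : i * i = 4 * (Nat.card G : ℂ) := by
    obtain ⟨a, b, ha, hb, hab, hA', -, -, hw⟩ := three_terms hA hA1 hAn hAt u hAu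
    have haE : a = E := by
      by_contra hne
      have hE1 : (fun _ : G => (1 : ℂ)) ≠ (E : G → ℂ) := by
        intro h; have := congrFun h u; simp [hE, hlu] at this; norm_num at this
      rw [show (fun g : G => (l g : ℂ)) = (E : G → ℂ) from rfl, hA', classInner_add_left,
        classInner_sub_left, classInner_irr_ne isIrrCharacter_one E.2 hE1,
        classInner_irr_ne a.2 E.2 (fun h => hne (Subtype.ext h))] at hAl
      by_cases hbE : b = E
      · rw [hbE, classInner_irr_self E.2] at hAl; norm_num at hAl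
      · rw [classInner_irr_ne b.2 E.2 (fun h => hbE (Subtype.ext h))] at hAl; norm_num at hAl
    rw [haE] at hw
    simp only [hE, map_one, Units.val_one, hlu, wA] at hw
    linear_combination -hw / 4
  -- the coefficients of `B`
  choose z hz using generalized_classInner_int hB
  have hcf := isClassFunction_of_generalized hB
  have hsq : ∑ χ : IrrCharacter G, z χ * z χ = 3 := by
    have h3 := classInner_eq_sum (φ := B) hcf
    rw [hBn] at h3
    simp only [hz, map_intCast] at h3
    exact_mod_cast h3.symm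
  have hexp : ∀ g, B g = ∑ χ : IrrCharacter G, (z χ : ℂ) * (χ : G → ℂ) g := fun g => by
    have := congrFun (eq_sum_classInner_smul hcf) g
    simpa [Finset.sum_apply, hz] using this
  have hw : pairWeight u B = i * i * ∑ χ : IrrCharacter G,
      (z χ : ℂ) * ((χ : G → ℂ) u * (χ : G → ℂ) u / (χ : G → ℂ) 1) := by
    rw [Finset.mul_sum]
    have : pairWeight u B = ∑ χ : IrrCharacter G, (z χ : ℂ) * pairWeight u (χ : G → ℂ) := by
      simp only [pairWeight, hexp, Finset.mul_sum]
      rw [Finset.sum_comm (γ := IrrCharacter G)]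
      refine Finset.sum_congr rfl fun x _ => ?_
      rw [Finset.sum_comm (γ := IrrCharacter G)]
      exact Finset.sum_congr rfl fun χ _ => Finset.sum_congr rfl fun y _ => by ring
    rw [this]
    refine Finset.sum_congr rfl fun χ _ => ?_
    rw [pairWeight_irr, hi]; ring
  set s := (Finset.univ : Finset (IrrCharacter G)).filter fun χ => z χ ≠ 0 with hs
  have hz1 : ∀ χ ∈ s, z χ = 1 ∨ z χ = -1 := by
    intro χ hχ
    have hle : z χ * z χ ≤ 3 :=
      hsq ▸ Finset.single_le_sum (f := fun χ => z χ * z χ) (fun χ _ => mul_self_nonneg _) (Finset.mem_univ χ)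
    have := (Finset.mem_filter.mp hχ).2
    have h4 : -1 ≤ z χ ∧ z χ ≤ 1 := by constructor <;> nlinarith
    omega
  have hcard : s.card = 3 := by
    have : ∑ χ ∈ s, z χ * z χ = 3 := by
      rw [← hsq]
      refine Finset.sum_subset (Finset.subset_univ s) fun χ _ h => ?_
      have : z χ = 0 := by_contra fun e => h (Finset.mem_filter.mpr ⟨Finset.mem_univ _, e⟩)
      rw [this, mul_zero]
    rw [Finset.sum_congr rfl (fun χ hχ => show z χ * z χ = 1 by rcases hz1 χ hχ with e | e <;> rw [e] <;> rfl)] at this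
    exact_mod_cast (by simpa using this : (s.card : ℤ) = 3)
  have hsum : ∀ F : IrrCharacter G → ℂ, ∑ χ : IrrCharacter G, (z χ : ℂ) * F χ = ∑ χ ∈ s, (z χ : ℂ) * F χ :=
    fun F => (Finset.sum_subset (Finset.subset_univ s) fun χ _ h => by
      have : z χ = 0 := by_contra fun e => h (Finset.mem_filter.mpr ⟨Finset.mem_univ _, e⟩)
      rw [this]; simp).symm
  have hS : ∑ χ ∈ s, (z χ : ℂ) * ((χ : G → ℂ) u * (χ : G → ℂ) u / (χ : G → ℂ) 1) = 1 / 2 := by
    rw [hw, hsum, hii] at wB
    have : (4 : ℂ) * (Nat.card G : ℂ) ≠ 0 := mul_ne_zero (by norm_num) hg0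
    refine mul_left_cancel₀ this ?_
    linear_combination wB
  let m : IrrCharacter G → IrrCharacter G := fun χ =>
    ⟨fun g => (l g : ℂ) * (χ : G → ℂ) g, isIrrCharacter_linear_mul χ.2 l⟩
  have hmz : ∀ χ, z (m χ) = z χ := fun χ => by
    have e : classInner B (m χ : G → ℂ) = classInner B (χ : G → ℂ) := by
      simp only [classInner, m]
      congr 1
      refine Finset.sum_congr rfl fun g _ => ?_
      conv_lhs => rw [← hBl g]
      rw [map_mul, mul_mul_mul_comm, linear_conj_mul, one_mul]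
    rw [hz, hz] at e
    exact_mod_cast e
  have hreal : ∀ χ : IrrCharacter G, conj ((χ : G → ℂ) u) = (χ : G → ℂ) u := fun χ => by
    rw [← char_inv (isCharacter_of_isIrr χ.2), inv_eq_of_mul_eq_one_right hu2]
  obtain ⟨X, hX, hXu⟩ : ∃ X ∈ s, (X : G → ℂ) u ≠ 0 := by
    by_contra hc
    push Not at hc
    rw [Finset.sum_eq_zero (fun χ hχ => by rw [hc χ hχ]; simp)] at hS
    norm_num at hS
  set Y := m X with hY
  have hYu : (Y : G → ℂ) u = -(X : G → ℂ) u := by simp [hY, m, hlu]
  have hY1 : (Y : G → ℂ) 1 = (X : G → ℂ) 1 := by simp [hY, m]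
  have hXY : Y ≠ X := fun h => hXu <| by
    have := hYu; rw [h] at this; linear_combination this / 2
  have hYs : Y ∈ s := by
    rw [hs, Finset.mem_filter] at hX ⊢
    exact ⟨Finset.mem_univ _, by rw [hmz]; exact hX.2⟩
  obtain ⟨Z, hZ⟩ : ∃ Z, (s.erase X).erase Y = {Z} := Finset.card_eq_one.mp (by
    rw [Finset.card_erase_of_mem (Finset.mem_erase.mpr ⟨hXY, hYs⟩), Finset.card_erase_of_mem hX, hcard])
  have hZs : Z ∈ s ∧ Z ≠ X ∧ Z ≠ Y := by
    have : Z ∈ (s.erase X).erase Y := by rw [hZ]; exact Finset.mem_singleton_self Z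
    simp only [Finset.mem_erase] at this
    exact ⟨this.2.2, this.2.1, this.1⟩
  have hmem : ∀ χ ∈ s, χ = X ∨ χ = Y ∨ χ = Z := by
    intro χ hχ
    by_contra hc
    push Not at hc
    have : χ ∈ (s.erase X).erase Y := by simp [Finset.mem_erase, hc.1, hc.2.1, hχ]
    rw [hZ, Finset.mem_singleton] at this
    exact hc.2.2 this
  have hs3 : ∀ F : IrrCharacter G → ℂ, ∑ χ ∈ s, F χ = F X + F Y + F Z := fun F => by
    rw [← Finset.add_sum_erase s F hX, ← Finset.add_sum_erase _ F (Finset.mem_erase.mpr ⟨hXY, hYs⟩), hZ,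
      Finset.sum_singleton, add_assoc]
  have hd1 : (z X : ℂ) * (X : G → ℂ) 1 + (z X : ℂ) * (X : G → ℂ) 1 + (z Z : ℂ) * (Z : G → ℂ) 1 = 0 := by
    rw [← hB1, hexp, hsum, hs3, hmz, hY1]
  have hZu : (Z : G → ℂ) u = 0 := by
    have h := hBu
    rw [hexp, hsum, hs3, hmz, hYu] at h
    have : (z Z : ℂ) * (Z : G → ℂ) u = 0 := by linear_combination h
    refine (mul_eq_zero.mp this).resolve_left ?_
    exact_mod_cast (Finset.mem_filter.mp hZs.1).2
  obtain ⟨x, hx⟩ := exists_natDegree (isCharacter_of_isIrr X.2)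
  obtain ⟨y, hy⟩ := exists_natDegree (isCharacter_of_isIrr Z.2)
  have hx0 : (x : ℂ) ≠ 0 := hx ▸ irr_degree_ne_zero X.2
  have hy0 : (y : ℂ) ≠ 0 := hy ▸ irr_degree_ne_zero Z.2
  have hX2 : (z X : ℂ) * (4 * ((X : G → ℂ) u * (X : G → ℂ) u)) = x := by
    rw [hs3, hmz, hYu, hY1, hZu, hx] at hS
    field_simp at hS
    linear_combination hS
  have hzX : z X = 1 := by
    refine (hz1 X hX).resolve_right fun e => ?_
    rw [e] at hX2
    have hn : (X : G → ℂ) u * (X : G → ℂ) u = (Complex.normSq ((X : G → ℂ) u) : ℂ) := by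
      rw [← Complex.mul_conj, hreal]
    rw [hn] at hX2
    have h5 : -(4 * Complex.normSq ((X : G → ℂ) u)) = (x : ℝ) := by
      have := congrArg Complex.re hX2
      simpa using this
    have : (0 : ℝ) < x := by
      rcases Nat.eq_zero_or_pos x with h | h
      · exact absurd (by rw [h]; simp) hx0
      · exact_mod_cast h
    linarith [Complex.normSq_nonneg ((X : G → ℂ) u)]
  have hzZ : z Z = -1 ∧ y = 2 * x := by
    rw [hzX, hx, hy] at hd1
    rcases hz1 Z hZs.1 with e | e
    · rw [e] at hd1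
      have : x + x + y = 0 := by exact_mod_cast (by simpa using hd1 : (x : ℂ) + x + y = 0)
      have : y = 0 := by omega
      exact absurd (by rw [this]; simp) hy0
    · rw [e] at hd1
      refine ⟨e, ?_⟩
      have : (y : ℂ) = ((2 * x : ℕ) : ℂ) := by push_cast at hd1 ⊢; linear_combination -hd1
      exact_mod_cast this
  -- the constituents of `C`
  obtain ⟨a, b, ha, hb, hab, hC', e1, eu, hwC⟩ := three_terms hC hC1 hCn hCt u hCu
  have hq : 8 * ((a : G → ℂ) 1 - (a : G → ℂ) u) ^ 2 = 9 * ((a : G → ℂ) 1 * ((a : G → ℂ) 1 + 1)) := by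
    refine mul_left_cancel₀ hg0 ?_
    linear_combination -2 * hwC + ((a : G → ℂ) 1 * ((a : G → ℂ) 1 + 1)) * wC
      - 2 * ((a : G → ℂ) 1 - (a : G → ℂ) u) ^ 2 * hii
  have hab1 : z a - z b = 1 := by
    rw [hC', classInner_conj_symm, classInner_add_left, classInner_sub_left,
      classInner_conj_symm B (fun _ : G => (1 : ℂ)), hBt, classInner_conj_symm B (a : G → ℂ),
      classInner_conj_symm B (b : G → ℂ), hz, hz] at hBC
    simp at hBC
    exact_mod_cast hBC
  have hval : ∀ χ, z χ = 0 ∨ ((z χ = 1 ∧ 4 * ((χ : G → ℂ) u * (χ : G → ℂ) u) = (χ : G → ℂ) 1) ∨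
      (z χ = -1 ∧ χ = Z)) := by
    intro χ
    by_cases h0 : z χ = 0
    · exact Or.inl h0
    · right
      have hX2' : 4 * ((X : G → ℂ) u * (X : G → ℂ) u) = (X : G → ℂ) 1 := by
        rw [hzX, Int.cast_one, one_mul] at hX2
        rw [hX2, hx]
      rcases hmem χ (Finset.mem_filter.mpr ⟨Finset.mem_univ _, h0⟩) with rfl | rfl | rfl
      · exact Or.inl ⟨hzX, hX2'⟩
      · exact Or.inl ⟨(hmz X).trans hzX, by rw [hYu, hY1, ← hX2']; ring⟩
      · exact Or.inr ⟨hzZ.1, rfl⟩
  rcases hval a with ha0 | ⟨-, ha2⟩ | ⟨ha2, -⟩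
  · rcases hval b with hb0 | ⟨hb2, -⟩ | ⟨-, hbZ⟩
    · omega
    · omega
    · rw [hbZ, hZu] at eu
      rw [hbZ, hy, hzZ.2] at e1
      have hA0 := irr_degree_ne_zero a.2
      have h8 : (a : G → ℂ) 1 = 8 := by
        have hau : (a : G → ℂ) u = -1 := by linear_combination -eu
        rw [hau] at hq
        have h0 : ((a : G → ℂ) 1 + 1) * (8 - (a : G → ℂ) 1) = 0 := by linear_combination hq
        rcases mul_eq_zero.mp h0 with h | h
        · rw [h, Nat.cast_mul] at e1
          exact absurd (by simpa using e1) hx0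
        · linear_combination -h
      rw [h8] at e1
      have : (2 * x : ℕ) = 9 := by exact_mod_cast (by rw [e1]; norm_num : ((2 * x : ℕ) : ℂ) = 9)
      omega
  · set r := (a : G → ℂ) u
    rw [← ha2] at hq
    have hr : r ≠ 0 := by
      intro h
      rw [h] at ha2
      exact irr_degree_ne_zero a.2 (by rw [← ha2]; simp)
    have h0 : (r * r) * ((2 * r + 1) * (2 * r + 7)) = 0 := by linear_combination -hq / 4
    rcases mul_eq_zero.mp ((mul_eq_zero.mp h0).resolve_left (mul_ne_zero hr hr)) with h | h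
    · exact not_isIntegral_half (-1) (by decide)
        (by rw [show ((-1 : ℤ) : ℂ) / 2 = r by push_cast; linear_combination -h / 2]
            exact char_isIntegral (isCharacter_of_isIrr a.2) u)
    · exact not_isIntegral_half (-7) (by decide)
        (by rw [show ((-7 : ℤ) : ℂ) / 2 = r by push_cast; linear_combination -h / 2]
            exact char_isIntegral (isCharacter_of_isIrr a.2) u)
  · rcases hval b with hb0 | ⟨hb2, -⟩ | ⟨hb2, -⟩ <;> omega

end Cfsg.Agent.Lib.Involution
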