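import Cfsg.Agent.Lib.Char.Induced
import Cfsg.Agent.Lib.Char.Coherent
import Cfsg.Agent.Lib.Char.Kernel
import Cfsg.Agent.Lib.Char.Linear
import Cfsg.Agent.Lib.CharTools.ClassMult
import Cfsg.Agent.Lib.CharSmallPerm.Basic

/-!
# Lifting a linear character from a trivial-intersection normalizer

A virtual character `φ` of norm `3` of `H`, supported on elements that control their own fusion in
`H`, induces to `1 + a - b`. If no product of two conjugates of `u` meets the support, the class
multiplication formula for `1 + a - b` at `u` collapses to `(a 1 - a u) ^ 2 = 0`.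
-/

set_option autoImplicit false

open scoped ComplexConjugate

namespace Cfsg.Agent.Lib.Involution

open Cfsg Cfsg.Agent.Lib.Char Cfsg.Agent.Lib.CharTools

universe u v

variable {G : Type u} [Group G] [Fintype G]

/-- A virtual character of norm `2` and degree `-1` is a difference of two irreducibles. -/
theorem exists_eq_sub_of_norm_two' {τ : G → ℂ} (h : IsGeneralizedCharacter G τ) (h1 : τ 1 = -1)
    (h2 : classInner τ τ = 2) :
    ∃ a b : IrrCharacter G, a ≠ b ∧ τ = (a : G → ℂ) - (b : G → ℂ) := by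
  classical
  choose z hz using generalized_classInner_int h
  have hcf := isClassFunction_of_generalized h
  have hsq : ∑ χ : IrrCharacter G, z χ * z χ = 2 := by
    have h3 := classInner_eq_sum (φ := τ) hcf
    rw [h2] at h3
    simp only [hz, map_intCast] at h3
    exact_mod_cast h3.symm
  have hexp := eq_sum_classInner_smul hcf
  have hdeg : ∑ χ : IrrCharacter G, z χ * (charDegree (χ : G → ℂ) : ℤ) = -1 := by
    have h3 := congrFun hexp 1
    simp only [Finset.sum_apply, Pi.smul_apply, smul_eq_mul, hz, h1] at h3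
    rw [Finset.sum_congr rfl fun χ _ => by
      rw [apply_one_eq_charDegree (isCharacter_of_isIrr χ.2)]] at h3
    exact_mod_cast h3.symm
  have hle : ∀ χ, z χ * z χ ≤ 2 := fun χ =>
    hsq ▸ Finset.single_le_sum (f := fun χ => z χ * z χ) (fun χ _ => mul_self_nonneg _) (Finset.mem_univ χ)
  have hz1 : ∀ χ, -1 ≤ z χ ∧ z χ ≤ 1 := fun χ => by
    have := hle χ; constructor <;> nlinarith
  obtain ⟨b, hb⟩ : ∃ b, z b < 0 := by
    by_contra hc
    push Not at hc
    have : (0 : ℤ) ≤ -1 := hdeg ▸ Finset.sum_nonneg fun χ _ => mul_nonneg (hc χ) (by positivity)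
    omega
  obtain ⟨a, ha⟩ : ∃ a, 0 < z a := by
    by_contra hc
    push Not at hc
    have h5 : ∑ χ : IrrCharacter G, z χ * (charDegree (χ : G → ℂ) : ℤ) ≤
        ∑ χ : IrrCharacter G, -(z χ * z χ) := Finset.sum_le_sum fun χ _ => by
      have hd : (1 : ℤ) ≤ (charDegree (χ : G → ℂ) : ℤ) := by exact_mod_cast charDegree_pos χ.2
      have := hz1 χ
      rcases (show z χ = -1 ∨ z χ = 0 from by have := hc χ; omega) with e | e <;> rw [e] <;> omega
    rw [hdeg, Finset.sum_neg_distrib, hsq] at h5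
    omega
  have haz : z a = 1 := by have := hz1 a; omega
  have hbz : z b = -1 := by have := hz1 b; omega
  have hab : a ≠ b := fun e => by subst e; omega
  have hrest := Finset.sum_pair (f := fun χ => z χ * z χ) hab
  have hz0 : ∀ χ, χ ≠ a → χ ≠ b → z χ = 0 := by
    intro χ hχa hχb
    by_contra hne
    have h8 : ∑ ψ ∈ ({χ, a, b} : Finset (IrrCharacter G)), z ψ * z ψ ≤ 2 :=
      hsq ▸ Finset.sum_le_sum_of_subset_of_nonneg (Finset.subset_univ _)
        (fun χ _ _ => mul_self_nonneg _)
    rw [Finset.sum_insert (by simp [hχa, hχb]), hrest, haz, hbz] at h8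
    have : 0 < z χ * z χ := mul_self_pos.mpr hne
    linarith
  refine ⟨a, b, hab, ?_⟩
  rw [hexp, ← Finset.sum_subset (Finset.subset_univ {a, b}) (fun χ _ hχ => by
      simp only [Finset.mem_insert, Finset.mem_singleton, not_or] at hχ
      rw [hz, hz0 χ hχ.1 hχ.2, Int.cast_zero, zero_smul]),
    Finset.sum_pair hab, hz, hz, haz, hbz]
  simp [sub_eq_add_neg]

variable {H : Subgroup G} [Fintype H]

omit [Fintype H] in
/-- Induction does not change a function whose support controls its fusion. -/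
theorem indFun_apply_of_control {φ : H → ℂ} (hφ : IsClassFunction H φ)
    (hTI : ∀ x : H, φ x ≠ 0 → ∀ g : G, g * (x : G) * g⁻¹ ∈ H → g ∈ H)
    (x : H) (hx : φ x ≠ 0) : indFun H φ (x : G) = φ x := by
  classical
  have hv : ∀ g : G, extendByZero H φ (g⁻¹ * (x : G) * g) = if g ∈ H then φ x else 0 := by
    intro g
    by_cases hg : g ∈ H
    · rw [if_pos hg]
      have := extendByZero_conj hφ (H.inv_mem hg) (x : G)
      rw [inv_inv, extendByZero_coe] at this
      exact this
    · rw [if_neg hg, extendByZero_not_mem]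
      exact fun hm => hg (by simpa using H.inv_mem (hTI x hx g⁻¹ (by simpa using hm)))
  simp only [indFun, hv]
  rw [← Finset.sum_filter, Finset.sum_const, nsmul_eq_mul, ← Fintype.card_subtype,
    ← Nat.card_eq_fintype_card, ← mul_assoc]
  exact (congrArg (· * φ x) (inv_mul_cancel₀ (card_ne_zero_complex H))).trans (one_mul _)

omit [Fintype H] in
/-- Induction vanishes away from conjugates of the support. -/
theorem indFun_apply_eq_zero {φ : H → ℂ} (g : G)
    (h : ∀ x : H, φ x ≠ 0 → ¬ IsConj (x : G) g) : indFun H φ g = 0 := by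
  simp only [indFun]
  rw [Finset.sum_eq_zero fun y _ => ?_, mul_zero]
  by_cases hm : y⁻¹ * g * y ∈ H
  · rw [extendByZero_mem H φ hm]
    by_contra hne
    exact h _ hne (isConj_iff.mpr ⟨y, by simp [mul_assoc]⟩)
  · exact extendByZero_not_mem H φ hm

omit [Fintype H] in
/-- The kernel step, for a virtual character of norm three. -/
theorem exists_kernel_core {τ : G → ℂ} (hgen : IsGeneralizedCharacter G τ) (hτ1 : τ 1 = 0)
    (hττ : classInner τ τ = 3) (hτt : classInner τ (fun _ : G => (1 : ℂ)) = 1)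
    (u : G) (hτu : τ u = 0)
    (hsum : ∑ x : G, ∑ y : G, classInd u x * classInd u y * τ (x * y) = 0) :
    ∃ a : IrrCharacter G, (a : G → ℂ) ≠ (fun _ => 1) ∧ (a : G → ℂ) u = (a : G → ℂ) 1 ∧
      classInner τ (a : G → ℂ) = 1 := by
  classical
  have htτ : classInner (fun _ : G => (1 : ℂ)) τ = 1 := by
    rw [classInner_conj_symm, hτt, map_one]
  have h11 : classInner (fun _ : G => (1 : ℂ)) (fun _ : G => (1 : ℂ)) = 1 :=
    classInner_irr_self isIrrCharacter_one
  set σ : G → ℂ := τ - fun _ => (1 : ℂ) with hσ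
  have hσg : IsGeneralizedCharacter G σ := by
    obtain ⟨P, Q, hP, hQ, hPQ⟩ := hgen
    refine ⟨P, Q + fun _ => (1 : ℂ), hP, isCharacter_add hQ isCharacter_one, ?_⟩
    rw [hσ, hPQ, sub_sub]
  have hσ2 : classInner σ σ = 2 := by
    rw [hσ, classInner_sub_left, classInner_sub_right, classInner_sub_right, hττ, hτt, htτ, h11]
    norm_num
  obtain ⟨a, b, hab, hσab⟩ := exists_eq_sub_of_norm_two' hσg (by simp [hσ, hτ1]) hσ2
  have hσt : classInner σ (fun _ : G => (1 : ℂ)) = 0 := by
    rw [hσ, classInner_sub_left, hτt, h11, sub_self]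
  have ha1 : (a : G → ℂ) ≠ fun _ => 1 := by
    intro ha
    have hb1 : (b : G → ℂ) ≠ fun _ => 1 := fun hb => hab (Subtype.ext (ha.trans hb.symm))
    rw [hσab, classInner_sub_left, ha, h11, classInner_irr_ne b.2 isIrrCharacter_one hb1] at hσt
    norm_num at hσt
  have hb1 : (b : G → ℂ) ≠ fun _ => 1 := by
    intro hb
    rw [hσab, classInner_sub_left, hb, h11, classInner_irr_ne a.2 isIrrCharacter_one ha1] at hσt
    norm_num at hσt
  have hτab : τ = (fun _ => (1 : ℂ)) + ((a : G → ℂ) - (b : G → ℂ)) := by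
    rw [← hσab, hσ, add_sub_cancel]
  refine ⟨a, ha1, ?_, ?_⟩
  · set i : ℂ := ((Subgroup.centralizer ({u} : Set G)).index : ℂ) with hi
    have hi0 : i ≠ 0 := by
      rw [hi]; exact_mod_cast Subgroup.index_ne_zero_of_finite
    have expand : ∑ x : G, ∑ y : G, classInd u x * classInd u y * τ (x * y) =
        i * i * (1 * 1) / 1 + i * i * ((a : G → ℂ) u * (a : G → ℂ) u) / (a : G → ℂ) 1
          - i * i * ((b : G → ℂ) u * (b : G → ℂ) u) / (b : G → ℂ) 1 := by
      rw [← sum_classes_mul isIrrCharacter_one u u, ← sum_classes_mul a.2 u u,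
        ← sum_classes_mul b.2 u u, ← Finset.sum_add_distrib, ← Finset.sum_sub_distrib]
      refine Finset.sum_congr rfl fun x _ => ?_
      rw [← Finset.sum_add_distrib, ← Finset.sum_sub_distrib]
      refine Finset.sum_congr rfl fun y _ => ?_
      rw [hτab]
      simp only [Pi.add_apply, Pi.sub_apply]
      ring
    have hA := irr_degree_ne_zero a.2
    have hB := irr_degree_ne_zero b.2
    rw [hτab] at hτ1 hτu
    simp only [Pi.add_apply, Pi.sub_apply] at hτ1 hτu
    have eb : (b : G → ℂ) 1 = (a : G → ℂ) 1 + 1 := by linear_combination -hτ1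
    have ebu : (b : G → ℂ) u = (a : G → ℂ) u + 1 := by linear_combination -hτu
    rw [hsum, eb, ebu] at expand
    rw [eb] at hB
    field_simp at expand
    have : ((a : G → ℂ) u - (a : G → ℂ) 1) ^ 2 * (i * i) = 0 := by linear_combination -expand
    simpa [hi0, sub_eq_zero] using this
  · rw [hτab, classInner_add_left,
      classInner_sub_left, classInner_irr_ne isIrrCharacter_one a.2 ha1.symm,
      classInner_irr_self a.2, classInner_irr_ne b.2 a.2 (fun h => hab (Subtype.ext h.symm))]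
    norm_num

/-- The kernel step, for an induced character. -/
theorem exists_kernel_char {φ : H → ℂ} (hgen : ∃ P Q : H → ℂ, IsCharacter H P ∧ IsCharacter H Q ∧ φ = P - Q)
    (hTI : ∀ x : H, φ x ≠ 0 → ∀ g : G, g * (x : G) * g⁻¹ ∈ H → g ∈ H)
    (h1 : φ 1 = 0) (hn : classInner φ φ = 3) (ht : classInner φ (fun _ : H => (1 : ℂ)) = 1)
    (u : G) (hu : ∀ x : H, φ x ≠ 0 → ¬ IsConj (x : G) u)
    (hw : ∀ (x y : G) (h : x * y ∈ H), IsConj x u → IsConj y u → φ ⟨x * y, h⟩ = 0) :
    ∃ a : IrrCharacter G, (a : G → ℂ) ≠ (fun _ => 1) ∧ (a : G → ℂ) u = (a : G → ℂ) 1 ∧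
      classInner φ (fun h : H => (a : G → ℂ) h) = 1 := by
  classical
  obtain ⟨P, Q, hP, hQ, hPQ⟩ := hgen
  have hφc : IsClassFunction H φ := hPQ ▸
    isClassFunction_sub (isClassFunction_of_isCharacter hP) (isClassFunction_of_isCharacter hQ)
  set τ := indFun H φ with hτ
  have hτc : IsClassFunction G τ := isClassFunction_indFun H φ
  have hone : IsClassFunction G (fun _ : G => (1 : ℂ)) := fun _ _ => rfl
  have hτ1 : τ 1 = 0 := by rw [hτ, indFun_one, h1, mul_zero]
  have hττ : classInner τ τ = 3 := by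
    rw [hτ, classInner_indFun H φ (isClassFunction_indFun H φ), ← hn]
    simp only [classInner]
    congr 1
    refine Finset.sum_congr rfl fun x _ => ?_
    by_cases hx : φ x = 0
    · rw [hx, zero_mul, zero_mul]
    · rw [indFun_apply_of_control hφc hTI x hx]
  have hτt : classInner τ (fun _ : G => (1 : ℂ)) = 1 := by
    rw [hτ, classInner_indFun H φ hone, ht]
  have hτgen : IsGeneralizedCharacter G τ :=
    ⟨indFun H P, indFun H Q, isCharacter_indFun H hP, isCharacter_indFun H hQ, by rw [hτ, hPQ, indFun_sub]⟩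
  have hsum : ∑ x : G, ∑ y : G, classInd u x * classInd u y * τ (x * y) = 0 := by
    refine Finset.sum_eq_zero fun x _ => Finset.sum_eq_zero fun y _ => ?_
    by_cases hx : IsConj x u
    · by_cases hy : IsConj y u
      · rw [hτ, indFun_apply_eq_zero (x * y) ?_, mul_zero]
        intro z hz hzc
        obtain ⟨g, hg⟩ := isConj_iff.mp hzc
        have e : g⁻¹ * x * g * (g⁻¹ * y * g) = z := by rw [show g⁻¹ * x * g * (g⁻¹ * y * g) = g⁻¹ * (x * y) * g by group, ← hg]; group
        have hm : g⁻¹ * x * g * (g⁻¹ * y * g) ∈ H := e ▸ z.2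
        refine hz ?_
        have := hw _ _ hm ((isConj_iff.mpr ⟨g, by group⟩ : IsConj (g⁻¹ * x * g) x).trans hx)
          ((isConj_iff.mpr ⟨g, by group⟩ : IsConj (g⁻¹ * y * g) y).trans hy)
        rwa [show (⟨_, hm⟩ : H) = z from Subtype.ext e] at this
      · rw [classInd_of_not hy, mul_zero, zero_mul]
    · rw [classInd_of_not hx, zero_mul, zero_mul]
  obtain ⟨a, ha1, hau, hin⟩ :=
    exists_kernel_core hτgen hτ1 hττ hτt u (indFun_apply_eq_zero u hu) hsum
  exact ⟨a, ha1, hau, by rw [← hin, hτ, classInner_indFun H φ (isClassFunction_of_isIrr a.2)]⟩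

/-- Lifting step: if the kernel supplements `H`, the irreducible character is linear. -/
theorem exists_hom_of_inner_one {φ : H → ℂ} {Q : H → ℂ} (l₀ : H →* ℂˣ) (hQ : IsCharacter H Q)
    (hφ : φ = ((fun _ => (1 : ℂ)) + (fun _ => (1 : ℂ)) + fun h => (l₀ h : ℂ)) - Q)
    {a : IrrCharacter G} (ha1 : (a : G → ℂ) ≠ fun _ => 1)
    (hK : charKer (a : G → ℂ) ⊔ H = ⊤) (hin : classInner φ (fun h : H => (a : G → ℂ) h) = 1) :
    ∃ l : G →* ℂˣ, (∀ g, (l g : ℂ) = (a : G → ℂ) g) ∧ ∀ h : H, l h = l₀ h := by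
  classical
  have hac := isCharacter_of_isIrr a.2
  have := charKer_normal hac
  set K := charKer (a : G → ℂ)
  have hKa : ∀ k ∈ K, ∀ g : G, (a : G → ℂ) (k * g) = (a : G → ℂ) g := fun k hk g =>
    (char_mul_of_eq_one hac ((mem_charKer hac).mp hk) g).1
  have hdec : ∀ g : G, ∃ k ∈ K, ∃ h ∈ H, k * h = g := fun g => by
    have : g ∈ K ⊔ H := hK ▸ Subgroup.mem_top g
    exact Subgroup.mem_sup_of_normal_left.mp this
  obtain ⟨ψ, hψ, hψe⟩ := exists_irr_deflation a.2 K (fun k hk => (mem_charKer hac).mp hk)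
  have hres : IsIrrCharacter H (fun h : H => (a : G → ℂ) h) := by
    convert isIrrCharacter_comp hψ ((QuotientGroup.mk' K).comp H.subtype) ?_ using 1
    · funext h; exact (hψe _).symm
    · intro q
      obtain ⟨g, rfl⟩ := QuotientGroup.mk'_surjective K q
      obtain ⟨k, hk, h, hh, rfl⟩ := hdec g
      refine ⟨⟨h, hh⟩, ?_⟩
      show QuotientGroup.mk' K h = QuotientGroup.mk' K (k * h)
      rw [map_mul, (show QuotientGroup.mk' K k = 1 from (QuotientGroup.eq_one_iff k).mpr hk), one_mul]
  have hres1 : (fun h : H => (a : G → ℂ) h) ≠ fun _ => 1 := fun he => ha1 <| funext fun g => by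
    obtain ⟨k, hk, h, hh, rfl⟩ := hdec g
    rw [hKa k hk]; exact congrFun he ⟨h, hh⟩
  obtain ⟨m, hm⟩ := classInner_natCast hQ (isCharacter_of_isIrr hres)
  have hl := isIrrCharacter_linear l₀
  have heq : (fun h : H => (l₀ h : ℂ)) = fun h : H => (a : G → ℂ) h := by
    by_contra hne
    rw [hφ, classInner_sub_left, classInner_add_left, classInner_add_left,
      classInner_irr_ne isIrrCharacter_one hres hres1.symm, classInner_irr_ne hl hres hne,
      hm] at hin
    have : ((m : ℂ) + 1) = 0 := by linear_combination -hin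
    exact Nat.cast_add_one_ne_zero m this
  have ha11 : (a : G → ℂ) 1 = 1 := by
    have := congrFun heq 1
    simpa using this.symm
  obtain ⟨l, hl'⟩ := exists_hom_of_degree_one hac ha11
  exact ⟨l, fun g => (hl' g).symm, fun h => Units.ext ((hl' h).symm.trans (congrFun heq h).symm)⟩

section S3

/-- `2 + sign - fix` on `Sym 3`. -/
def supportFun (p : Equiv.Perm (Fin 3)) : ℤ :=
  2 + ((Equiv.Perm.sign p : ℤˣ) : ℤ) - (CharSmallPerm.fp (Fin 3) p : ℤ)

theorem supportFun_ne_zero : ∀ p : Equiv.Perm (Fin 3),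
    supportFun p ≠ 0 ↔ p ^ 3 = 1 ∧ p ≠ 1 := by decide

theorem sum_supportFun : ∑ p : Equiv.Perm (Fin 3), supportFun p = 6 := by decide

theorem sum_supportFun_sq : ∑ p : Equiv.Perm (Fin 3), supportFun p * supportFun p = 18 := by decide

theorem supportFun_one : supportFun 1 = 0 := by decide

variable (π : H →* Equiv.Perm (Fin 3))

/-- The character-theoretic data of `supportFun ∘ π`. -/
theorem supportFun_comp_facts (hπ : Function.Surjective π) :
    classInner (fun h : H => (supportFun (π h) : ℂ)) (fun h : H => (supportFun (π h) : ℂ)) = 3 ∧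
    classInner (fun h : H => (supportFun (π h) : ℂ)) (fun _ : H => (1 : ℂ)) = 1 ∧
    (supportFun (π 1) : ℂ) = 0 ∧
    IsCharacter H (fun h : H => (CharSmallPerm.fp (Fin 3) (π h) : ℂ)) ∧
    (fun h : H => (supportFun (π h) : ℂ)) = ((fun _ => (1 : ℂ)) + (fun _ => (1 : ℂ)) +
      fun h => ((((Units.map (Int.castRingHom ℂ).toMonoidHom).comp Equiv.Perm.sign).comp π) h : ℂ)) -
        fun h : H => (CharSmallPerm.fp (Fin 3) (π h) : ℂ) := by
  classical
  let φ : H → ℂ := fun h => (supportFun (π h) : ℂ)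
  have hfib : ∀ f : Equiv.Perm (Fin 3) → ℂ,
      (Nat.card H : ℂ)⁻¹ * ∑ x : H, f (π x) = (6 : ℂ)⁻¹ * ∑ p : Equiv.Perm (Fin 3), f p := by
    intro f
    have e : ∑ x : H, f (π x) = ∑ p : Equiv.Perm (Fin 3), (Nat.card π.ker : ℂ) * f p := by
      rw [← Finset.sum_fiberwise_of_maps_to (g := π) (t := Finset.univ) (fun x _ => Finset.mem_univ _)]
      refine Finset.sum_congr rfl fun p _ => ?_
      rw [Finset.sum_congr rfl (fun x hx => by rw [(Finset.mem_filter.mp hx).2]), Finset.sum_const,
        nsmul_eq_mul]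
      congr 1
      obtain ⟨x₀, rfl⟩ := hπ p
      rw [Nat.card_eq_fintype_card, Fintype.card_subtype]
      congr 1
      refine Finset.card_bij (fun x _ => x₀⁻¹ * x) (fun x hx => ?_) (fun x _ y _ h => mul_left_cancel h)
        (fun k hk => ⟨x₀ * k, ?_, by group⟩)
      · simpa [MonoidHom.mem_ker, inv_mul_eq_one] using (Finset.mem_filter.mp hx).2.symm
      · simpa [MonoidHom.mem_ker] using (Finset.mem_filter.mp hk).2
    have hc : Nat.card H = Nat.card π.ker * 6 := by
      rw [π.ker.card_eq_card_quotient_mul_card_subgroup,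
        Nat.card_congr (QuotientGroup.quotientKerEquivOfSurjective π hπ).toEquiv,
        Nat.card_eq_fintype_card, Fintype.card_perm, Fintype.card_fin, mul_comm]
      rfl
    have hk0 : (Nat.card π.ker : ℂ) ≠ 0 := card_ne_zero_complex π.ker
    rw [e, ← Finset.mul_sum, hc]
    push_cast
    field_simp
  have hn : classInner φ φ = 3 := by
    simp only [classInner, φ, map_intCast]
    rw [hfib (fun p => (supportFun p : ℂ) * (supportFun p : ℂ))]
    rw [show ∑ p : Equiv.Perm (Fin 3), (supportFun p : ℂ) * (supportFun p : ℂ) = ((18 : ℤ) : ℂ) by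
      rw [← sum_supportFun_sq]; push_cast; rfl]
    norm_num
  have ht : classInner φ (fun _ : H => (1 : ℂ)) = 1 := by
    simp only [classInner, φ, map_one, mul_one]
    rw [hfib (fun p => (supportFun p : ℂ))]
    rw [show ∑ p : Equiv.Perm (Fin 3), (supportFun p : ℂ) = ((6 : ℤ) : ℂ) by rw [← sum_supportFun]; push_cast; rfl]
    norm_num
  have h10 : φ 1 = 0 := by
    simp [φ, supportFun_one]
  exact ⟨hn, ht, h10,
    isCharacter_comp (CharSmallPerm.isCharacter_fp (G := Equiv.Perm (Fin 3)) (α := Fin 3)) π,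
    funext fun h => by simp [supportFun]; ring⟩

/-- The lifted sign through a map onto `Sym 3`. -/
theorem exists_sign_lift (hπ : Function.Surjective π)
    (hTI : ∀ x : H, orderOf (π x) = 3 → ∀ g : G, g * (x : G) * g⁻¹ ∈ H → g ∈ H)
    (u : G) (hu : ∀ x : H, orderOf (π x) = 3 → ¬ IsConj (x : G) u)
    (hw : ∀ (x y : G) (h : x * y ∈ H), IsConj x u → IsConj y u → orderOf (π ⟨x * y, h⟩) ≠ 3)
    (hsup : ∀ K : Subgroup G, K.Normal → u ∈ K → K ⊔ H = ⊤) :
    ∃ l : G →* ℂˣ, l u = 1 ∧ ∀ h : H, l h = ((Equiv.Perm.sign (π h) : ℤˣ).map (Int.castRingHom ℂ).toMonoidHom) := by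
  classical
  have hF : ∀ p, supportFun p ≠ 0 ↔ orderOf p = 3 := by
    intro p
    rw [supportFun_ne_zero]
    constructor
    · rintro ⟨h, hne⟩; exact orderOf_eq_prime h hne
    · intro h
      refine ⟨?_, fun e => by rw [e, orderOf_one] at h; omega⟩
      have := pow_orderOf_eq_one p
      rwa [h] at this
  let lS : Equiv.Perm (Fin 3) →* ℂˣ :=
    (Units.map (Int.castRingHom ℂ).toMonoidHom).comp Equiv.Perm.sign
  let Q : H → ℂ := fun h => (CharSmallPerm.fp (Fin 3) (π h) : ℂ)
  have hQ : IsCharacter H Q :=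
    isCharacter_comp (CharSmallPerm.isCharacter_fp (G := Equiv.Perm (Fin 3)) (α := Fin 3)) π
  let φ : H → ℂ := fun h => (supportFun (π h) : ℂ)
  have hφ : φ = ((fun _ => (1 : ℂ)) + (fun _ => (1 : ℂ)) + fun h => ((lS.comp π) h : ℂ)) - Q := by
    funext h; simp [φ, supportFun, Q, lS]; ring
  have hsupp : ∀ x : H, φ x ≠ 0 → orderOf (π x) = 3 := fun x hx =>
    (hF _).mp (by simpa [φ] using hx)
  obtain ⟨hn, ht, h10, -, -⟩ := supportFun_comp_facts π hπ
  obtain ⟨a, ha1, hau, hin⟩ := exists_kernel_char (φ := φ)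
    ⟨_, _, isCharacter_add (isCharacter_add isCharacter_one isCharacter_one)
      (isCharacter_of_isIrr (isIrrCharacter_linear (lS.comp π))), hQ, hφ⟩
    (fun x hx => hTI x (hsupp x hx)) h10 hn ht u (fun x hx => hu x (hsupp x hx))
    (fun x y h hx hy => by
      by_contra hne
      exact hw x y h hx hy (hsupp _ hne))
  have hac := isCharacter_of_isIrr a.2
  have huK : u ∈ charKer (a : G → ℂ) := (mem_charKer hac).mpr hau
  obtain ⟨l, hl, hlH⟩ := exists_hom_of_inner_one (lS.comp π) hQ hφ ha1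
    (hsup _ (charKer_normal hac) huK) hin
  refine ⟨l, Units.ext ?_, fun h => hlH h⟩
  rw [hl, hau, ← hl 1]; simp

end S3

end Cfsg.Agent.Lib.Involution
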